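import Cfsg.Agent.TwoR.CaseIIAct
import Cfsg.Agent.SmallOrder.Exclude1512

/-!
An element outside `C(T)` fixing an involution of `T`: the group would be doubly transitive on
`1 + |T|` points with a point stabiliser of order `|T| (|T| - 1) r`; this forces `r = 3` and
`|T| = 8`, thus order `1512`, which is impossible.
-/

set_option autoImplicit false
set_option linter.unusedSectionVars false

open Subgroup

namespace Cfsg.Agent.TwoR

universe u

variable {G : Type u} [Group G] [Finite G] {r : ℕ} [IsSimpleGroup G] {T : Sylow 2 G}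

theorem invol_mul_self {g : G} (hg : orderOf g = 2) : g * g = 1 ∧ g⁻¹ = g := by
  have h : g * g = 1 := by rw [← pow_two, ← hg, pow_orderOf_eq_one]
  exact ⟨h, inv_eq_of_mul_eq_one_right h⟩

/-- An involution normalising a subgroup and fixing only `1` inverts it. -/
theorem conj_eq_inv_of_fpf {z : G} (hz : orderOf z = 2) {C : Subgroup G}
    (hC : ∀ c ∈ C, z * c * z ∈ C) (hfix : ∀ c ∈ C, Commute c z → c = 1) {c : G} (hc : c ∈ C) :
    z * c * z = c⁻¹ := by
  obtain ⟨hzz, -⟩ := invol_mul_self hz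
  let φ : C →* C := MonoidHom.mk' (fun c => ⟨z * c * z, hC c c.2⟩) fun a b => Subtype.ext (by
    show z * ((a : G) * b) * z = z * a * z * (z * b * z)
    calc z * ((a : G) * b) * z = z * a * (z * z) * b * z := by rw [hzz]; group
      _ = z * a * z * (z * b * z) := by group)
  have hfree : MonoidHom.FixedPointFree φ := fun c hc' => Subtype.ext (hfix c c.2 (by
    have h1 : z * (c : G) * z = c := congrArg Subtype.val hc'
    show (c : G) * z = z * c
    calc (c : G) * z = z * c * z * z := by rw [h1]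
      _ = z * c := by rw [mul_assoc, hzz, mul_one]))
  have hinv : Function.Involutive φ := fun c => Subtype.ext (by
    show z * (z * (c : G) * z) * z = c
    calc z * (z * (c : G) * z) * z = (z * z) * c * (z * z) := by group
      _ = c := by rw [hzz, one_mul, mul_one])
  have h := congrFun (MonoidHom.FixedPointFree.coe_eq_inv_of_involutive hfree hinv) ⟨c, hc⟩
  exact congrArg Subtype.val h

/-- The normal subgroup of index `r` of `N(T)`. -/
structure Kern (T : Sylow 2 G) (r : ℕ) (K : Subgroup G) : Prop extends Loc T r where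
  le : (T : Subgroup G) ≤ K
  le_NT : K ≤ NT T
  cardK : Nat.card K = Nat.card (T : Subgroup G) * (Nat.card (T : Subgroup G) - 1)
  not_dvd : ¬ r ∣ Nat.card (T : Subgroup G) - 1
  cardN : Nat.card (NT T) = Nat.card K * r
  mem : ∀ g ∈ NT T, ¬ r ∣ orderOf g → g ∈ K
  dvd : ∀ D : Subgroup G, D ≤ NT T → Nat.card D ∣ Nat.card (K ⊓ D : Subgroup G) * r
  cent : centralizer ((T : Subgroup G) : Set G) ≤ (T : Subgroup G)

theorem Loc.exists_kern (L : Loc T r) {x a : G} (hx : x ∈ NT T)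
    (hxC : x ∉ centralizer ((T : Subgroup G) : Set G)) (ha : a ∈ (T : Subgroup G)) (ha1 : a ≠ 1)
    (hxa : Commute x a) : ∃ K : Subgroup G, Kern T r K := by
  classical
  have H := L.hyp
  have : Fact (Nat.Prime 2) := ⟨Nat.prime_two⟩
  have := Fact.mk H.prime
  letI : CommGroup (T : Subgroup G) :=
    { (inferInstance : Group (T : Subgroup G)) with
      mul_comm := fun a b => (H.sylow_comm T).is_comm.comm a b }
  obtain ⟨k, hk⟩ := T.2.exists_card_eq
  have hk2 : 2 ≤ k := by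
    have h4 := H.four_le_card T
    rw [hk, show (4 : ℕ) = 2 ^ 2 by norm_num] at h4
    exact (Nat.pow_le_pow_iff_right one_lt_two).1 h4
  obtain ⟨g₀, hg₀⟩ : ∃ g, g ∉ NT T := by
    by_contra h
    push Not at h
    exact L.NT_ne_top (top_le_iff.1 fun g _ => h g)
  obtain ⟨w₀, hw₀, hw₀M, -⟩ := L.exists_swap hg₀
  have hfixc : ∀ (g : NT T) (v : (T : Subgroup G)), act T g v = v → Commute (g : G) v := by
    intro g v hv
    have h1 := act_apply T g v
    rw [hv] at h1
    exact (mul_inv_eq_iff_eq_mul.1 h1.symm)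
  have hxa' : act T ⟨x, hx⟩ ⟨a, ha⟩ = ⟨a, ha⟩ := Subtype.ext (by
    rw [act_apply]
    show x * a * x⁻¹ = a
    rw [hxa.eq, mul_inv_cancel_right])
  obtain ⟨N, hNn, hNidx, hNcard, hNr⟩ := exists_normal_complement (act T).range.subtype
    H.prime H.ne_two hk hk2 Subtype.val_injective H.act_range_odd
    (fun v w hv hw => by
      obtain ⟨d, hd, -, he⟩ := L.exists_trans hw₀ hw₀M v.2 (fun e => hv (Subtype.ext e)) w.2
        (fun e => hw (Subtype.ext e))
      exact ⟨⟨_, ⟨d, hd⟩, rfl⟩, Subtype.ext he⟩)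
    (fun g hg => H.act_order g hg)
    (by
      rintro ⟨_, g, rfl⟩ v hv hgv
      have hvt : orderOf (v : G) = 2 := H.sylow_invol T v.2 fun e => hv (Subtype.ext e)
      have h1 : orderOf (act T g) ∣ 2 * r := by
        refine (orderOf_map_dvd (act T) g).trans ?_
        rw [← Subgroup.orderOf_coe]
        rcases H.orderOf_of_commute_invol hvt (hfixc g v hgv) with h | h | h | h <;> rw [h]
        · exact one_dvd _
        · exact dvd_mul_right 2 r
        · exact dvd_mul_left r 2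
      have h2 : Odd (orderOf (act T g)) := Odd.of_dvd_nat H.act_range_odd (by
        have := orderOf_dvd_natCard (⟨act T g, g, rfl⟩ : (act T).range)
        rwa [← Subgroup.orderOf_coe] at this)
      exact Subtype.ext (orderOf_dvd_iff_pow_eq_one.1
        ((Nat.coprime_two_right.2 h2).dvd_of_dvd_mul_left h1)))
    (x := ⟨act T ⟨x, hx⟩, ⟨x, hx⟩, rfl⟩) (a := ⟨a, ha⟩)
    (fun e => hxC ((act_eq_one_iff T ⟨x, hx⟩).1 (congrArg Subtype.val e)))
    (fun e => ha1 (congrArg Subtype.val e)) hxa'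
  set f := (act T).rangeRestrict with hf
  have hfs : Function.Surjective f := MonoidHom.rangeRestrict_surjective _
  set K' := N.comap f with hK'
  have : K'.Normal := hNn.comap f
  have hKidx : K'.index = r := by rw [hK', Subgroup.index_comap_of_surjective _ hfs, hNidx]
  have hcardA : Nat.card (act T).range = (2 ^ k - 1) * r := by
    rw [← Subgroup.card_mul_index N, hNcard, hNidx]
  have hKcard : Nat.card K' * r = Nat.card (NT T) := hKidx ▸ Subgroup.card_mul_index K'
  have hNK : (2 ^ k - 1) ∣ Nat.card K' := by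
    refine (Nat.mul_dvd_mul_iff_right H.prime.pos).1 ?_
    rw [hKcard, ← hcardA]
    exact Subgroup.card_range_dvd (act T)
  have hmem : ∀ g : NT T, ¬ r ∣ orderOf (g : G) → g ∈ K' := by
    intro g hg
    have h1 : orderOf (QuotientGroup.mk' K' g) ∣ r := by
      rw [← hKidx, Subgroup.index_eq_card]
      exact orderOf_dvd_natCard _
    have h2 : orderOf (QuotientGroup.mk' K' g) ∣ orderOf (g : G) := by
      rw [Subgroup.orderOf_coe]; exact orderOf_map_dvd _ g
    have h3 := Nat.eq_one_of_dvd_coprimes (H.prime.coprime_iff_not_dvd.2 hg) h1 h2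
    rwa [orderOf_eq_one_iff, QuotientGroup.mk'_apply, QuotientGroup.eq_one_iff] at h3
  -- the odd part of `C(T)` is trivial
  have hW : coreOf (T : Subgroup G) = ⊥ := by
    rw [Subgroup.eq_bot_iff_forall]
    intro w hw
    by_contra hw1
    have hge : 4 ≤ 2 ^ k := hk ▸ H.four_le_card T
    obtain ⟨s, hs, hsd⟩ := Nat.exists_prime_and_dvd (n := 2 ^ k - 1) (by omega)
    have hsr : s ≠ r := fun e => hNr (e ▸ hsd)
    have hs2 : s ≠ 2 := by
      rintro rfl
      have h1 : 2 ∣ 2 ^ k := dvd_pow_self 2 (by omega)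
      omega
    have := Fact.mk hs
    obtain ⟨S⟩ := (inferInstance : Nonempty (Sylow s K'))
    set S₀ := (S : Subgroup K').map K'.subtype with hS₀
    have hFr : normalizer (S₀ : Set (NT T)) ⊔ K' = ⊤ := Sylow.normalizer_sup_eq_top S
    obtain ⟨n, hnN, hnK⟩ : ∃ n ∈ normalizer (S₀ : Set (NT T)), n ∉ K' := by
      by_contra h
      push Not at h
      have h1 : K' = ⊤ := top_le_iff.1 (hFr.ge.trans (sup_le h le_rfl))
      rw [h1, Subgroup.index_top] at hKidx
      exact H.prime.ne_one hKidx.symm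
    have hrn : r ∣ orderOf n := by
      by_contra h
      exact hnK (hmem n (by rwa [Subgroup.orderOf_coe]))
    set y := n ^ (orderOf n / r) with hy
    have hyr : orderOf (y : G) = r := by
      rw [Subgroup.orderOf_coe]; exact orderOf_pow_orderOf_div (orderOf_pos n).ne' hrn
    set Q := S₀.map (NT T).subtype with hQ
    have hQp : IsPGroup s Q := (S.2.map _).map _
    have hyQ : (y : G) ∈ normalizer (Q : Set G) :=
      Subgroup.le_normalizer_map (NT T).subtype ⟨y, pow_mem hnN _, rfl⟩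
    have hQN : Q ≤ NT T := Subgroup.map_subtype_le _
    have hNW : NT T ≤ normalizer ((coreOf (T : Subgroup G)) : Set G) := by
      intro m hm
      rw [Subgroup.mem_normalizer_iff]
      refine fun v => ⟨H.coreOf_conj T hm, fun hv => ?_⟩
      have h1 := H.coreOf_conj T (inv_mem hm) hv
      rwa [show m⁻¹ * (m * v * m⁻¹) * m⁻¹⁻¹ = v by group] at h1
    have hWp : IsPGroup r (coreOf (T : Subgroup G)) :=
      fun v => ⟨1, Subtype.ext (by simpa using H.coreOf_pow T v.2)⟩
    have hQr : ¬ r ∣ Nat.card Q := by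
      obtain ⟨m, hm⟩ := hQp.exists_card_eq
      rw [hm]
      exact fun h => hsr ((Nat.prime_dvd_prime_iff_eq H.prime hs).1 (H.prime.dvd_of_dvd_pow h)).symm
    have hfix : ∀ q ∈ Q, Commute q (y : G) → q = 1 := by
      intro q hq hc
      by_contra hq1
      obtain ⟨m, hm⟩ := hQp.exists_card_eq
      obtain ⟨j, -, hj⟩ := (Nat.dvd_prime_pow hs).1 (hm ▸ Subgroup.orderOf_dvd_natCard Q hq)
      have hj0 : j ≠ 0 := by rintro rfl; rw [pow_zero, orderOf_eq_one_iff] at hj; exact hq1 hj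
      have hd : s ∣ orderOf q := hj ▸ dvd_pow_self s hj0
      exact H.not_commute_of_prime hs hs2 hsr
        (orderOf_pow_orderOf_div (orderOf_pos q).ne' hd) (Or.inr hyr) (hc.pow_left _)
    have hpow : ∀ v ∈ coreOf (T : Subgroup G), ∀ q ∈ Q, (v * (q * (y : G) * q⁻¹)) ^ r = 1 := by
      intro v hv q hq
      have hzp : IsPGroup r (zpowers (q * (y : G) * q⁻¹)) := IsPGroup.of_card (n := 1) (by
        rw [Nat.card_zpowers, orderOf_conj_eq, hyr, pow_one])
      have h2 := hzp.to_sup_of_normal_right' hWp (Subgroup.zpowers_le.2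
        (hNW (mul_mem (mul_mem (hQN hq) y.2) (inv_mem (hQN hq)))))
      exact H.pow_eq_one_of_mem h2 (mul_mem (Subgroup.mem_sup_right hv)
        (Subgroup.mem_sup_left (Subgroup.mem_zpowers _)))
    have hcen := le_centralizer_of_pow H.prime H.prime
      (by rw [← hyr, pow_orderOf_eq_one]) hyQ hQr hfix hWp (hQN.trans hNW) (hNW y.2) hpow
    have hsQ : s ∣ Nat.card Q := by
      rw [hQ, hS₀, Subgroup.card_map_of_injective (NT T).subtype_injective,
        Subgroup.card_map_of_injective K'.subtype_injective]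
      exact S.dvd_card_of_dvd_card (hsd.trans hNK)
    obtain ⟨q, hq⟩ := exists_prime_orderOf_dvd_card' (G := Q) s hsQ
    refine H.not_commute_of_prime hs hs2 hsr (g := (q : G)) ((Subgroup.orderOf_coe q).trans hq)
      (Or.inr (orderOf_eq_prime (H.coreOf_pow T hw) hw1)) ?_
    exact (Subgroup.mem_centralizer_iff.1 (hcen q.2) w hw).symm
  have hCT : centralizer ((T : Subgroup G) : Set G) ≤ (T : Subgroup G) := by
    intro g hg
    obtain ⟨t, ht, w, hw, rfl⟩ := H.exists_mul_of_centralizer T hg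
    rw [hW, Subgroup.mem_bot] at hw
    rwa [hw, mul_one]
  have hker : (act T).ker = (T : Subgroup G).subgroupOf (NT T) := by
    ext g
    rw [MonoidHom.mem_ker, act_eq_one_iff, Subgroup.mem_subgroupOf]
    exact ⟨fun h => hCT h, fun h => H.le_centralizer_self T h⟩
  have hcardNT : Nat.card (NT T) = 2 ^ k * ((2 ^ k - 1) * r) := by
    rw [← Subgroup.card_mul_index (act T).ker, Subgroup.index_ker, hcardA, hker,
      Nat.card_congr (Subgroup.subgroupOfEquivOfLe Subgroup.le_normalizer).toEquiv, hk]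
  have hcardK : Nat.card (K'.map (NT T).subtype) = Nat.card K' :=
    Subgroup.card_map_of_injective (NT T).subtype_injective
  refine ⟨K'.map (NT T).subtype, L, fun t ht => ?_, Subgroup.map_subtype_le _, ?_, by rwa [hk], ?_,
    fun g hg hgr => ⟨⟨g, hg⟩, hmem _ hgr, rfl⟩, ?_, hCT⟩
  · refine ⟨⟨t, Subgroup.le_normalizer ht⟩, ?_, rfl⟩
    have h1 : f ⟨t, Subgroup.le_normalizer ht⟩ = 1 :=
      Subtype.ext ((act_eq_one_iff T _).2 (H.le_centralizer_self T ht))
    show f ⟨t, _⟩ ∈ N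
    rw [h1]
    exact one_mem N
  · rw [hcardK, hk]
    refine Nat.eq_of_mul_eq_mul_right H.prime.pos ?_
    rw [hKcard, hcardNT, mul_assoc]
  · rw [hcardK, hKcard]
  · intro D hD
    have h1 := Subgroup.relIndex_dvd_index_of_normal (H := K') (K := D.subgroupOf (NT T))
    rw [hKidx] at h1
    have h2 : Nat.card (D.subgroupOf (NT T)) =
        Nat.card (K' ⊓ D.subgroupOf (NT T) : Subgroup (NT T)) *
          K'.relIndex (D.subgroupOf (NT T)) := by
      rw [← Subgroup.inf_relIndex_right, ← Subgroup.relIndex_bot_left,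
        ← Subgroup.relIndex_bot_left, Subgroup.relIndex_mul_relIndex _ _ _ bot_le inf_le_right]
    rw [Nat.card_congr (Subgroup.subgroupOfEquivOfLe hD).toEquiv] at h2
    have h3 : Nat.card (K' ⊓ D.subgroupOf (NT T) : Subgroup (NT T)) =
        Nat.card (K'.map (NT T).subtype ⊓ D : Subgroup G) := by
      rw [← Subgroup.card_map_of_injective (NT T).subtype_injective,
        Subgroup.map_inf _ _ _ (NT T).subtype_injective, Subgroup.map_subgroupOf_eq_of_le hD]
    rw [h2, ← h3]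
    exact mul_dvd_mul_left _ h1

/-- The part of `K` keeping the point `u` fixed. -/
def qsub (T : Sylow 2 G) (K : Subgroup G) (u : G) : Subgroup G :=
  K ⊓ (NT T).comap (MulAut.conj u).toMonoidHom

variable {K : Subgroup G} (S : Kern T r K)

include S

theorem Kern.mem_qsub {u g : G} (hu : orderOf u = 2) :
    g ∈ qsub T K u ↔ g ∈ K ∧ u * g * u ∈ NT T := by
  rw [qsub, Subgroup.mem_inf, Subgroup.mem_comap]
  show g ∈ K ∧ u * g * u⁻¹ ∈ NT T ↔ _
  rw [(invol_mul_self hu).2]

theorem Kern.not_dvd_of_mem {g : G} (hg : g ∈ K) : ¬ r ∣ orderOf g := by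
  intro h
  have h1 := h.trans (Subgroup.orderOf_dvd_natCard K hg)
  rw [S.cardK] at h1
  have : Fact (Nat.Prime 2) := ⟨Nat.prime_two⟩
  obtain ⟨k, hk⟩ := T.2.exists_card_eq
  rcases S.hyp.prime.dvd_mul.1 h1 with h2 | h2
  · rw [hk] at h2
    exact S.hyp.ne_two
      ((Nat.prime_dvd_prime_iff_eq S.hyp.prime Nat.prime_two).1 (S.hyp.prime.dvd_of_dvd_pow h2))
  · exact S.not_dvd h2

/-- An element of `K` commuting with an involution is in `T`. -/
theorem Kern.mem_sylow_of_commute {g t : G} (hg : g ∈ K) (ht : orderOf t = 2)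
    (hc : Commute g t) : g ∈ (T : Subgroup G) := by
  rcases S.hyp.orderOf_of_commute_invol ht hc with h | h | h | h
  · rw [orderOf_eq_one_iff.1 h]; exact one_mem _
  · exact S.toLoc.invol_mem h (S.le_NT hg)
  · exact absurd (dvd_of_eq h.symm) (S.not_dvd_of_mem hg)
  · exact absurd (h ▸ dvd_mul_left r 2) (S.not_dvd_of_mem hg)

theorem Kern.card_le {X : Subgroup G} (hX : X ≤ K)
    (hXT : ∀ g ∈ X, g ∈ (T : Subgroup G) → g = 1) :
    Nat.card X ≤ Nat.card (T : Subgroup G) - 1 ∧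
      (Nat.card X = Nat.card (T : Subgroup G) - 1 →
        ∀ g ∈ K, ∃ t ∈ (T : Subgroup G), ∃ e ∈ X, g = t * e) := by
  let f : ↥(T : Subgroup G) × X → K := fun p => ⟨(p.1 : G) * p.2, mul_mem (S.le p.1.2) (hX p.2.2)⟩
  have hinj : Function.Injective f := by
    rintro ⟨t, e⟩ ⟨t', e'⟩ h
    have h1 : (t : G) * e = t' * e' := congrArg Subtype.val h
    have h2 : (t' : G)⁻¹ * t = e' * (e : G)⁻¹ := by
      calc (t' : G)⁻¹ * t = (t' : G)⁻¹ * (t * e) * (e : G)⁻¹ := by group
        _ = e' * (e : G)⁻¹ := by rw [h1]; group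
    have h3 := hXT _ (mul_mem e'.2 (inv_mem e.2)) (h2 ▸ mul_mem (inv_mem t'.2) t.2)
    rw [h3] at h2
    exact Prod.ext (Subtype.ext (inv_mul_eq_one.1 h2).symm) (Subtype.ext (mul_inv_eq_one.1 h3).symm)
  have h := Nat.card_le_card_of_injective f hinj
  rw [Nat.card_prod, S.cardK] at h
  refine ⟨Nat.le_of_mul_le_mul_left h Nat.card_pos, fun he g hg => ?_⟩
  obtain ⟨⟨t, e⟩, hte⟩ := ((Nat.bijective_iff_injective_and_card f).2
    ⟨hinj, by rw [Nat.card_prod, S.cardK, he]⟩).2 ⟨g, hg⟩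
  exact ⟨t, t.2, e, e.2, (congrArg Subtype.val hte).symm⟩

variable {u : G} (hu : orderOf u = 2) (huM : u ∉ NT T)

include hu huM

theorem Kern.eq_one_of_qsub {g : G} (hgT : g ∈ (T : Subgroup G)) (hg : g ∈ qsub T K u) :
    g = 1 := by
  by_contra h
  have h1 := S.toLoc.invol_not_fix hgT h huM
  rw [(invol_mul_self hu).2] at h1
  exact h1 ((S.mem_qsub hu).1 hg).2

theorem Kern.card_qsub : Nat.card (qsub T K u) = Nat.card (T : Subgroup G) - 1 := by
  classical
  refine le_antisymm (S.card_le (fun g hg => ((S.mem_qsub hu).1 hg).1)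
    fun g hg hgT => S.eq_one_of_qsub hu huM hgT hg).1 ?_
  obtain ⟨a, ha, ha1⟩ := S.hyp.exists_sylow_invol T
  set D : Subgroup G := NT T ⊓ (NT T).comap (MulAut.conj u).toMonoidHom with hD
  letI : MulAction D (T : Subgroup G) :=
    MulAction.compHom _ ((act T).comp (Subgroup.inclusion (inf_le_left : D ≤ NT T)))
  have horb : MulAction.orbit D (⟨a, ha⟩ : (T : Subgroup G)) = ({1} : Set (T : Subgroup G))ᶜ := by
    ext v
    constructor
    · rintro ⟨g, rfl⟩ h
      change act T _ (⟨a, ha⟩ : (T : Subgroup G)) = 1 at h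
      exact ha1 (congrArg Subtype.val ((act T _).injective (h.trans (map_one _).symm)))
    · intro hv
      obtain ⟨d, hd, hd', he⟩ := S.toLoc.exists_trans hu huM ha ha1 v.2
        (fun e => hv (Subtype.ext e))
      refine ⟨⟨d, hd, ?_⟩, Subtype.ext he⟩
      show u * d * u⁻¹ ∈ NT T
      rwa [(invol_mul_self hu).2]
  have h1 : Nat.card (T : Subgroup G) - 1 ∣ Nat.card D := by
    have h2 := Subgroup.index_dvd_card (MulAction.stabilizer D (⟨a, ha⟩ : (T : Subgroup G)))
    rwa [MulAction.index_stabilizer, horb, Set.ncard_compl, Set.ncard_singleton] at h2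
  have h2 := h1.trans (S.dvd D inf_le_left)
  have h3 : K ⊓ D = qsub T K u := by
    rw [hD, qsub, ← inf_assoc, inf_eq_left.2 S.le_NT]
  rw [h3] at h2
  exact Nat.le_of_dvd Nat.card_pos
    (((S.hyp.prime.coprime_iff_not_dvd.2 S.not_dvd).symm).dvd_of_dvd_mul_right h2)

theorem Kern.conj_qsub {q : G} (hq : q ∈ qsub T K u) : u * q * u = q⁻¹ := by
  obtain ⟨huu, hui⟩ := invol_mul_self hu
  refine conj_eq_inv_of_fpf hu (C := qsub T K u) (fun c hc => ?_) (fun c hc hcu => ?_) hq
  · obtain ⟨hcK, hcu⟩ := (S.mem_qsub hu).1 hc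
    refine (S.mem_qsub hu).2 ⟨S.mem _ hcu ?_, ?_⟩
    · have h1 := orderOf_conj_eq u c
      rw [hui] at h1
      rw [h1]
      exact S.not_dvd_of_mem hcK
    · rw [show u * (u * c * u) * u = (u * u) * c * (u * u) by group, huu, one_mul, mul_one]
      exact S.le_NT hcK
  · exact S.eq_one_of_qsub hu huM
      (S.mem_sylow_of_commute ((S.mem_qsub hu).1 hc).1 hu hcu) hc

theorem Kern.qsub_comm {p q : G} (hp : p ∈ qsub T K u) (hq : q ∈ qsub T K u) : Commute p q := by
  obtain ⟨huu, -⟩ := invol_mul_self hu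
  have h1 := S.conj_qsub hu huM (mul_mem hp hq)
  have h2 : u * (p * q) * u = p⁻¹ * q⁻¹ := by
    calc u * (p * q) * u = u * p * (u * u) * q * u := by rw [huu]; group
      _ = (u * p * u) * (u * q * u) := by group
      _ = p⁻¹ * q⁻¹ := by rw [S.conj_qsub hu huM hp, S.conj_qsub hu huM hq]
  rw [h2] at h1
  have h3 := congrArg Inv.inv h1
  rw [mul_inv_rev, inv_inv, inv_inv, inv_inv] at h3
  exact h3.symm

theorem Kern.exists_prime_qsub : ∃ q ∈ qsub T K u, ∃ s : ℕ, s.Prime ∧ s ≠ 2 ∧ s ≠ r ∧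
    orderOf q = s := by
  have : Fact (Nat.Prime 2) := ⟨Nat.prime_two⟩
  have h4 := S.hyp.four_le_card T
  obtain ⟨s, hs, hsd⟩ := Nat.exists_prime_and_dvd (n := Nat.card (T : Subgroup G) - 1) (by omega)
  have := Fact.mk hs
  obtain ⟨q, hq⟩ := exists_prime_orderOf_dvd_card' (G := qsub T K u) s
    (by rwa [S.card_qsub hu huM])
  refine ⟨q, q.2, s, hs, ?_, fun e => S.not_dvd (e ▸ hsd), (Subgroup.orderOf_coe q).trans hq⟩
  rintro rfl
  obtain ⟨k, hk⟩ := T.2.exists_card_eq
  rw [hk] at hsd h4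
  rcases k with - | k
  · omega
  · rw [pow_succ] at hsd h4; omega

/-- An element commuting with a non-trivial element of `qsub` and with an involution is `1`. -/
theorem Kern.eq_one_of_commute {q c z : G} (hq : q ∈ qsub T K u) {s : ℕ} (hs : s.Prime)
    (hs2 : s ≠ 2) (hsr : s ≠ r) (hqs : orderOf q = s) (hz : orderOf z = 2) (hcq : Commute c q)
    (hcz : Commute c z) : c = 1 := by
  rcases S.hyp.orderOf_of_commute_invol hz hcz with h | h | h | h
  · exact orderOf_eq_one_iff.1 h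
  · exact absurd hcq.symm (S.hyp.not_commute_of_prime hs hs2 hsr hqs (Or.inl h))
  · exact absurd hcq.symm (S.hyp.not_commute_of_prime hs hs2 hsr hqs (Or.inr h))
  · refine absurd (hcq.symm.pow_right 2)
      (S.hyp.not_commute_of_prime hs hs2 hsr hqs (Or.inr ?_))
    rw [orderOf_pow, h, Nat.gcd_eq_right (dvd_mul_right 2 r), Nat.mul_div_cancel_left r two_pos]

/-- The subgroup `qsub` fixes only the two points. -/
theorem Kern.mul_mem_NT {v : G} (hv : orderOf v = 2) (hvM : v ∉ NT T)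
    (he : qsub T K v = qsub T K u) : v * u ∈ NT T := by
  by_contra hp
  obtain ⟨huu, hui⟩ := invol_mul_self hu
  obtain ⟨hvv, hvi⟩ := invol_mul_self hv
  obtain ⟨z, hz, hzM, hzp⟩ := S.toLoc.exists_swap hp
  obtain ⟨hzz, hzi⟩ := invol_mul_self hz
  rw [hzi] at hzp
  set p := v * u with hpdef
  have hpc : ∀ q ∈ qsub T K u, Commute p q := by
    intro q hq
    have h1 : u * q * u = q⁻¹ := S.conj_qsub hu huM hq
    have h2 : v * q⁻¹ * v = q := by
      rw [S.conj_qsub hv hvM (he.symm ▸ inv_mem hq : q⁻¹ ∈ qsub T K v), inv_inv]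
    show p * q = q * p
    calc p * q = v * (u * q * u) * (u * 1) := by
          rw [hpdef, mul_one, show v * (u * q * u) * u = v * u * q * (u * u) by group, huu]; group
      _ = v * q⁻¹ * (v * v) * u := by rw [h1, hvv]; group
      _ = (v * q⁻¹ * v) * (v * u) := by group
      _ = q * p := by rw [h2]
  set m := z * p with hm
  have hle : qsub T K u ≤ qsub T K z := by
    intro q hq
    refine (S.mem_qsub hz).2 ⟨((S.mem_qsub hu).1 hq).1, ?_⟩
    have hpq : p * q * p⁻¹ = q := by rw [(hpc q hq).eq, mul_inv_cancel_right]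
    have h1 := mul_mem (mul_mem hzp (S.le_NT ((S.mem_qsub hu).1 hq).1)) (inv_mem hzp)
    rwa [hm, mul_inv_rev, hzi, show z * p * q * (p⁻¹ * z) = z * (p * q * p⁻¹) * z by group,
      hpq] at h1
  have hez : qsub T K u = qsub T K z :=
    Subgroup.eq_of_le_of_card_ge hle (le_of_eq (by rw [S.card_qsub hz hzM, S.card_qsub hu huM]))
  obtain ⟨q₀, hq₀, s, hs, hs2, hsr, hq₀s⟩ := S.exists_prime_qsub hu huM
  set C := centralizer ((qsub T K u : Subgroup G) : Set G) with hC
  have hzinv : ∀ c ∈ C, z * c * z = c⁻¹ := fun c hc =>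
    conj_eq_inv_of_fpf hz (C := C) (fun c hc => Subgroup.mem_centralizer_iff.2 fun q hq => by
      have h1 := S.conj_qsub hz hzM (hez ▸ hq : q ∈ qsub T K z)
      have h2 : z * q⁻¹ * z = q := by
        rw [S.conj_qsub hz hzM (inv_mem (hez ▸ hq) : q⁻¹ ∈ qsub T K z), inv_inv]
      have h3 := Subgroup.mem_centralizer_iff.1 hc q⁻¹ (inv_mem hq)
      calc q * (z * c * z) = (z * q⁻¹ * z) * (z * c * z) := by rw [h2]
        _ = z * (q⁻¹ * (z * z) * c) * z := by group
        _ = z * (c * q⁻¹) * z := by rw [hzz, mul_one, h3]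
        _ = z * c * (z * z) * q⁻¹ * z := by rw [hzz, mul_one]; group
        _ = z * c * z * (z * q⁻¹ * z) := by group
        _ = z * c * z * q := by rw [h2])
      (fun c hc hcz => S.eq_one_of_commute hu huM hq₀ hs hs2 hsr hq₀s hz
        (Subgroup.mem_centralizer_iff.1 hc q₀ hq₀).symm hcz) hc
  have hpC : p ∈ C := Subgroup.mem_centralizer_iff.2 fun q hq => (hpc q hq).eq.symm
  have hmm : m * m = 1 := by
    rw [hm, show z * p * (z * p) = (z * p * z) * p by group, hzinv p hpC, inv_mul_cancel]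
  have hmT : m ∈ (T : Subgroup G) :=
    S.hyp.mem_sylow_of_normalizer T hzp (k := 1)
      (orderOf_dvd_of_pow_eq_one (by rw [pow_one, pow_two, hmm]))
  have hmq : m * q₀ * m⁻¹ = q₀⁻¹ := by
    rw [hm, mul_inv_rev, hzi, show z * p * q₀ * (p⁻¹ * z) = z * (p * q₀ * p⁻¹) * z by group,
      (hpc q₀ hq₀).eq, mul_inv_cancel_right]
    exact S.conj_qsub hz hzM (hez ▸ hq₀)
  have hmem : q₀⁻¹ * q₀⁻¹ ∈ (T : Subgroup G) := by
    have h1 := mul_mem hmT ((Subgroup.mem_normalizer_iff.1 (S.le_NT ((S.mem_qsub hu).1 hq₀).1)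
      m⁻¹).1 (inv_mem hmT))
    rwa [show m * (q₀ * m⁻¹ * q₀⁻¹) = (m * q₀ * m⁻¹) * q₀⁻¹ by group, hmq] at h1
  have h5 := S.eq_one_of_qsub hu huM hmem (mul_mem (inv_mem hq₀) (inv_mem hq₀))
  have h6 : q₀ ^ 2 = 1 := by
    rw [← inv_inj, ← inv_pow, pow_two, h5, inv_one]
  exact hs2 ((Nat.prime_dvd_prime_iff_eq hs Nat.prime_two).1
    (hq₀s ▸ orderOf_dvd_of_pow_eq_one h6))

/-- `T` is transitive on the points other than the base point. -/
theorem Kern.exists_coset {g : G} (hg : g ∉ NT T) :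
    ∃ t ∈ (T : Subgroup G), (t * u)⁻¹ * g ∈ NT T := by
  obtain ⟨huu, hui⟩ := invol_mul_self hu
  obtain ⟨v, hv, hvM, hvg⟩ := S.toLoc.exists_swap hg
  obtain ⟨q', hq', s, hs, hs2, hsr, hq's⟩ := S.exists_prime_qsub hv hvM
  obtain ⟨t₀, ht₀, q, hq, rfl⟩ := (S.card_le (fun e he => ((S.mem_qsub hu).1 he).1)
    fun e he heT => S.eq_one_of_qsub hu huM heT he).2 (S.card_qsub hu huM) q'
    ((S.mem_qsub hv).1 hq').1
  have hqN : q ∈ NT T := S.le_NT ((S.mem_qsub hu).1 hq).1
  have hq1 : q ≠ 1 := by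
    rintro rfl
    rw [mul_one] at hq' hq's
    rw [S.eq_one_of_qsub hv hvM ht₀ hq', orderOf_one] at hq's
    exact hs.ne_one hq's.symm
  let f : ↥(T : Subgroup G) → ↥(T : Subgroup G) := fun t => ⟨(t : G) * (q * (t : G)⁻¹ * q⁻¹),
    mul_mem t.2 ((Subgroup.mem_normalizer_iff.1 hqN _).1 (inv_mem t.2))⟩
  have hinj : Function.Injective f := by
    intro t t' h
    have h1 : (t : G) * (q * (t : G)⁻¹ * q⁻¹) = t' * (q * (t' : G)⁻¹ * q⁻¹) :=
      congrArg Subtype.val h
    by_contra hne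
    have h2 : Commute q ((t' : G)⁻¹ * t) := by
      show q * ((t' : G)⁻¹ * t) = (t' : G)⁻¹ * t * q
      calc q * ((t' : G)⁻¹ * t) = (t' : G)⁻¹ * (t' * (q * (t' : G)⁻¹ * q⁻¹)) * q * t := by group
        _ = (t' : G)⁻¹ * t * q := by rw [← h1]; group
    have h3 : (t' : G)⁻¹ * t ≠ 1 := fun e => hne (Subtype.ext (inv_mul_eq_one.1 e).symm)
    exact hq1 (S.eq_one_of_qsub hu huM (S.mem_sylow_of_commute ((S.mem_qsub hu).1 hq).1
      (S.hyp.sylow_invol T (mul_mem (inv_mem t'.2) t.2) h3) h2) hq)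
  obtain ⟨⟨t, ht⟩, hft⟩ := (Finite.injective_iff_surjective.1 hinj) ⟨t₀, ht₀⟩
  have hft' : t * (q * t⁻¹ * q⁻¹) = t₀ := congrArg Subtype.val hft
  have hqt : t * q * t⁻¹ = t₀ * q := by rw [← hft']; group
  set u' := t * u * t⁻¹ with hu'
  have hu'2 : orderOf u' = 2 := (orderOf_conj_eq t u).trans hu
  have htN : t ∈ NT T := Subgroup.le_normalizer ht
  have hu'M : u' ∉ NT T := fun h => huM (by
    have h6 := mul_mem (mul_mem (inv_mem htN) h) htN
    rwa [show t⁻¹ * u' * t = u by rw [hu']; group] at h6)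
  have hq'u : t₀ * q ∈ qsub T K u' := by
    refine (S.mem_qsub hu'2).2 ⟨((S.mem_qsub hv).1 hq').1, ?_⟩
    rw [← hqt, show u' * (t * q * t⁻¹) * u' = t * (u * q * u) * t⁻¹ by rw [hu']; group]
    exact mul_mem (mul_mem htN ((S.mem_qsub hu).1 hq).2) (inv_mem htN)
  set Z := K ⊓ centralizer ({t₀ * q} : Set G) with hZ
  have hZT : ∀ e ∈ Z, e ∈ (T : Subgroup G) → e = 1 := by
    intro e he heT
    by_contra he1
    have hc : Commute (t₀ * q) e := (Subgroup.mem_centralizer_singleton_iff.1 he.2).symm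
    have h1 := S.eq_one_of_qsub hv hvM (S.mem_sylow_of_commute ((S.mem_qsub hv).1 hq').1
      (S.hyp.sylow_invol T heT he1) hc) hq'
    rw [h1, orderOf_one] at hq's
    exact hs.ne_one hq's.symm
  have hZle := (S.card_le inf_le_left hZT).1
  have hsubv : qsub T K v = Z := Subgroup.eq_of_le_of_card_ge
    (fun e he => ⟨((S.mem_qsub hv).1 he).1,
      Subgroup.mem_centralizer_singleton_iff.2 (S.qsub_comm hv hvM he hq').eq⟩)
    (by rwa [S.card_qsub hv hvM])
  have hsubu : qsub T K u' = Z := Subgroup.eq_of_le_of_card_ge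
    (fun e he => ⟨((S.mem_qsub hu'2).1 he).1,
      Subgroup.mem_centralizer_singleton_iff.2 (S.qsub_comm hu'2 hu'M he hq'u).eq⟩)
    (by rwa [S.card_qsub hu'2 hu'M])
  have h7 := S.mul_mem_NT hu'2 hu'M hv hvM (hsubv.trans hsubu.symm)
  refine ⟨t, ht, ?_⟩
  have h8 := mul_mem (mul_mem (inv_mem htN) (inv_mem h7)) hvg
  convert h8 using 1
  rw [(invol_mul_self hv).2, hu', mul_inv_rev, mul_inv_rev, (invol_mul_self hv).2, mul_inv_rev,
    mul_inv_rev, hui, inv_inv]
  calc u * t⁻¹ * g = t⁻¹ * (t * (u * t⁻¹)) * ((v * v) * g) := by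
        rw [(invol_mul_self hv).1]; group
    _ = t⁻¹ * (t * (u * t⁻¹) * v) * (v * g) := by group

theorem Kern.index_eq : (NT T).index = Nat.card (T : Subgroup G) + 1 := by
  classical
  let f : Option (T : Subgroup G) → G ⧸ NT T := fun o =>
    o.elim ((1 : G) : G ⧸ NT T) fun t => (((t : G) * u : G) : G ⧸ NT T)
  have hne : ∀ t : (T : Subgroup G), (t : G) * u ∉ NT T := fun t h => huM (by
    have := mul_mem (inv_mem (Subgroup.le_normalizer t.2 : (t : G) ∈ NT T)) h
    rwa [inv_mul_cancel_left] at this)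
  have hbij : Function.Bijective f := by
    constructor
    · rintro (- | t) (- | t') h
      · rfl
      · exact absurd (by simpa using QuotientGroup.eq.1 h) (hne t')
      · exact absurd (by simpa using QuotientGroup.eq.1 h.symm) (hne t)
      · have h1 := QuotientGroup.eq.1 h
        by_contra hne'
        have h3 : (t : G)⁻¹ * t' ≠ 1 := fun e =>
          hne' (congrArg some (Subtype.ext (inv_mul_eq_one.1 e)))
        refine S.toLoc.invol_not_fix (mul_mem (inv_mem t.2) t'.2) h3 huM ?_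
        simpa [mul_assoc] using h1
    · intro q
      obtain ⟨g, rfl⟩ := QuotientGroup.mk_surjective q
      by_cases hg : g ∈ NT T
      · exact ⟨none, QuotientGroup.eq.2 (by simpa using hg)⟩
      · obtain ⟨t, ht, h⟩ := S.exists_coset hu huM hg
        exact ⟨some ⟨t, ht⟩, QuotientGroup.eq.2 h⟩
  rw [Subgroup.index_eq_card, ← Nat.card_congr (Equiv.ofBijective f hbij), Finite.card_option]

/-- The two point stabiliser contains an element of order `r` with a fixed involution. -/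
theorem Kern.exists_fix : ∃ x₀ ∈ NT T, u * x₀ * u ∈ NT T ∧ orderOf x₀ = r := by
  obtain ⟨huu, hui⟩ := invol_mul_self hu
  set D : Subgroup G := NT T ⊓ (NT T).comap (MulAut.conj u).toMonoidHom with hD
  let f : ↥(T : Subgroup G) × D → NT T := fun p =>
    ⟨(p.1 : G) * p.2, mul_mem (Subgroup.le_normalizer p.1.2) p.2.2.1⟩
  have hbij : Function.Bijective f := by
    constructor
    · rintro ⟨t, d⟩ ⟨t', d'⟩ h
      have h1 : (t : G) * d = t' * d' := congrArg Subtype.val h
      have h2 : (t' : G)⁻¹ * t = d' * (d : G)⁻¹ := by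
        calc (t' : G)⁻¹ * t = (t' : G)⁻¹ * (t * d) * (d : G)⁻¹ := by group
          _ = d' * (d : G)⁻¹ := by rw [h1]; group
      have h4 : (d' * d⁻¹ : D).1 ∈ (NT T).comap (MulAut.conj u).toMonoidHom := (d' * d⁻¹).2.2
      have h3 : (t' : G)⁻¹ * t = 1 := by
        by_contra h3
        refine S.toLoc.invol_not_fix (mul_mem (inv_mem t'.2) t.2) h3 huM ?_
        rw [h2, hui]
        simpa [hui] using h4
      rw [h3] at h2
      exact Prod.ext (Subtype.ext (inv_mul_eq_one.1 h3).symm)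
        (Subtype.ext (mul_inv_eq_one.1 h2.symm).symm)
    · intro m
      have hmu : (m : G) * u ∉ NT T := fun h => huM (by
        have := mul_mem (inv_mem m.2) h
        rwa [inv_mul_cancel_left] at this)
      obtain ⟨t, ht, h⟩ := S.exists_coset hu huM hmu
      have htN : t ∈ NT T := Subgroup.le_normalizer ht
      refine ⟨⟨⟨t, ht⟩, ⟨t⁻¹ * m, (mul_mem (inv_mem htN) m.2 : t⁻¹ * (m : G) ∈ NT T), ?_⟩⟩,
        Subtype.ext (mul_inv_cancel_left t m)⟩
      show u * (t⁻¹ * (m : G)) * u⁻¹ ∈ NT T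
      rw [mul_inv_rev, hui] at h
      rw [hui]
      simpa [mul_assoc] using h
  have hc := Nat.card_congr (Equiv.ofBijective f hbij)
  rw [Nat.card_prod, S.cardN, S.cardK, mul_assoc] at hc
  have := Fact.mk S.hyp.prime
  obtain ⟨x₀, hx₀r⟩ := exists_prime_orderOf_dvd_card' (G := D) r
    (Nat.eq_of_mul_eq_mul_left Nat.card_pos hc ▸ dvd_mul_left r _)
  rw [← Subgroup.orderOf_coe] at hx₀r
  refine ⟨x₀, x₀.2.1, ?_, hx₀r⟩
  have : u * (x₀ : G) * u⁻¹ ∈ NT T := x₀.2.2
  rwa [hui] at this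

omit hu huM

/-- An element of order `r` in `N(T)` fixes an involution. -/
theorem Kern.exists_fixed {y : G} (hy : y ∈ NT T) (hyr : orderOf y = r) :
    ∃ b ∈ (T : Subgroup G), b ≠ 1 ∧ Commute y b := by
  classical
  have := Fact.mk S.hyp.prime
  have := Fintype.ofFinite (T : Subgroup G)
  let σ : Equiv.Perm {v : (T : Subgroup G) // v ≠ 1} :=
    (act T ⟨y, hy⟩).toEquiv.subtypeEquiv (fun v => not_congr
      (map_eq_one_iff (act T ⟨y, hy⟩) (act T ⟨y, hy⟩).injective).symm)
  have hpow : ∀ j : ℕ, ∀ v, (((σ ^ j) v).1) = (act T ⟨y, hy⟩ ^ j) v.1 := by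
    intro j
    induction j with
    | zero => intro v; simp
    | succ j ih =>
      intro v
      rw [pow_succ', pow_succ', Equiv.Perm.mul_apply, MulAut.mul_apply, ← ih]
      rfl
  have hσ : σ ^ r ^ 1 = 1 := by
    refine Equiv.ext fun v => Subtype.ext ?_
    rw [pow_one, hpow, ← map_pow,
      show (⟨y, hy⟩ : NT T) ^ r = 1 from Subtype.ext (hyr ▸ pow_orderOf_eq_one y), map_one]
    rfl
  obtain ⟨v, hv⟩ := Equiv.Perm.exists_fixed_point_of_prime (p := r) (n := 1) (by
    rw [Fintype.card_subtype_compl, Fintype.card_subtype_eq, ← Nat.card_eq_fintype_card]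
    exact S.not_dvd) hσ
  refine ⟨v.1, v.1.2, fun e => v.2 (Subtype.ext e), ?_⟩
  have h1 := act_apply T ⟨y, hy⟩ v.1
  rw [show act T ⟨y, hy⟩ v.1 = v.1 from congrArg Subtype.val hv] at h1
  exact mul_inv_eq_iff_eq_mul.1 h1.symm

include hu huM

theorem Kern.conj_qsub_mem {x₀ q : G} (hx : x₀ ∈ NT T) (hxu : u * x₀ * u ∈ NT T)
    (hq : q ∈ qsub T K u) : x₀ * q * x₀⁻¹ ∈ qsub T K u := by
  obtain ⟨huu, hui⟩ := invol_mul_self hu
  obtain ⟨hqK, hqu⟩ := (S.mem_qsub hu).1 hq
  refine (S.mem_qsub hu).2 ⟨S.mem _ (mul_mem (mul_mem hx (S.le_NT hqK)) (inv_mem hx))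
    (by rw [orderOf_conj_eq]; exact S.not_dvd_of_mem hqK), ?_⟩
  have h := mul_mem (mul_mem hxu hqu) (inv_mem hxu)
  rwa [mul_inv_rev, mul_inv_rev, hui,
    show u * x₀ * u * (u * q * u) * (u * (x₀⁻¹ * u)) =
      u * x₀ * (u * u) * q * (u * u) * x₀⁻¹ * u by group, huu, mul_one, mul_one,
    show u * x₀ * q * x₀⁻¹ * u = u * (x₀ * q * x₀⁻¹) * u by group] at h

/-- A surjection `q ↦ q a q⁻¹` onto the involutions of `T`. -/
theorem Kern.exists_qsub_conj {a b : G} (ha : a ∈ (T : Subgroup G)) (ha1 : a ≠ 1)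
    (hb : b ∈ (T : Subgroup G)) (hb1 : b ≠ 1) : ∃ q ∈ qsub T K u, q * a * q⁻¹ = b := by
  classical
  have := Fintype.ofFinite (T : Subgroup G)
  have hN : ∀ q ∈ qsub T K u, q ∈ NT T := fun q hq => S.le_NT ((S.mem_qsub hu).1 hq).1
  let f : qsub T K u → {v : (T : Subgroup G) // v ≠ 1} := fun q =>
    ⟨⟨(q : G) * a * (q : G)⁻¹, (Subgroup.mem_normalizer_iff.1 (hN q q.2) a).1 ha⟩,
      fun e => ha1 (conj_eq_one_iff.1 (congrArg Subtype.val e))⟩
  have hinj : Function.Injective f := by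
    intro p q h
    have h1 : (p : G) * a * (p : G)⁻¹ = q * a * (q : G)⁻¹ :=
      congrArg (fun v => ((v.1 : (T : Subgroup G)) : G)) h
    have hmem := mul_mem (inv_mem q.2) p.2
    have h2 : Commute ((q : G)⁻¹ * p) a := by
      show (q : G)⁻¹ * p * a = a * ((q : G)⁻¹ * p)
      calc (q : G)⁻¹ * p * a = (q : G)⁻¹ * (p * a * (p : G)⁻¹) * p := by group
        _ = a * ((q : G)⁻¹ * p) := by rw [h1]; group
    have h3 := S.eq_one_of_qsub hu huM (S.mem_sylow_of_commute ((S.mem_qsub hu).1 hmem).1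
      (S.hyp.sylow_invol T ha ha1) h2) hmem
    exact Subtype.ext (inv_mul_eq_one.1 h3).symm
  obtain ⟨q, hq⟩ := ((Nat.bijective_iff_injective_and_card f).2 ⟨hinj, by
    rw [S.card_qsub hu huM, Nat.card_eq_fintype_card, Nat.card_eq_fintype_card,
      Fintype.card_subtype_compl, Fintype.card_subtype_eq]⟩).2
    ⟨⟨b, hb⟩, fun e => hb1 (congrArg Subtype.val e)⟩
  exact ⟨q, q.2, congrArg (fun v => ((v.1 : (T : Subgroup G)) : G)) hq⟩

variable {x₀ : G} (hx : x₀ ∈ NT T) (hxu : u * x₀ * u ∈ NT T) (hxr : orderOf x₀ = r)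

include hx hxu hxr

theorem Kern.qsub_fpf {q : G} (hq : q ∈ qsub T K u) (hc : Commute q x₀) : q = 1 := by
  have hqK := ((S.mem_qsub hu).1 hq).1
  rcases S.hyp.orderOf_of_commute_r hxr hc with h | h | h | h
  · exact orderOf_eq_one_iff.1 h
  · exact S.eq_one_of_qsub hu huM (S.toLoc.invol_mem h (S.le_NT hqK)) hq
  · exact absurd (dvd_of_eq h.symm) (S.not_dvd_of_mem hqK)
  · exact absurd (h ▸ dvd_mul_left r 2) (S.not_dvd_of_mem hqK)

/-- Only one involution of `T` commutes with an element of order `r`. -/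
theorem Kern.eq_of_commute {a b : G} (ha : a ∈ (T : Subgroup G)) (ha1 : a ≠ 1)
    (hb : b ∈ (T : Subgroup G)) (hb1 : b ≠ 1) (hxa : Commute x₀ a) (hxb : Commute x₀ b) :
    b = a := by
  obtain ⟨q, hq, he⟩ := S.exists_qsub_conj hu huM ha ha1 hb hb1
  set p := x₀ * q * x₀⁻¹ with hp
  have hp' := S.conj_qsub_mem hu huM hx hxu hq
  have h1 : p * a * p⁻¹ = q * a * q⁻¹ := by
    calc p * a * p⁻¹ = x₀ * (q * (x₀⁻¹ * a * x₀) * q⁻¹) * x₀⁻¹ := by rw [hp]; group
      _ = x₀ * b * x₀⁻¹ := by rw [mul_assoc x₀⁻¹, ← hxa.eq, inv_mul_cancel_left, he]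
      _ = q * a * q⁻¹ := by rw [hxb.eq, mul_inv_cancel_right, he]
  have hmem := mul_mem (inv_mem hq) hp'
  have h2 : Commute (q⁻¹ * p) a := by
    show q⁻¹ * p * a = a * (q⁻¹ * p)
    calc q⁻¹ * p * a = q⁻¹ * (p * a * p⁻¹) * p := by group
      _ = a * (q⁻¹ * p) := by rw [h1]; group
  have h3 := S.eq_one_of_qsub hu huM (S.mem_sylow_of_commute ((S.mem_qsub hu).1 hmem).1
    (S.hyp.sylow_invol T ha ha1) h2) hmem
  have h4 : q = p := inv_mul_eq_one.1 h3
  have h5 : Commute q x₀ := by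
    show q * x₀ = x₀ * q
    nth_rewrite 1 [h4]
    rw [hp, inv_mul_cancel_right]
  rw [← he, S.qsub_fpf hu huM hx hxu hxr hq h5, one_mul, inv_one, mul_one]

/-- Three points are fixed, and they are permuted cyclically: `r = 3`. -/
theorem Kern.r_eq_three {a : G} (ha : a ∈ (T : Subgroup G)) (ha1 : a ≠ 1)
    (hxa : Commute x₀ a) : r = 3 := by
  obtain ⟨huu, hui⟩ := invol_mul_self hu
  obtain ⟨haa, hai⟩ := invol_mul_self (S.hyp.sylow_invol T ha ha1)
  have hxr' : orderOf (u * x₀ * u) = r := by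
    have := orderOf_conj_eq u x₀
    rw [hui] at this
    rw [this, hxr]
  obtain ⟨b, hb, hb1, hxb⟩ := S.exists_fixed hxu hxr'
  obtain ⟨hbb, hbi⟩ := invol_mul_self (S.hyp.sylow_invol T hb hb1)
  have haN : a ∈ NT T := Subgroup.le_normalizer ha
  have hbN : b ∈ NT T := Subgroup.le_normalizer hb
  set b' := u * b * u with hb'
  have hxb' : Commute x₀ b' := by
    have h := (Commute.conj_iff u).2 hxb
    rwa [hui, show u * (u * x₀ * u) * u = (u * u) * x₀ * (u * u) by group, huu, one_mul,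
      mul_one] at h
  have hb'M : b' ∉ NT T := by
    have := S.toLoc.invol_not_fix hb hb1 huM
    rwa [hui] at this
  obtain ⟨t, ht, htb⟩ := S.exists_coset hu huM hb'M
  have htN : t ∈ NT T := Subgroup.le_normalizer ht
  have hxN : x₀⁻¹ ∈ NT T := inv_mem hx
  -- `t` commutes with `x₀`
  set t' := x₀ * t * x₀⁻¹ with ht'
  have ht'T : t' ∈ (T : Subgroup G) := (Subgroup.mem_normalizer_iff.1 hx t).1 ht
  have hxt : Commute x₀ t := by
    by_contra hne
    have h1 : t⁻¹ * t' ≠ 1 := by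
      intro e
      have e' : t = x₀ * t * x₀⁻¹ := inv_mul_eq_one.1 e
      apply hne
      show x₀ * t = t * x₀
      nth_rewrite 2 [e']
      rw [inv_mul_cancel_right]
    refine S.toLoc.invol_not_fix (mul_mem (inv_mem ht) ht'T) h1 huM ?_
    have h2 := mul_mem (mul_mem htb hx) (mul_mem (inv_mem htb) (inv_mem hxu))
    have h3 : (t * u)⁻¹ * b' * x₀ * (((t * u)⁻¹ * b')⁻¹ * (u * x₀ * u)⁻¹) =
        u⁻¹ * (t⁻¹ * t') * u := by
      calc (t * u)⁻¹ * b' * x₀ * (((t * u)⁻¹ * b')⁻¹ * (u * x₀ * u)⁻¹)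
          = u⁻¹ * t⁻¹ * (b' * x₀ * b'⁻¹) * t * (u * u⁻¹) * (x₀⁻¹ * u⁻¹) := by group
        _ = u⁻¹ * (t⁻¹ * t') * u := by
          rw [hxb'.symm.eq, mul_inv_cancel_right, ht', hui, huu]; group
    rwa [h3] at h2
  rcases eq_or_ne t 1 with rfl | ht1
  · rw [one_mul, hui, hb', ← mul_assoc, ← mul_assoc, huu, one_mul] at htb
    exfalso
    refine huM ?_
    have := mul_mem (inv_mem hbN) htb
    rwa [inv_mul_cancel_left] at this
  have hta : t = a := S.eq_of_commute hu huM hx hxu hxr ha ha1 ht ht1 hxa hxt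
  rw [hta, mul_inv_rev, hui, hai] at htb
  have hb'2 : b' * b' = 1 := by
    rw [hb', show u * b * u * (u * b * u) = u * b * (u * u) * b * u by group, huu, mul_one,
      mul_assoc u b b, hbb, mul_one, huu]
  clear_value b'
  set m := u * a * b' with hm
  set g := a * b' with hg
  have hgc : Commute g x₀ := (hxa.mul_right hxb').symm
  have hgm : g = u * m := by
    rw [hg, hm, show u * (u * a * b') = (u * u) * a * b' by group, huu, one_mul]
  have hgM : g ∉ NT T := fun h => hb'M (by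
    have := mul_mem (inv_mem haN) h
    rwa [hg, inv_mul_cancel_left] at this)
  have hau : a * u = b' * m⁻¹ := by
    rw [hm, mul_inv_rev, mul_inv_rev, hui, hai, mul_inv_cancel_left]
  have hbu : b' * u = u * b := by rw [hb', mul_assoc, huu, mul_one]
  have hg2 : g ^ 3 ∈ NT T := by
    have h2 : g ^ 3 = a * (b' * b') * m⁻¹ * b * m := by
      calc g ^ 3 = (a * b') * ((a * b') * g) := by rw [pow_three]
        _ = (a * b') * ((a * (b' * u)) * m) := by rw [hgm]; group
        _ = (a * b') * (((a * u) * b) * m) := by rw [hbu]; group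
        _ = a * (b' * b') * m⁻¹ * b * m := by rw [hau]; group
    rw [h2, hb'2, mul_one]
    exact mul_mem (mul_mem (mul_mem haN (inv_mem htb)) hbN) htb
  have hd : 3 ∣ orderOf g := by
    by_contra h
    obtain ⟨j, hj⟩ := exists_pow_eq_self_of_coprime (x := g) (n := 3)
      (Nat.prime_three.coprime_iff_not_dvd.2 h)
    exact hgM (hj ▸ pow_mem hg2 j)
  have h3 : (3 : ℕ) ∣ 2 * r := by
    rcases S.hyp.orderOf_of_commute_r hxr hgc with h | h | h | h <;> rw [h] at hd
    · exact absurd hd (by norm_num)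
    · exact absurd hd (by norm_num)
    · exact dvd_mul_of_dvd_right hd 2
    · exact hd
  rcases Nat.prime_three.dvd_mul.1 h3 with h | h
  · exact absurd h (by norm_num)
  · exact ((Nat.prime_dvd_prime_iff_eq Nat.prime_three S.hyp.prime).1 h).symm

open Polynomial in
/-- Every element of the field on `T` is a root of one of four cubics. -/
theorem Kern.card_le_twelve (h3 : r = 3) {a : G} (ha : a ∈ (T : Subgroup G)) (ha1 : a ≠ 1)
    (hxa : Commute x₀ a) : Nat.card (T : Subgroup G) - 1 ≤ 12 := by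
  classical
  letI : CommGroup (T : Subgroup G) :=
    { (inferInstance : Group (T : Subgroup G)) with
      mul_comm := fun a b => (S.hyp.sylow_comm T).is_comm.comm a b }
  have := Fintype.ofFinite (T : Subgroup G)
  have hN : ∀ q ∈ qsub T K u, q ∈ NT T := fun q hq => S.le_NT ((S.mem_qsub hu).1 hq).1
  let ρ : qsub T K u → AddMonoid.End (Additive (T : Subgroup G)) :=
    fun q => MonoidHom.toAdditive (act T ⟨q, hN q q.2⟩).toMonoidHom
  have hρmul : ∀ p q, ρ (p * q) = ρ p * ρ q := by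
    intro p q
    refine AddMonoidHom.ext fun v => ?_
    show Additive.ofMul (act T ⟨((p * q : qsub T K u) : G), _⟩ v.toMul) =
      Additive.ofMul (act T ⟨p, _⟩ (act T ⟨q, _⟩ v.toMul))
    rw [← MulAut.mul_apply, ← map_mul]
    rfl
  have hρ1 : ρ 1 = 1 := by
    refine AddMonoidHom.ext fun v => ?_
    show Additive.ofMul (act T (1 : NT T) v.toMul) = v
    rw [map_one]
    rfl
  set e : Additive (T : Subgroup G) := Additive.ofMul ⟨a, ha⟩ with he
  have he0 : e ≠ 0 := fun h => ha1 (congrArg (fun v => ((v.toMul : (T : Subgroup G)) : G)) h)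
  have hval : ∀ q : qsub T K u, (((ρ q e).toMul : (T : Subgroup G)) : G) = q * a * (q : G)⁻¹ :=
    fun q => rfl
  have hsurj : ∀ v : Additive (T : Subgroup G), v ≠ 0 → ∃ q, ρ q e = v := by
    intro v hv
    obtain ⟨q, hq, hqa⟩ := S.exists_qsub_conj hu huM ha ha1 v.toMul.2
      (fun h => hv (show Additive.ofMul v.toMul = Additive.ofMul 1 from
        congrArg _ (Subtype.ext h)))
    exact ⟨⟨q, hq⟩, congrArg Additive.ofMul (Subtype.ext hqa)⟩
  set R := Subring.centralizer (Set.range ρ) with hR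
  have hρR : ∀ q, ρ q ∈ R := by
    intro q
    rw [hR, Subring.mem_centralizer_iff]
    rintro _ ⟨p, rfl⟩
    rw [← hρmul, ← hρmul]
    exact congrArg ρ (Subtype.ext (S.qsub_comm hu huM p.2 q.2).eq)
  have hev : ∀ f ∈ R, f e = 0 → f = 0 := by
    intro f hf hfe
    refine AddMonoidHom.ext fun v => ?_
    rcases eq_or_ne v 0 with rfl | hv
    · exact (map_zero f).trans rfl
    obtain ⟨q, rfl⟩ := hsurj v hv
    have h1 : ρ q * f = f * ρ q := Subring.mem_centralizer_iff.1 hf _ ⟨q, rfl⟩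
    show (f * ρ q) e = 0
    rw [← h1]
    show ρ q (f e) = 0
    rw [hfe, map_zero]
  have hinj : Function.Injective (fun f : R => (f : AddMonoid.End (Additive (T : Subgroup G))) e) := by
    intro f g h
    refine Subtype.ext (sub_eq_zero.1 (hev _ (sub_mem f.2 g.2) ?_))
    show f.1 e - g.1 e = 0
    exact sub_eq_zero.2 h
  have hcases : ∀ f : R, f ≠ 0 → ∃ q, f = ⟨ρ q, hρR q⟩ := by
    intro f hf
    obtain ⟨q, hq⟩ := hsurj (f.1 e) (fun h => hf (Subtype.ext (hev _ f.2 h)))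
    exact ⟨q, hinj hq.symm⟩
  letI : CommRing R :=
    { (inferInstance : Ring R) with
      mul_comm := fun f g => by
        rcases eq_or_ne g 0 with rfl | hg
        · simp
        obtain ⟨q, rfl⟩ := hcases g hg
        exact Subtype.ext (Subring.mem_centralizer_iff.1 f.2 _ ⟨q, rfl⟩).symm }
  have : NoZeroDivisors R := ⟨fun {f g} h => by
    rcases eq_or_ne f 0 with hf | hf
    · exact Or.inl hf
    obtain ⟨q, rfl⟩ := hcases f hf
    right
    have h1 : (⟨ρ q⁻¹, hρR q⁻¹⟩ : R) * ⟨ρ q, hρR q⟩ = 1 :=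
      Subtype.ext (show ρ q⁻¹ * ρ q = 1 by rw [← hρmul, inv_mul_cancel, hρ1])
    calc g = (⟨ρ q⁻¹, hρR q⁻¹⟩ : R) * ⟨ρ q, hρR q⟩ * g := by rw [h1, one_mul]
      _ = 0 := by rw [mul_assoc, h, mul_zero]⟩
  have : Nontrivial R := ⟨1, 0, fun h => he0 (congrArg (fun f : R => f.1 e) h)⟩
  have : IsDomain R := NoZeroDivisors.to_isDomain R
  -- the automorphism induced by `x₀`
  let c : qsub T K u → qsub T K u := fun q => ⟨_, S.conj_qsub_mem hu huM hx hxu q.2⟩
  have hc3 : ∀ q, c (c (c q)) = q := fun q => Subtype.ext (by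
    have h1 : x₀ ^ 3 = 1 := h3 ▸ hxr ▸ pow_orderOf_eq_one x₀
    show x₀ * (x₀ * (x₀ * (q : G) * x₀⁻¹) * x₀⁻¹) * x₀⁻¹ = q
    calc x₀ * (x₀ * (x₀ * (q : G) * x₀⁻¹) * x₀⁻¹) * x₀⁻¹ = x₀ ^ 3 * q * (x₀ ^ 3)⁻¹ := by
          rw [pow_three]; group
      _ = q := by rw [h1]; simp)
  have hcinv : ∀ q, c q⁻¹ = (c q)⁻¹ := fun q => Subtype.ext (by
    show x₀ * (q : G)⁻¹ * x₀⁻¹ = (x₀ * (q : G) * x₀⁻¹)⁻¹
    group)
  let sR : qsub T K u → R := fun q => ⟨ρ q, hρR q⟩
  have hsmul : ∀ p q, sR (p * q) = sR p * sR q := fun p q => Subtype.ext (hρmul p q)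
  have hnorm : ∀ q, q * c q * c (c q) = 1 := by
    intro q
    have hcc : ∀ p p' : qsub T K u, p * p' = p' * p := fun p p' =>
      Subtype.ext (S.qsub_comm hu huM p.2 p'.2).eq
    refine Subtype.ext (S.qsub_fpf hu huM hx hxu hxr (q * c q * c (c q)).2 ?_)
    set P := q * c q * c (c q) with hP
    have h1 : c P = P := by
      have hmul : ∀ p p', c (p * p') = c p * c p' := fun p p' => Subtype.ext (by
        show x₀ * ((p : G) * (p' : G)) * x₀⁻¹ = x₀ * (p : G) * x₀⁻¹ * (x₀ * (p' : G) * x₀⁻¹)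
        group)
      rw [hP, hmul, hmul, hc3, hcc, ← mul_assoc]
    have h2 : x₀ * (P : G) * x₀⁻¹ = P := congrArg Subtype.val h1
    show (P : G) * x₀ = x₀ * P
    nth_rewrite 1 [← h2]
    rw [inv_mul_cancel_right]
  have htr : ∀ q, sR q + sR (c q) + sR (c (c q)) = 0 ∨ sR q + sR (c q) + sR (c (c q)) = 1 := by
    intro q
    set w : G := ((q : G) * a * (q : G)⁻¹) * ((c q : G) * a * (c q : G)⁻¹) *
      ((c (c q) : G) * a * (c (c q) : G)⁻¹) with hw
    have hwv : (((ρ q + ρ (c q) + ρ (c (c q))) e).toMul : G) = w := rfl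
    have hwT : w ∈ (T : Subgroup G) := hwv ▸ (((ρ q + ρ (c q) + ρ (c (c q))) e).toMul).2
    have hconj : ∀ p : qsub T K u, x₀ * ((p : G) * a * (p : G)⁻¹) * x₀⁻¹ =
        (c p : G) * a * (c p : G)⁻¹ := by
      intro p
      show x₀ * ((p : G) * a * (p : G)⁻¹) * x₀⁻¹ =
        (x₀ * p * x₀⁻¹) * a * (x₀ * (p : G) * x₀⁻¹)⁻¹
      calc x₀ * ((p : G) * a * (p : G)⁻¹) * x₀⁻¹
          = (x₀ * p * x₀⁻¹) * (x₀ * a * x₀⁻¹) * (x₀ * (p : G) * x₀⁻¹)⁻¹ := by group
        _ = _ := by rw [hxa.eq, mul_inv_cancel_right]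
    have hwx : Commute x₀ w := by
      have h1 : x₀ * w * x₀⁻¹ = w := by
        have hmem : ∀ p : qsub T K u, (p : G) * a * (p : G)⁻¹ ∈ (T : Subgroup G) := fun p =>
          (Subgroup.mem_normalizer_iff.1 (hN p p.2) a).1 ha
        set t1 := (q : G) * a * (q : G)⁻¹ with ht1
        set t2 := (c q : G) * a * (c q : G)⁻¹ with ht2
        set t3 := (c (c q) : G) * a * (c (c q) : G)⁻¹ with ht3
        calc x₀ * w * x₀⁻¹
            = (x₀ * t1 * x₀⁻¹) * (x₀ * t2 * x₀⁻¹) * (x₀ * t3 * x₀⁻¹) := by rw [hw]; group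
          _ = t2 * t3 * t1 := by rw [ht1, ht2, ht3, hconj, hconj, hconj, hc3]
          _ = w := by
            rw [hw]
            have h4 : (⟨t2, hmem _⟩ * ⟨t3, hmem _⟩ * ⟨t1, hmem _⟩ : (T : Subgroup G)) =
                ⟨t1, hmem _⟩ * ⟨t2, hmem _⟩ * ⟨t3, hmem _⟩ := by rw [mul_comm, mul_assoc]
            exact congrArg Subtype.val h4
      exact mul_inv_eq_iff_eq_mul.1 h1
    rcases eq_or_ne w 1 with h1 | h1
    · refine Or.inl (hinj ?_)
      exact congrArg Additive.ofMul (Subtype.ext (hwv.trans h1) :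
        ((ρ q + ρ (c q) + ρ (c (c q))) e).toMul = 1)
    · refine Or.inr (hinj ?_)
      exact congrArg Additive.ofMul (Subtype.ext (hwv.trans
        (S.eq_of_commute hu huM hx hxu hxr ha ha1 hwT h1 hxa hwx)) :
        ((ρ q + ρ (c q) + ρ (c (c q))) e).toMul = ⟨a, ha⟩)
  let bit : Bool → R := fun b => if b then 1 else 0
  let cubic : Bool × Bool → R[X] := fun b =>
    X ^ 3 - C (bit b.1) * X ^ 2 + C (bit b.2) * X - 1
  have hne : ∀ b, cubic b ≠ 0 := fun b h => by
    have h1 := congrArg (fun p : R[X] => p.eval 0) h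
    simp [cubic] at h1
  have hdeg : ∀ b, (cubic b).natDegree ≤ 3 := fun b => by
    simp only [cubic]
    compute_degree
  set U : Finset R := Finset.univ.biUnion fun b => (cubic b).roots.toFinset with hU
  have hUcard : U.card ≤ 12 := by
    refine (Finset.card_biUnion_le_card_mul _ _ 3 fun b _ => ?_).trans (by simp)
    exact ((Multiset.toFinset_card_le _).trans (card_roots' _)).trans (hdeg b)
  have hroot : ∀ q, sR q ∈ U := by
    intro q
    have hinv3 : sR q * sR (c q) * sR (c (c q)) = 1 := by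
      rw [← hsmul, ← hsmul, hnorm]
      exact Subtype.ext hρ1
    have h2 := htr q⁻¹
    rw [hcinv, hcinv] at h2
    have hprod : sR q⁻¹ + sR (c q)⁻¹ + sR (c (c q))⁻¹ =
        sR (c q) * sR (c (c q)) + sR q * sR (c (c q)) + sR q * sR (c q) := by
      have hone : ∀ p, sR p * sR p⁻¹ = 1 := fun p => by
        rw [← hsmul, mul_inv_cancel]; exact Subtype.ext hρ1
      linear_combination (-(sR q⁻¹ + sR (c q)⁻¹ + sR (c (c q))⁻¹)) * hinv3 +
        (sR (c q) * sR (c (c q))) * hone q + (sR q * sR (c (c q))) * hone (c q) +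
        (sR q * sR (c q)) * hone (c (c q))
    rw [hprod] at h2
    have hbit : ∀ v : R, v = 0 ∨ v = 1 → ∃ b, bit b = v := fun v hv => by
      rcases hv with rfl | rfl
      · exact ⟨false, rfl⟩
      · exact ⟨true, rfl⟩
    obtain ⟨b1, hb1⟩ := hbit _ (htr q)
    obtain ⟨b2, hb2⟩ := hbit _ h2
    refine Finset.mem_biUnion.2 ⟨(b1, b2), Finset.mem_univ _, ?_⟩
    rw [Multiset.mem_toFinset, mem_roots (hne _), IsRoot]
    simp only [cubic, eval_sub, eval_add, eval_mul, eval_pow, eval_X, eval_C, eval_one, hb1, hb2]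
    linear_combination hinv3
  have hmaps : ∀ v : Additive (T : Subgroup G), v ≠ 0 → ∃ f ∈ U, f.1 e = v := fun v hv => by
    obtain ⟨q, hq⟩ := hsurj v hv
    exact ⟨sR q, hroot q, hq⟩
  have hsub : (Finset.univ.erase (0 : Additive (T : Subgroup G))) ⊆
      U.image fun f => f.1 e := fun v hv => by
    obtain ⟨f, hf, hfv⟩ := hmaps v (Finset.mem_erase.1 hv).1
    exact Finset.mem_image.2 ⟨f, hf, hfv⟩
  have hle := (Finset.card_le_card hsub).trans (Finset.card_image_le.trans hUcard)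
  rw [Finset.card_erase_of_mem (Finset.mem_univ _), Finset.card_univ,
    ← Nat.card_eq_fintype_card] at hle
  rwa [show Nat.card (T : Subgroup G) = Nat.card (Additive (T : Subgroup G)) from
    Nat.card_congr Additive.ofMul]

omit S hu huM hx hxu hxr

/-- No element outside `C(T)` fixes an involution of `T`. -/
theorem Loc.false_of_fixed {G : Type u} [Group G] [Finite G] [IsSimpleGroup G] {r : ℕ}
    {T : Sylow 2 G} (L : Loc T r) {x a : G} (hx : x ∈ NT T)
    (hxC : x ∉ centralizer ((T : Subgroup G) : Set G)) (ha : a ∈ (T : Subgroup G)) (ha1 : a ≠ 1)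
    (hxa : Commute x a) : False := by
  have : Fact (Nat.Prime 2) := ⟨Nat.prime_two⟩
  obtain ⟨K, S⟩ := L.exists_kern hx hxC ha ha1 hxa
  obtain ⟨g₀, hg₀⟩ : ∃ g, g ∉ NT T := by
    by_contra h
    push Not at h
    exact L.NT_ne_top (top_le_iff.1 fun g _ => h g)
  obtain ⟨u, hu, huM, -⟩ := L.exists_swap hg₀
  obtain ⟨x₀, hx₀, hx₀u, hx₀r⟩ := S.exists_fix hu huM
  obtain ⟨b, hb, hb1, hxb⟩ := S.exists_fixed hx₀ hx₀r
  have h3 := S.r_eq_three hu huM hx₀ hx₀u hx₀r hb hb1 hxb
  have h12 := S.card_le_twelve hu huM hx₀ hx₀u hx₀r h3 hb hb1 hxb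
  have h4 := L.hyp.four_le_card T
  obtain ⟨k, hk⟩ := T.2.exists_card_eq
  have h8 : Nat.card (T : Subgroup G) = 8 := by
    rw [hk] at h12 h4 ⊢
    have hnd : ¬ 3 ∣ 2 ^ k - 1 := by
      have := S.not_dvd
      rwa [hk, h3] at this
    rcases (by
      by_contra hcon
      have hk4 : 4 ≤ k := by omega
      have := Nat.pow_le_pow_right (show 0 < 2 by norm_num) hk4
      omega : k ≤ 3).lt_or_eq with hlt | rfl
    · interval_cases k <;> omega
    · norm_num
  refine SmallOrder.not_card_1512 (G := G) (fun hc => L.hyp.not_comm fun a b => hc.is_comm.comm a b) ?_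
  rw [← Subgroup.card_mul_index (NT T), S.index_eq hu huM, S.cardN, S.cardK, h8, h3]

end Cfsg.Agent.TwoR
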