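import Cfsg.Agent.TwoR.Core
import Cfsg.Agent.DGroupPSL.Main
import Mathlib.GroupTheory.FixedPointFree

/-!
A four-group Sylow 2-subgroup with trivial odd centraliser: every involution centraliser is an
abelian group inverted by an involution, so the group is `PSL(2, q)`, `q ≡ ±3 mod 8`.
-/

set_option autoImplicit false
set_option linter.unusedSectionVars false

open Subgroup

namespace Cfsg.Agent.TwoR

universe u

variable {G : Type u} [Group G] [Finite G] {r : ℕ}

theorem Hyp.isFour_of_card (H : Hyp G r) (T : Sylow 2 G) (h4 : Nat.card (T : Subgroup G) = 4) :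
    DGroupPSL.IsFour (T : Subgroup G) := by
  refine ⟨h4, fun x hx => ?_⟩
  rcases eq_or_ne x 1 with rfl | h
  · exact one_mul 1
  · rw [← pow_two, ← H.sylow_invol T hx h, pow_orderOf_eq_one]

/-- The centraliser of an involution of a self-centralising four-group. -/
theorem Hyp.exists_shape (H : Hyp G r) (T : Sylow 2 G) (h4 : Nat.card (T : Subgroup G) = 4)
    (hodd : ∀ y : G, (∀ t ∈ (T : Subgroup G), Commute y t) → Odd (orderOf y) → y = 1)
    {v : G} (hv : v ∈ (T : Subgroup G)) (hv1 : v ≠ 1) : ∃ A, DGroupPSL.Shape v A := by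
  have hV := H.isFour_of_card T h4
  obtain ⟨u, hu, hu1, huv⟩ := hV.exists_other v
  have hvv : v * v = 1 := hV.sq v hv
  have huu : u * u = 1 := hV.sq u hu
  have hcuv : Commute u v := hV.commute hu hv
  have hcov : ∀ y ∈ core v, Commute y v ∧ Odd (orderOf y) := fun y hy =>
    ⟨((H.mem_core_iff T hv hv1).1 hy).1, ((H.mem_core_iff T hv hv1).1 hy).2.1⟩
  -- `u` inverts the odd core
  let φ : core v →* core v :=
    { toFun := fun y => ⟨u * y * u⁻¹, H.sylow_le_normalizer_core T hv hv1 u hu y y.2⟩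
      map_one' := Subtype.ext (by simp)
      map_mul' := fun a b => Subtype.ext (by simp [mul_assoc]) }
  have hφ : MonoidHom.FixedPointFree φ := by
    intro y hy
    have h1 : u * (y : G) * u⁻¹ = y := congrArg Subtype.val hy
    refine Subtype.ext (hodd _ (fun t ht => ?_) (hcov _ y.2).2)
    exact hV.commute_all hv hu hv1 hu1 huv.symm (hcov _ y.2).1
      (mul_inv_eq_iff_eq_mul.1 h1).symm t ht
  have hinv' : Function.Involutive φ := fun y => Subtype.ext (by
    show u * (u * (y : G) * u⁻¹) * u⁻¹ = y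
    rw [inv_eq_of_mul_eq_one_right huu,
      show u * (u * (y : G) * u) * u = u * u * y * (u * u) by group, huu, one_mul, mul_one])
  have hu' : ∀ y ∈ core v, u * y * u⁻¹ = y⁻¹ := fun y hy =>
    congrArg Subtype.val (congrFun (hφ.coe_eq_inv_of_involutive hinv') ⟨y, hy⟩)
  have hcomm : ∀ a ∈ core v, ∀ b ∈ core v, Commute a b := by
    intro a ha b hb
    have h := hu' (a * b) (mul_mem ha hb)
    rw [show u * (a * b) * u⁻¹ = (u * a * u⁻¹) * (u * b * u⁻¹) by group, hu' a ha, hu' b hb,
      mul_inv_rev] at h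
    exact (Commute.inv_inv_iff).1 h
  -- the decomposition
  have hdec : ∀ x, Commute x v → ∃ o ∈ core v, ∃ s ∈ (T : Subgroup G), x = o * s := by
    intro x hx
    obtain ⟨o, ho, n, hn, hnv, rfl⟩ := H.exists_mul_normalizer T hv hv1 hx
    obtain ⟨t, b, rfl, -, hbn, ht, hb⟩ := H.exists_two_part T hn
    have hbv : Commute b v := by
      obtain ⟨i, hi⟩ := Subgroup.mem_zpowers_iff.1 hbn
      rw [← hi]
      exact hnv.zpow_left i
    have hbN := (Subgroup.zpowers_le.2 hn) hbn
    have hb2 : Commute (b ^ 2) u := by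
      have hm : b * u * b⁻¹ ∈ (T : Subgroup G) := (Subgroup.mem_normalizer_iff.1 hbN u).1 hu
      show b ^ 2 * u = u * b ^ 2
      rcases hV.mem_cases hv hu hv1 hu1 huv.symm hm with h | h | h | h
      · exact absurd (by simpa using h) hu1
      · exact absurd ((hbv.symm.eq ▸ mul_inv_eq_iff_eq_mul.1 h : b * u = b * v) |> mul_left_cancel) huv
      · rw [mul_inv_eq_iff_eq_mul] at h
        rw [pow_two, mul_assoc, h, ← mul_assoc, h, mul_assoc]
      · rw [mul_inv_eq_iff_eq_mul] at h
        rw [pow_two, mul_assoc, h, ← mul_assoc, ← mul_assoc, hbv.eq, mul_assoc v b u, h,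
          ← mul_assoc, ← mul_assoc, ← mul_assoc, hvv, one_mul, mul_assoc]
    have hbu : Commute b u := by
      obtain ⟨k, hk⟩ := exists_pow_eq_self_of_coprime (x := b) (n := 2) (Nat.coprime_two_left.2 hb)
      rw [← hk]
      exact hb2.pow_left k
    have hb1 : b = 1 := hodd b (fun w hw => hV.commute_all hv hu hv1 hu1 huv.symm hbv hbu w hw) hb
    exact ⟨o, ho, t, ht, by rw [hb1, mul_one]⟩
  let A : Subgroup G :=
    { carrier := {x | x ∈ core v ∨ x * v ∈ core v}
      one_mem' := Or.inl (one_mem _)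
      mul_mem' := by
        intro a b ha hb
        have hbv : Commute b v := by
          rcases hb with hb | hb
          · exact (hcov b hb).1
          · have h := ((hcov _ hb).1.mul_left (Commute.refl v))
            rwa [mul_assoc, hvv, mul_one] at h
        rcases ha with ha | ha <;> rcases hb with hb | hb
        · exact Or.inl (mul_mem ha hb)
        · exact Or.inr (by rw [mul_assoc]; exact mul_mem ha hb)
        · exact Or.inr (by rw [mul_assoc, hbv.eq, ← mul_assoc]; exact mul_mem ha hb)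
        · refine Or.inl ?_
          have h := mul_mem ha hb
          rwa [mul_assoc, ← mul_assoc v, ← hbv.eq, mul_assoc b, hvv, mul_one] at h
      inv_mem' := by
        intro a ha
        rcases ha with ha | ha
        · exact Or.inl (inv_mem ha)
        · refine Or.inr ?_
          have h := inv_mem ha
          have hav : Commute (a * v) v := (hcov _ ha).1
          rw [mul_inv_rev, inv_eq_of_mul_eq_one_right hvv] at h
          have h' : Commute a v := by
            have := hav.mul_left (Commute.refl v)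
            rwa [mul_assoc, hvv, mul_one] at this
          rwa [h'.symm.inv_right.eq] at h }
  have hAv : ∀ a ∈ A, Commute a v := by
    intro a ha
    rcases ha with ha | ha
    · exact (hcov a ha).1
    · have h := ((hcov _ ha).1.mul_left (Commute.refl v))
      rwa [mul_assoc, hvv, mul_one] at h
  have hout : ∀ x, Commute x v → x ∉ A → ∃ o ∈ core v, ∃ s, (s = u ∨ s = v * u) ∧ x = o * s := by
    intro x hx hxA
    obtain ⟨o, ho, s, hs, rfl⟩ := hdec x hx
    rcases hV.mem_cases hv hu hv1 hu1 huv.symm hs with rfl | rfl | rfl | rfl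
    · exact absurd (Or.inl (by rwa [mul_one])) hxA
    · exact absurd (Or.inr (by rwa [mul_assoc, hvv, mul_one])) hxA
    · exact ⟨o, ho, _, Or.inl rfl, rfl⟩
    · exact ⟨o, ho, _, Or.inr rfl, rfl⟩
  have hconj : ∀ o ∈ core v, ∀ s, (s = u ∨ s = v * u) → s * o * s⁻¹ = o⁻¹ := by
    rintro o ho s (rfl | rfl)
    · exact hu' o ho
    · rw [show v * u * o * (v * u)⁻¹ = v * (u * o * u⁻¹) * v⁻¹ by group, hu' o ho,
        ← ((hcov o ho).1.inv_left).eq, mul_inv_cancel_right]
  refine ⟨A, hAv, Or.inr (by rw [hvv]; exact one_mem _), ?_, ?_, ?_, ?_⟩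
  · intro a ha b hb
    have hkey : ∀ a ∈ A, ∀ b ∈ core v, Commute a b := by
      intro a ha b hb
      rcases ha with ha | ha
      · exact hcomm a ha b hb
      · have h := (hcomm _ ha b hb).mul_left (hcov b hb).1.symm
        rwa [mul_assoc, hvv, mul_one] at h
    rcases hb with hb | hb
    · exact hkey a ha b hb
    · have h := (hkey a ha _ hb).mul_right (hAv a ha)
      rwa [mul_assoc, hvv, mul_one] at h
  · intro a ha ha2
    rcases ha with ha | ha
    · exact Or.inl (DGroupPSL.eq_one_of_sq (hcov a ha).2 ha2)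
    · refine Or.inr ?_
      have h : a * v * (a * v) = 1 := by
        rw [mul_assoc, ← mul_assoc v a, ← (hAv a (Or.inr ha)).eq, mul_assoc a v v, hvv, mul_one, ha2]
      have h2 := DGroupPSL.eq_one_of_sq (hcov _ ha).2 h
      rw [mul_eq_one_iff_eq_inv.1 h2, inv_eq_of_mul_eq_one_right hvv]
  · intro x hx hxA
    obtain ⟨o, ho, s, hs, rfl⟩ := hout x hx hxA
    have hss : s * s = 1 := hV.sq s (by rcases hs with rfl | rfl; exacts [hu, mul_mem hv hu])
    calc o * s * (o * s) = o * (s * o * s⁻¹) * (s * s) := by group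
      _ = 1 := by rw [hconj o ho s hs, hss, mul_one, mul_inv_cancel]
  · intro x y hx hy hxA hyA
    obtain ⟨o, ho, s, hs, rfl⟩ := hout x hx hxA
    obtain ⟨o', ho', s', hs', rfl⟩ := hout y hy hyA
    have e : o * s * (o' * s') = o * o'⁻¹ * (s * s') := by
      rw [← hconj o' ho' s hs]
      group
    rw [e]
    refine mul_mem (Or.inl (mul_mem ho (inv_mem ho'))) ?_
    have hmemv : v ∈ A := Or.inr (by rw [hvv]; exact one_mem _)
    rcases hs with rfl | rfl <;> rcases hs' with rfl | rfl
    · rw [huu]; exact one_mem _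
    · rw [← mul_assoc, hcuv.eq, mul_assoc, huu, mul_one]; exact hmemv
    · rw [mul_assoc, huu, mul_one]; exact hmemv
    · rw [hV.sq _ (mul_mem hv hu)]; exact one_mem _

/-- The four-group case with trivial odd centraliser. -/
theorem Hyp.psl_of_klein [IsSimpleGroup G] (H : Hyp G r) (T : Sylow 2 G)
    (h4 : Nat.card (T : Subgroup G) = 4) (hO : coreOf (T : Subgroup G) = ⊥) :
    ∃ (F : Type) (_ : Field F) (_ : Fintype F),
      (Fintype.card F % 8 = 3 ∨ Fintype.card F % 8 = 5) ∧
        Nonempty (G ≃* Matrix.ProjectiveSpecialLinearGroup (Fin 2) F) := by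
  have : Fact (Nat.Prime 2) := ⟨Nat.prime_two⟩
  have hodd : ∀ y : G, (∀ t ∈ (T : Subgroup G), Commute y t) → Odd (orderOf y) → y = 1 :=
    fun y hy ho => Subgroup.mem_bot.1 (hO ▸ (H.mem_coreOf_iff T).2
      ⟨Subgroup.mem_centralizer_iff.2 fun t ht => (hy t ht).symm.eq, ho⟩)
  have hgood : DGroupPSL.Good G := by
    intro v hv
    have hp : IsPGroup 2 (zpowers v) := IsPGroup.of_card (n := 1) (by rw [Nat.card_zpowers, hv, pow_one])
    obtain ⟨T', hT'⟩ := hp.exists_le_sylow
    obtain ⟨g, hg⟩ := MulAction.exists_smul_eq G T T'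
    subst hg
    have hmem : ∀ t, t ∈ (T : Subgroup G) → g * t * g⁻¹ ∈ ((g • T : Sylow 2 G) : Subgroup G) := by
      intro t ht
      rw [Sylow.coe_subgroup_smul]
      exact Subgroup.mem_map_of_mem _ ht
    refine H.exists_shape (g • T) ?_ (fun y hy ho => ?_) (hT' (mem_zpowers v)) (fun e => ?_)
    · rw [Sylow.card_eq_multiplicity, ← T.card_eq_multiplicity, h4]
    · have h1 := hodd (g⁻¹ * y * g) (fun t ht => ?_) ?_
      · have h3 : g * (g⁻¹ * y * g) * g⁻¹ = g * 1 * g⁻¹ := by rw [h1]
        simpa [mul_assoc] using h3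
      · have h := (Commute.conj_iff g⁻¹).2 (hy _ (hmem t ht))
        rw [inv_inv, show g⁻¹ * (g * t * g⁻¹) * g = t by group] at h
        exact h
      · have h := orderOf_conj_eq g⁻¹ y
        rw [inv_inv] at h
        rwa [h]
    · rw [e, orderOf_one] at hv; omega
  obtain ⟨a, ha, ha1⟩ := H.exists_sylow_invol T
  have h4le : 4 ≤ Nat.card G := h4 ▸ Subgroup.card_le_card_group (T : Subgroup G)
  have h2G : 2 ∣ Nat.card G := H.sylow_invol T ha ha1 ▸ orderOf_dvd_natCard a
  have hns : ¬ Group.IsSolvable G := fun hs => H.not_comm (IsSimpleGroup.comm_iff_isSolvable.2 hs)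
  have hNo : DGroupPSL.NoOdd G := by
    intro D hD hDo
    rcases hD.eq_bot_or_eq_top with h | h
    · exact h
    · rw [h, Subgroup.card_top] at hDo
      exact absurd hDo (Nat.not_odd_iff_even.2 (even_iff_two_dvd.2 h2G))
  have hone : ∀ x y : G, orderOf x = 2 → orderOf y = 2 → IsConj x y := by
    by_contra hnc
    have hsq := (H.isFour_of_card T h4).sq
    have : Nontrivial (T : Subgroup G) := Finite.one_lt_card_iff_nontrivial.1 (by omega)
    have hk : IsKleinFour (T : Subgroup G) :=
      ⟨h4, (Monoid.exponent_eq_prime_iff Nat.prime_two).2 fun x hx =>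
        orderOf_eq_prime (by rw [pow_two]; exact Subtype.ext (hsq x x.2)) hx⟩
    obtain ⟨e⟩ := IsKleinFour.nonempty_mulEquiv (G₁ := (T : Subgroup G)) (G₂ := DihedralGroup 2)
    obtain ⟨k, ι, D, -⟩ := Invol.ddata_exists T le_rfl e
    obtain ⟨M, hM, hMi, -⟩ := DGroupPSL.exists_one_class_index_two D hns hnc
    rcases hM.eq_bot_or_eq_top with rfl | rfl
    · rw [Subgroup.index_bot] at hMi; omega
    · rw [Subgroup.index_top] at hMi; omega
  obtain ⟨F, iF, iFt, ho, -, ⟨e⟩⟩ := hgood.psl hNo hns hone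
  refine ⟨F, iF, iFt, ?_, ⟨e⟩⟩
  have hc := Classical.A5InPSL.card_psl (F := F)
  rw [← Nat.card_congr e.toEquiv] at hc
  have hix : (T : Subgroup G).index % 2 = 1 := Nat.two_dvd_ne_zero.1 T.not_dvd_index
  have hG : Nat.card G = 4 * (T : Subgroup G).index := h4 ▸ ((T : Subgroup G).card_mul_index).symm
  set q := Fintype.card F with hq
  set m := (T : Subgroup G).index
  have hg2 : Nat.gcd 2 (q - 1) = 2 := Nat.gcd_eq_left (by obtain ⟨j, hj⟩ := ho; omega)
  rw [hg2, hG] at hc
  obtain ⟨j, hj⟩ := ho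
  by_contra hcon
  push Not at hcon
  have h8 : ∃ i, q = 8 * i + 1 ∨ q = 8 * i + 7 := ⟨q / 8, by omega⟩
  obtain ⟨i, hi⟩ := h8
  have h16 : 16 ∣ q ^ 2 - 1 := by
    rcases hi with hi | hi
    · refine ⟨4 * i * i + i, ?_⟩
      rw [hi]
      have : (8 * i + 1) ^ 2 = 16 * (4 * i * i + i) + 1 := by ring
      omega
    · refine ⟨4 * i * i + 7 * i + 3, ?_⟩
      rw [hi]
      have : (8 * i + 7) ^ 2 = 16 * (4 * i * i + 7 * i + 3) + 1 := by ring
      omega
  obtain ⟨c, hc'⟩ := h16
  rw [hc'] at hc
  have h9 : m = 2 * (q * c) := by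
    have : q * (16 * c) = 16 * (q * c) := by ring
    omega
  omega

end Cfsg.Agent.TwoR
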