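import Cfsg.Agent.TwoR.Main
import Cfsg.Agent.ThreeOrders.List
import Cfsg.Agent.OneComposite.Orbits
import Mathlib.FieldTheory.Finite.GaloisField

/-!
The simple groups in which no prime divides three element orders.
-/

set_option autoImplicit false
set_option linter.unusedSectionVars false

open Subgroup

namespace Cfsg.Agent.TwoR

universe u

variable {G : Type u} [Group G] [Finite G] [IsSimpleGroup G]

theorem threeList (hK : KleinCase G) (hII : FixedCase G) (hna : ∃ a b : G, a * b ≠ b * a)
    (h : ThreeOrders.P3 G) : ThreeOrders.ThreeList G := by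
  rcases cit_or_double (G := G) with hC | ⟨r, hr, hr2, x, hx⟩
  · exact ThreeOrders.threeList_of_citList hna h (cit_list hna hC)
  · obtain ⟨F, iF, iFF, hq, ⟨e⟩⟩ := (hyp_of_three h hr hr2 hx).psl hK hII
    have h4 := four_le_of_psl hna e
    rcases (by omega : 5 < Fintype.card F ∨ Fintype.card F = 5) with h5 | h5
    · exact Or.inr (Or.inl ⟨F, iF, iFF, h5, hq, ⟨e⟩⟩)
    · haveI : Fact (Nat.Prime 2) := ⟨Nat.prime_two⟩
      haveI := Fintype.ofFinite (GaloisField 2 2)
      have hc : Fintype.card (GaloisField 2 2) = 4 := by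
        rw [← Nat.card_eq_fintype_card, GaloisField.card 2 2 (by norm_num)]; norm_num
      obtain ⟨f⟩ := Cfsg.Agent.S0253.result h5
      obtain ⟨g⟩ := Cfsg.Agent.S0252.result hc
      exact Or.inl ⟨GaloisField 2 2, inferInstance, inferInstance, inferInstance, by rw [hc],
        ⟨(e.trans f).trans g.symm⟩⟩

theorem atMostOne_list (hK : KleinCase G) (hII : FixedCase G) (h : OneComposite.AtMostOne G) :
    (Nat.card G).Prime ∨ OneComposite.GroupList G := by
  by_cases hna : ∃ a b : G, a * b ≠ b * a
  · exact Or.inr (groupList hK hII hna h)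
  · push Not at hna
    letI : CommGroup G := { (inferInstance : Group G) with mul_comm := hna }
    exact Or.inl IsSimpleGroup.prime_card

theorem orbits_list (hK : KleinCase G) (hII : FixedCase G) (hG : ¬ IsMulCommutative G)
    (h5 : Nat.card (MulAction.orbitRel.Quotient (MulAut G) G) ≤ 5) :
    Nonempty (G ≃* ↥(alternatingGroup (Fin 5))) ∨ Nonempty (G ≃* ↥(alternatingGroup (Fin 6))) ∨
      (∃ (F : Type) (_ : Field F) (_ : Fintype F), (Fintype.card F = 7 ∨ Fintype.card F = 8) ∧
        Nonempty (G ≃* Matrix.ProjectiveSpecialLinearGroup (Fin 2) F)) := by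
  refine OneComposite.orbit_list h5
    (groupList hK hII ?_ (OneComposite.atMostOne_of_orbits hG h5))
  by_contra hna
  push Not at hna
  exact hG ⟨⟨hna⟩⟩

end Cfsg.Agent.TwoR
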