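import Cfsg.Agent.TwoR.Setting
import Cfsg.Agent.Coprime.Generation
import Cfsg.Agent.Core.MinimalNormal
import Cfsg.Agent.S0205

/-!
The odd group induced by `N(T)` on the elementary abelian Sylow 2-subgroup `T`.
-/

set_option autoImplicit false
set_option linter.unusedSectionVars false

open Subgroup

namespace Cfsg.Agent.TwoR

universe u

section Abstract

variable {V A : Type*} [CommGroup V] [Group A] [Finite A] (φ : A →* MulAut V)

/-- A subgroup normalised by an element of prime order acting without fixed points is trivial. -/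
theorem eq_bot_of_fpf {k : ℕ} (hV : ∀ v : V, v ^ 2 ^ k = 1) (hφ : Function.Injective φ)
    {P : Subgroup A} (hP : Odd (Nat.card P)) {y : A} (hy : (orderOf y).Prime)
    (hyP : y ∈ normalizer (P : Set A)) (hfix : ∀ p ∈ P, Commute p y → p = 1)
    (hfpf : ∀ g : A, orderOf g = orderOf y → ∀ v : V, φ g v = v → v = 1) : P = ⊥ := by
  rw [Subgroup.eq_bot_iff_forall]
  intro p hp
  refine hφ ?_
  rw [map_one]
  refine MulEquiv.ext fun v => ?_
  have h1 := pow_card_eq_one φ P hy (pow_orderOf_eq_one y) hyP hfix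
    (fun q _ v => ?_) hp v
  · have h2 : v⁻¹ * φ p v = 1 := by
      rw [← orderOf_eq_one_iff]
      refine Nat.eq_one_of_dvd_coprimes (Nat.Coprime.pow_left k (Nat.coprime_two_left.2 hP))
        (orderOf_dvd_of_pow_eq_one (hV _)) (orderOf_dvd_of_pow_eq_one h1)
    exact (inv_mul_eq_one.1 h2).symm
  · refine hfpf (q * y * q⁻¹) (orderOf_conj_eq q y) _ ?_
    set g := q * y * q⁻¹ with hg
    have hgn : g ^ orderOf y = 1 := by rw [hg, conj_pow, pow_orderOf_eq_one]; simp
    rw [map_prod]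
    obtain ⟨n, hn⟩ : ∃ n, orderOf y = n + 1 := ⟨orderOf y - 1, by have := hy.pos; omega⟩
    rw [hn] at hgn ⊢
    rw [Finset.prod_range_succ, Finset.prod_range_succ' (fun i => φ (g ^ i) v)]
    congr 1
    · refine Finset.prod_congr rfl fun i _ => ?_
      rw [← MulAut.mul_apply, ← map_mul, ← pow_succ']
    · rw [← MulAut.mul_apply, ← map_mul, ← pow_succ', hgn, pow_zero]

theorem exists_normal_pgroup [Group.IsSolvable A] [Nontrivial A] :
    ∃ (p : ℕ) (N : Subgroup A), p.Prime ∧ N.Normal ∧ N ≠ ⊥ ∧ IsPGroup p N := by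
  obtain ⟨N, hN⟩ := Core.exists_isMinNormal (G := A)
  obtain ⟨p, hp, hpN, -⟩ := hN.exists_isPGroup
  exact ⟨p, N, hp, hN.normal, hN.ne_bot, hpN⟩

/-- A semiregular group of odd order in which `r` divides only the order `r` has order `1` or
prime order `r` as soon as `r` divides it. -/
theorem card_eq_of_semiregular {k r : ℕ} (hr : r.Prime) (hr2 : r ≠ 2)
    (hV : ∀ v : V, v ^ 2 ^ k = 1) (hφ : Function.Injective φ) (hA : Odd (Nat.card A))
    (hsr : ∀ g : A, g ≠ 1 → ∀ v : V, φ g v = v → v = 1)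
    (hord : ∀ g : A, r ∣ orderOf g → orderOf g = r) (hrA : r ∣ Nat.card A) :
    Nat.card A = r ∧ ∀ a b : A, a * b = b * a := by
  have : Fact r.Prime := ⟨hr⟩
  have : Group.IsSolvable A := S0205.result hA
  have hpq : ∀ (g h : A), (orderOf g).Prime → orderOf g ≠ r → orderOf h = r → ¬ Commute g h := by
    intro g h hg hgr hh hc
    have hcop : Nat.Coprime (orderOf g) (orderOf h) := by
      rw [hh]; exact (Nat.coprime_primes hg hr).2 hgr
    have h1 := hc.orderOf_mul_eq_mul_orderOf_of_coprime hcop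
    rw [hh] at h1
    have h2 := hord (g * h) (h1 ▸ dvd_mul_left r _)
    rw [h1] at h2
    exact hg.ne_one ((Nat.mul_eq_right hr.ne_zero).1 h2)
  have hpg : IsPGroup r A := by
    by_contra hnp
    obtain ⟨q, hq, hqA, hqr⟩ : ∃ q, q.Prime ∧ q ∣ Nat.card A ∧ q ≠ r := by
      by_contra h
      push Not at h
      exact hnp (IsPGroup.of_card
        (Nat.eq_prime_pow_of_unique_prime_dvd Nat.card_pos.ne' fun {d} hd hdd => h d hd hdd))
    have : Fact q.Prime := ⟨hq⟩
    have : Nontrivial A := Finite.one_lt_card_iff_nontrivial.1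
      (lt_of_lt_of_le hq.one_lt (Nat.le_of_dvd Nat.card_pos hqA))
    obtain ⟨p, N, hp, hN, hNne, hNp⟩ := exists_normal_pgroup (A := A)
    have : Fact p.Prime := ⟨hp⟩
    obtain ⟨q', hq', hq'A, hq'p, hcase⟩ : ∃ q', q'.Prime ∧ q' ∣ Nat.card A ∧ q' ≠ p ∧
        (p = r ∨ q' = r) := by
      by_cases h : p = r
      · exact ⟨q, hq, hqA, h ▸ hqr, Or.inl h⟩
      · exact ⟨r, hr, hrA, Ne.symm h, Or.inr rfl⟩
    have : Fact q'.Prime := ⟨hq'⟩
    obtain ⟨y, hy⟩ := exists_prime_orderOf_dvd_card' (G := A) q' hq'A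
    refine hNne (eq_bot_of_fpf φ hV hφ (Odd.of_dvd_nat hA (Subgroup.card_subgroup_dvd_card N))
      (y := y) (hy ▸ hq') (by rw [Subgroup.normalizer_eq_top]; exact Subgroup.mem_top y) ?_ ?_)
    · intro z hz hc
      by_contra hz1
      obtain ⟨m, hm⟩ := hNp.exists_card_eq
      obtain ⟨j, -, hj⟩ := (Nat.dvd_prime_pow hp).1 (hm ▸ Subgroup.orderOf_dvd_natCard N hz)
      have hj0 : j ≠ 0 := by rintro rfl; rw [pow_zero, orderOf_eq_one_iff] at hj; exact hz1 hj
      set z' := z ^ p ^ (j - 1) with hz'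
      have hz'p : orderOf z' = p := by
        rw [hz', orderOf_pow_of_dvd (pow_ne_zero _ hp.ne_zero) (hj ▸ pow_dvd_pow p (by omega)),
          hj, Nat.pow_div (by omega) hp.pos, show j - (j - 1) = 1 by omega, pow_one]
      rcases hcase with h | h
      · exact hpq y z' (hy ▸ hq') (by rw [hy]; exact h ▸ hq'p) (hz'p.trans h)
          ((hc.pow_left _).symm)
      · exact hpq z' y (hz'p ▸ hp) (by rw [hz'p]; exact h ▸ hq'p.symm) (hy.trans h) (hc.pow_left _)
    · intro g hg v hv
      refine hsr g (fun e => ?_) v hv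
      rw [e, orderOf_one, hy] at hg
      exact hq'.ne_one hg.symm
  have hexp : ∀ g : A, g ^ r = 1 := fun g => by
    obtain ⟨m, hm⟩ := hpg.exists_card_eq
    obtain ⟨j, -, hj⟩ := (Nat.dvd_prime_pow hr).1 (hm ▸ orderOf_dvd_natCard g)
    rcases Nat.eq_zero_or_pos j with rfl | hj0
    · rw [pow_zero, orderOf_eq_one_iff] at hj; simp [hj]
    · rw [← hord g (hj ▸ dvd_pow_self r hj0.ne'), pow_orderOf_eq_one]
  have hcyc : ∀ a b : A, a ≠ 1 → Commute a b → b ∈ zpowers a := by
    intro a b ha hc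
    by_contra hb
    refine ha (hφ ?_)
    rw [map_one]
    refine MulEquiv.ext fun v => ?_
    suffices h : v = 1 by simp [h]
    have h1 := Coprime.pow_mem_closure_fixed (α := φ a) (β := φ b) hr
      (by rw [← map_pow, hexp, map_one]) (by rw [← map_pow, hexp, map_one]) (hc.map φ) v
    have h2 : Subgroup.closure {w : V | φ a w = w ∨ ∃ i : ℕ, (φ a ^ i * φ b) w = w} ≤ ⊥ := by
      refine (Subgroup.closure_le _).2 fun w hw => ?_
      rcases hw with hw | ⟨i, hw⟩
      · exact hsr a ha w hw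
      · refine hsr (a ^ i * b) (fun e => hb ?_) w (by rwa [map_mul, map_pow])
        rw [eq_inv_of_mul_eq_one_right e]
        exact inv_mem (pow_mem (mem_zpowers a) i)
    rw [← orderOf_eq_one_iff]
    refine Nat.eq_one_of_dvd_coprimes (Nat.Coprime.pow_left k ((Nat.coprime_primes Nat.prime_two hr).2
      (Ne.symm hr2))) (orderOf_dvd_of_pow_eq_one (hV v))
      (orderOf_dvd_of_pow_eq_one (Subgroup.mem_bot.1 (h2 h1)))
  have : Nontrivial A := Finite.one_lt_card_iff_nontrivial.1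
    (lt_of_lt_of_le hr.one_lt (Nat.le_of_dvd Nat.card_pos hrA))
  have := hpg.center_nontrivial
  obtain ⟨⟨z, hzc⟩, hz⟩ := exists_ne (1 : Subgroup.center A)
  have hz1 : z ≠ 1 := fun e => hz (Subtype.ext e)
  have hall : ∀ b, b ∈ zpowers z := fun b => hcyc z b hz1 (Subgroup.mem_center_iff.1 hzc b).symm
  refine ⟨?_, fun a b => ?_⟩
  · rw [← orderOf_eq_card_of_forall_mem_zpowers hall]
    exact orderOf_eq_prime (hexp z) hz1
  · obtain ⟨i, rfl⟩ := Subgroup.mem_zpowers_iff.1 (hall a)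
    obtain ⟨j, rfl⟩ := Subgroup.mem_zpowers_iff.1 (hall b)
    rw [← zpow_add, ← zpow_add, add_comm]

end Abstract

variable {G : Type u} [Group G] [Finite G] {r : ℕ}

/-- The action of `N(T)` on `T`. -/
def act (T : Sylow 2 G) : NT T →* MulAut (T : Subgroup G) :=
  Subgroup.normalizerMonoidHom (T : Subgroup G)

theorem act_apply (T : Sylow 2 G) (g : NT T) (t : (T : Subgroup G)) :
    ((act T g t : (T : Subgroup G)) : G) = (g : G) * t * (g : G)⁻¹ := rfl

theorem act_eq_one_iff (T : Sylow 2 G) (g : NT T) :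
    act T g = 1 ↔ (g : G) ∈ centralizer ((T : Subgroup G) : Set G) := by
  rw [Subgroup.mem_centralizer_iff]
  constructor
  · intro h t ht
    have h1 := act_apply T g ⟨t, ht⟩
    rw [h] at h1
    exact (mul_inv_eq_iff_eq_mul.1 h1.symm).symm
  · intro h
    refine MulEquiv.ext fun t => Subtype.ext ?_
    rw [act_apply, MulAut.one_apply, ← h t t.2, mul_inv_cancel_right]

variable {T : Sylow 2 G} [IsSimpleGroup G]

theorem Hyp.act_range_odd (H : Hyp G r) : Odd (Nat.card (act T).range) := by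
  have : Fact (Nat.Prime 2) := ⟨Nat.prime_two⟩
  rw [Nat.odd_iff, ← Nat.two_dvd_ne_zero]
  intro hd
  obtain ⟨⟨_, g, rfl⟩, hg⟩ := exists_prime_orderOf_dvd_card' (G := (act T).range) 2 hd
  rw [← Subgroup.orderOf_coe] at hg
  obtain ⟨t, b, he, -, hbg, ht, hb⟩ := H.exists_two_part T g.2
  have hbN : b ∈ NT T := Subgroup.zpowers_le.2 g.2 hbg
  have h1 : act T g = act T ⟨b, hbN⟩ := by
    rw [show g = (⟨t, Subgroup.le_normalizer ht⟩ : NT T) * ⟨b, hbN⟩ from Subtype.ext he, map_mul,
      (act_eq_one_iff T _).2 (H.le_centralizer_self T ht), one_mul]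
  change orderOf (act T g) = 2 at hg
  rw [h1] at hg
  have h2 : (2 : ℕ) ∣ orderOf (⟨b, hbN⟩ : NT T) := hg ▸ orderOf_map_dvd (act T) _
  rw [Subgroup.orderOf_mk] at h2
  exact Nat.not_even_iff_odd.2 hb (even_iff_two_dvd.2 h2)

theorem Hyp.act_order (H : Hyp G r) (x : (act T).range) (hx : r ∣ orderOf x) : orderOf x = r := by
  obtain ⟨_, g, rfl⟩ := x
  rw [← Subgroup.orderOf_coe] at hx ⊢
  have h1 : orderOf (act T g) ∣ orderOf (g : G) := by
    rw [Subgroup.orderOf_coe]; exact orderOf_map_dvd _ _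
  have ho : Odd (orderOf (act T g)) := Odd.of_dvd_nat (H.act_range_odd (T := T))
    (by
      have := orderOf_dvd_natCard (⟨act T g, g, rfl⟩ : (act T).range)
      rwa [← Subgroup.orderOf_coe] at this)
  rcases H.rdiv g (hx.trans h1) with h | h <;> rw [h] at h1
  · exact Nat.dvd_antisymm h1 hx
  · exact Nat.dvd_antisymm ((Nat.coprime_two_right.2 ho).dvd_of_dvd_mul_left h1) hx

end Cfsg.Agent.TwoR
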