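import Cfsg.Prelude.Def_Solvable
import Cfsg.Agent.Char.Integral
import Cfsg.Agent.Core.PCore
import Cfsg.Agent.Fusion.SolvablePSolvable
import Cfsg.Agent.Fusion.Residual
import Cfsg.Agent.Layer.PConstraint

/-!
Groups in which the only element orders divisible by `2` are `2, 2r` and the only ones divisible by
`r` are `r, 2r`: elementary consequences.
-/

set_option autoImplicit false
set_option linter.unusedSectionVars false

open Subgroup
open scoped commutatorElement

namespace Cfsg.Agent.TwoR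

/-- The even element orders are `2` and `2r`, those divisible by `r` are `r` and `2r`. -/
structure Hyp (G : Type*) [Group G] (r : ℕ) : Prop where
  prime : r.Prime
  ne_two : r ≠ 2
  even : ∀ g : G, 2 ∣ orderOf g → orderOf g = 2 ∨ orderOf g = 2 * r
  rdiv : ∀ g : G, r ∣ orderOf g → orderOf g = r ∨ orderOf g = 2 * r
  ex : ∃ g : G, orderOf g = 2 * r

section Solvable

universe u

variable {X : Type u} [Group X] [Finite X] [Group.IsSolvable X]

theorem sylow_image_facts (T : Sylow 2 X) (hT : IsMulCommutative (T : Subgroup X)) :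
    ((T : Subgroup X).map (QuotientGroup.mk' (Cfsg.pPrimeCore 2 X))).Normal ∧
      centralizer (((T : Subgroup X).map (QuotientGroup.mk' (Cfsg.pPrimeCore 2 X)) :
        Subgroup (X ⧸ Cfsg.pPrimeCore 2 X)) : Set (X ⧸ Cfsg.pPrimeCore 2 X)) ≤
        (T : Subgroup X).map (QuotientGroup.mk' (Cfsg.pPrimeCore 2 X)) := by
  have : Fact (Nat.Prime 2) := ⟨Nat.prime_two⟩
  set O := Cfsg.pPrimeCore 2 X with hO
  set f := QuotientGroup.mk' O with hf
  have : Group.IsSolvable (X ⧸ O) :=
    Group.isSolvable_of_surjective (f := f) (QuotientGroup.mk'_surjective O)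
  have hsc := Layer.pCoreSelfCentral_of_isPSolvable (p := 2) (G := X ⧸ O)
    (Fusion.isPSolvable_of_isSolvable _) Core.pPrimeCore_quotient_eq_bot
  set Tb := (T : Subgroup X).map f with hTb
  let TS : Sylow 2 (X ⧸ O) := T.mapSurjective (QuotientGroup.mk'_surjective O)
  have hle : Cfsg.pCore 2 (X ⧸ O) ≤ Tb := Core.pCore_le_sylow TS
  have hcomm : Tb ≤ centralizer (Tb : Set (X ⧸ O)) := by
    rintro _ ⟨a, ha, rfl⟩
    rw [Subgroup.mem_centralizer_iff]
    rintro _ ⟨b, hb, rfl⟩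
    have := hT.is_comm.comm ⟨a, ha⟩ ⟨b, hb⟩
    rw [← map_mul, ← map_mul]
    exact congrArg f (congrArg Subtype.val this).symm
  have h1 : centralizer (Tb : Set (X ⧸ O)) ≤ Cfsg.pCore 2 (X ⧸ O) :=
    (centralizer_le (by exact_mod_cast hle)).trans hsc
  have h2 : Tb = Cfsg.pCore 2 (X ⧸ O) := le_antisymm (hcomm.trans h1) hle
  refine ⟨?_, h1.trans hle⟩
  rw [h2]
  exact sSup_normal _ fun _ h => h.1

theorem eq_one_of_odd_of_mem {Y : Type*} [Group Y] {P : Subgroup Y} [Finite P] (hP : IsPGroup 2 P)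
    {y : Y} (hy : y ∈ P) (hodd : Odd (orderOf y)) : y = 1 := by
  have : Fact (Nat.Prime 2) := ⟨Nat.prime_two⟩
  obtain ⟨k, hk⟩ := hP.exists_card_eq
  rw [← orderOf_eq_one_iff]
  exact Nat.eq_one_of_dvd_coprimes (Nat.Coprime.pow_left k (Nat.coprime_two_left.2 hodd))
    (hk ▸ Subgroup.orderOf_dvd_natCard _ hy) dvd_rfl

/-- `X = O(X) N(T)`. -/
theorem exists_core_mul (T : Sylow 2 X) (hT : IsMulCommutative (T : Subgroup X)) (h : X) :
    ∃ o ∈ Cfsg.pPrimeCore 2 X, ∃ n ∈ normalizer ((T : Subgroup X) : Set X), h = o * n := by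
  have : Fact (Nat.Prime 2) := ⟨Nat.prime_two⟩
  set O := Cfsg.pPrimeCore 2 X with hO
  have hN := (sylow_image_facts T hT).1
  have := hN.comap (QuotientGroup.mk' O)
  rw [Subgroup.comap_map_eq, QuotientGroup.ker_mk'] at this
  have htop := Sylow.normalizer_sup_eq_top' T (le_sup_left : (T : Subgroup X) ≤ _ ⊔ O)
  have hT' : (T : Subgroup X) ≤ normalizer ((T : Subgroup X) : Set X) := Subgroup.le_normalizer
  have hsup : O ⊔ normalizer ((T : Subgroup X) : Set X) = ⊤ := by
    refine top_le_iff.1 (htop.ge.trans (sup_le le_sup_right (sup_le ?_ le_sup_left)))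
    exact hT'.trans le_sup_right
  have hh : h ∈ ((O ⊔ normalizer ((T : Subgroup X) : Set X) : Subgroup X) : Set X) := by
    rw [hsup]; trivial
  rw [Subgroup.normal_mul] at hh
  obtain ⟨o, ho, n, hn, rfl⟩ := hh
  exact ⟨o, ho, n, hn, rfl⟩

/-- An odd element whose commutators with `T` are odd lies in `O(X)`. -/
theorem mem_core_of_commutator (T : Sylow 2 X) (hT : IsMulCommutative (T : Subgroup X)) {h : X}
    (hh : Odd (orderOf h)) (hc : ∀ t ∈ (T : Subgroup X), Odd (orderOf ⁅h, t⁆)) :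
    h ∈ Cfsg.pPrimeCore 2 X := by
  have : Fact (Nat.Prime 2) := ⟨Nat.prime_two⟩
  set O := Cfsg.pPrimeCore 2 X with hO
  set f := QuotientGroup.mk' O with hf
  obtain ⟨hN, hC⟩ := sylow_image_facts T hT
  set Tb := (T : Subgroup X).map f with hTb
  have hTp : IsPGroup 2 Tb := T.2.map f
  have hodd : ∀ y : X, Odd (orderOf y) → Odd (orderOf (f y)) := fun y hy =>
    Odd.of_dvd_nat hy (orderOf_map_dvd f y)
  have hmem : f h ∈ Tb := by
    refine hC (Subgroup.mem_centralizer_iff.2 ?_)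
    rintro _ ⟨t, ht, rfl⟩
    have h1 : ⁅f h, f t⁆ = 1 := by
      refine eq_one_of_odd_of_mem hTp ?_ (map_commutatorElement f h t ▸ hodd _ (hc t ht))
      rw [commutatorElement_def]
      exact mul_mem (hN.conj_mem _ (Subgroup.mem_map_of_mem f ht) _)
        (inv_mem (Subgroup.mem_map_of_mem f ht))
    exact (commutatorElement_eq_one_iff_mul_comm.1 h1).symm
  have h1 := eq_one_of_odd_of_mem hTp hmem (hodd h hh)
  rwa [← MonoidHom.mem_ker, hf, QuotientGroup.ker_mk'] at h1

end Solvable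

variable {G : Type*} [Group G] [Finite G] {r : ℕ} (H : Hyp G r)

include H

theorem Hyp.three_le : 3 ≤ r := by
  have := H.prime.two_le
  have := H.ne_two
  omega

theorem Hyp.odd : Odd r := H.prime.odd_of_ne_two H.ne_two

theorem Hyp.orderOf_of_commute_invol {g t : G} (ht : orderOf t = 2) (hc : Commute g t) :
    orderOf g = 1 ∨ orderOf g = 2 ∨ orderOf g = r ∨ orderOf g = 2 * r := by
  rcases Nat.even_or_odd (orderOf g) with he | ho
  · rcases H.even g (even_iff_two_dvd.1 he) with h | h <;> tauto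
  · have h1 : orderOf (g * t) = orderOf g * 2 :=
      ht ▸ hc.orderOf_mul_eq_mul_orderOf_of_coprime (ht.symm ▸ Nat.coprime_two_right.2 ho)
    rcases H.even (g * t) (h1 ▸ dvd_mul_left 2 _) with h | h <;> rw [h1] at h
    · left; omega
    · right; right; left; omega

theorem Hyp.orderOf_of_commute_r {g x : G} (hx : orderOf x = r) (hc : Commute g x) :
    orderOf g = 1 ∨ orderOf g = 2 ∨ orderOf g = r ∨ orderOf g = 2 * r := by
  by_cases hd : r ∣ orderOf g
  · rcases H.rdiv g hd with h | h <;> tauto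
  · have h1 : orderOf (g * x) = orderOf g * r := hx ▸ hc.orderOf_mul_eq_mul_orderOf_of_coprime
      (hx.symm ▸ (H.prime.coprime_iff_not_dvd.2 hd).symm)
    rcases H.rdiv (g * x) (h1 ▸ dvd_mul_left r _) with h | h <;> rw [h1] at h
    · exact Or.inl ((Nat.mul_eq_right H.prime.ne_zero).1 h)
    · exact Or.inr (Or.inl (Nat.eq_of_mul_eq_mul_right H.prime.pos h))

theorem Hyp.sq_eq_one {g : G} {k : ℕ} (hg : orderOf g ∣ 2 ^ k) : g * g = 1 := by
  obtain ⟨j, -, hj⟩ := (Nat.dvd_prime_pow Nat.prime_two).1 hg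
  rcases Nat.eq_zero_or_pos j with rfl | hj0
  · rw [pow_zero, orderOf_eq_one_iff] at hj; simp [hj]
  · rcases H.even g (hj ▸ dvd_pow_self 2 hj0.ne') with h | h
    · rw [← pow_two, ← h, pow_orderOf_eq_one]
    · exfalso
      have h1 : r ∣ 2 ^ j := hj ▸ h ▸ dvd_mul_left r 2
      exact H.ne_two ((Nat.prime_dvd_prime_iff_eq H.prime Nat.prime_two).1
        (H.prime.dvd_of_dvd_pow h1))

theorem Hyp.pow_r_eq_one {g : G} {k : ℕ} (hg : orderOf g ∣ r ^ k) : g ^ r = 1 := by
  obtain ⟨j, -, hj⟩ := (Nat.dvd_prime_pow H.prime).1 hg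
  rcases Nat.eq_zero_or_pos j with rfl | hj0
  · rw [pow_zero, orderOf_eq_one_iff] at hj; simp [hj]
  · rcases H.rdiv g (hj ▸ dvd_pow_self r hj0.ne') with h | h
    · rw [← h, pow_orderOf_eq_one]
    · exfalso
      have h1 : 2 ∣ r ^ j := hj ▸ h ▸ dvd_mul_right 2 r
      exact H.ne_two ((Nat.prime_dvd_prime_iff_eq Nat.prime_two H.prime).1
        (Nat.prime_two.dvd_of_dvd_pow h1)).symm

theorem Hyp.pow_eq_one_of_mem {P : Subgroup G} (hP : IsPGroup r P) {g : G} (hg : g ∈ P) :
    g ^ r = 1 := by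
  have : Fact r.Prime := ⟨H.prime⟩
  obtain ⟨k, hk⟩ := hP.exists_card_eq
  exact H.pow_r_eq_one (hk ▸ Subgroup.orderOf_dvd_natCard _ hg)

/-- A prime order other than `2, r` commutes with no element of order `2` or `r`. -/
theorem Hyp.not_commute_of_prime {g h : G} {s : ℕ} (hs : s.Prime) (hs2 : s ≠ 2) (hsr : s ≠ r)
    (hg : orderOf g = s) (hh : orderOf h = 2 ∨ orderOf h = r) : ¬ Commute g h := fun hc => by
  have := H.prime.two_le
  have := hs.two_le
  have h1 : orderOf g = 1 ∨ orderOf g = 2 ∨ orderOf g = r ∨ orderOf g = 2 * r :=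
    hh.elim (fun h2 => H.orderOf_of_commute_invol h2 hc) fun h2 => H.orderOf_of_commute_r h2 hc
  rcases h1 with h | h | h | h <;> rw [hg] at h
  · omega
  · exact hs2 h
  · exact hsr h
  · exact hs.ne_one (by
      rcases hs.eq_one_or_self_of_dvd 2 (h ▸ dvd_mul_right 2 r) with h2 | h2 <;> omega)

theorem Hyp.prime_dvd_cases {X : Subgroup G}
    (hX : ∀ g ∈ X, orderOf g = 1 ∨ orderOf g = 2 ∨ orderOf g = r ∨ orderOf g = 2 * r)
    {p : ℕ} (hp : p.Prime) (hd : p ∣ Nat.card X) : p = 2 ∨ p = r := by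
  have : Fact p.Prime := ⟨hp⟩
  obtain ⟨g, hg⟩ := exists_prime_orderOf_dvd_card' (G := X) p hd
  have := hp.two_le
  have := H.three_le
  rcases hX g g.2 with h | h | h | h <;> rw [Subgroup.orderOf_coe, hg] at h
  · omega
  · exact Or.inl h
  · exact Or.inr h
  · rcases hp.eq_one_or_self_of_dvd 2 (h ▸ dvd_mul_right 2 r) with h2 | h2 <;> omega

theorem Hyp.isSolvable {X : Subgroup G}
    (hX : ∀ g ∈ X, orderOf g = 1 ∨ orderOf g = 2 ∨ orderOf g = r ∨ orderOf g = 2 * r) :
    Group.IsSolvable X := by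
  refine Char.isSolvable_of_card_eq 2 r Nat.prime_two H.prime _ X rfl ?_
  refine ⟨(Nat.card X).factorization 2, (Nat.card X).factorization r, ?_⟩
  have hne : Nat.card X ≠ 0 := Nat.card_pos.ne'
  have hsub : (Nat.card X).factorization.support ⊆ {2, r} := fun p hp => by
    rw [Nat.support_factorization, Nat.mem_primeFactors] at hp
    simpa using H.prime_dvd_cases hX hp.1 hp.2.1
  conv_lhs => rw [← Nat.prod_factorization_pow_eq_self hne]
  rw [Finsupp.prod_of_support_subset _ hsub _ (fun _ _ => pow_zero _),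
    Finset.prod_pair (Ne.symm H.ne_two)]

theorem Hyp.isSolvable_centralizer_invol {t : G} (ht : orderOf t = 2) :
    Group.IsSolvable (centralizer ({t} : Set G)) :=
  H.isSolvable fun g hg =>
    H.orderOf_of_commute_invol ht (Subgroup.mem_centralizer_singleton_iff.1 hg)

theorem Hyp.isSolvable_centralizer_r {x : G} (hx : orderOf x = r) :
    Group.IsSolvable (centralizer ({x} : Set G)) :=
  H.isSolvable fun g hg =>
    H.orderOf_of_commute_r hx (Subgroup.mem_centralizer_singleton_iff.1 hg)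

theorem Hyp.sylow_comm (T : Sylow 2 G) : IsMulCommutative (T : Subgroup G) := by
  have : Fact (Nat.Prime 2) := ⟨Nat.prime_two⟩
  have hsq : ∀ a ∈ (T : Subgroup G), a * a = 1 := fun a ha => by
    obtain ⟨k, hk⟩ := T.2.exists_card_eq
    exact H.sq_eq_one (hk ▸ Subgroup.orderOf_dvd_natCard _ ha)
  refine ⟨⟨fun a b => Subtype.ext ?_⟩⟩
  have h1 := inv_eq_of_mul_eq_one_right (hsq _ (mul_mem a.2 b.2))
  rw [mul_inv_rev, inv_eq_of_mul_eq_one_right (hsq _ a.2),
    inv_eq_of_mul_eq_one_right (hsq _ b.2)] at h1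
  exact h1.symm

theorem Hyp.sylow_invol (T : Sylow 2 G) {a : G} (ha : a ∈ (T : Subgroup G)) (ha1 : a ≠ 1) :
    orderOf a = 2 := by
  have : Fact (Nat.Prime 2) := ⟨Nat.prime_two⟩
  obtain ⟨k, hk⟩ := T.2.exists_card_eq
  have hsq : a * a = 1 := H.sq_eq_one (hk ▸ Subgroup.orderOf_dvd_natCard _ ha)
  exact orderOf_eq_prime ((pow_two a).trans hsq) ha1

end Cfsg.Agent.TwoR
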