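import Cfsg.Agent.TwoR.Act
import Cfsg.Agent.SuzukiTI.Main
import Cfsg.Agent.Fusion.PGroup
import Cfsg.Agent.Invol.KleinSylow

/-!
No element outside `C(T)` fixes an involution of `T`: this case is impossible.
-/

set_option autoImplicit false
set_option linter.unusedSectionVars false

open Subgroup
open scoped commutatorElement

namespace Cfsg.Agent.TwoR

universe u

variable {G : Type u} [Group G] [Finite G] {r : ℕ} [IsSimpleGroup G] {T : Sylow 2 G}

/-- `N(T)/C(T)` acts semiregularly. -/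
structure Semi (T : Sylow 2 G) (r : ℕ) : Prop extends Loc T r where
  semi : ∀ b ∈ NT T, ∀ a ∈ (T : Subgroup G), a ≠ 1 → Commute b a →
    b ∈ centralizer ((T : Subgroup G) : Set G)

variable (S : Semi T r)

include S

theorem Semi.exists_w : ∃ w ∈ coreOf (T : Subgroup G), w ≠ 1 := by
  have : Fact (Nat.Prime 2) := ⟨Nat.prime_two⟩
  have := S.hyp.three_le
  obtain ⟨g, hg⟩ := S.hyp.ex
  have hgr : orderOf (g ^ r) = 2 := by
    rw [orderOf_pow, hg, Nat.gcd_eq_right (dvd_mul_left r 2), Nat.mul_div_cancel _ S.hyp.prime.pos]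
  obtain ⟨h, hh⟩ := Invol.exists_sylow_conj_mem T hgr
  set g' := h * g * h⁻¹ with hg'
  have hpow : g' ^ r = h * g ^ r * h⁻¹ := conj_pow
  have ha1 : h * g ^ r * h⁻¹ ≠ 1 := fun e => by
    rw [conj_eq_one_iff.1 e, orderOf_one] at hgr; omega
  have hc : Commute g' (h * g ^ r * h⁻¹) := hpow ▸ Commute.self_pow g' r
  have hgC := S.semi g' (S.toLoc.mem_NT_of_commute hh ha1 hc) _ hh ha1 hc
  obtain ⟨t, ht, w, hw, he⟩ := S.hyp.exists_mul_of_centralizer T hgC
  refine ⟨w, hw, fun h1 => ?_⟩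
  rw [h1, mul_one] at he
  have h2 : orderOf g' = 2 * r := (orderOf_conj_eq h g).trans hg
  rcases eq_or_ne t 1 with h3 | h3
  · rw [he, h3, orderOf_one] at h2; omega
  · rw [he, S.hyp.sylow_invol T ht h3] at h2; omega

theorem Semi.exists_r_element : ∃ x ∈ NT T, x ^ r = 1 ∧ x ∉ centralizer ((T : Subgroup G) : Set G) := by
  have : Fact (Nat.Prime 2) := ⟨Nat.prime_two⟩
  by_contra hno
  push Not at hno
  set K := centralizer ((T : Subgroup G) : Set G) with hK
  have hTK : (T : Subgroup G) ≤ K := S.hyp.le_centralizer_self T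
  have hinv : ∀ t ∈ K, Fg24.CT.Inv2 t → t ∈ (T : Subgroup G) := fun t ht h2 => by
    refine S.toLoc.invol_mem (orderOf_eq_prime (by rw [pow_two]; exact h2.2) h2.1) ?_
    exact centralizer_le_normalizer _ ht
  have hcent : ∀ t ∈ (T : Subgroup G), t ≠ 1 → centralizer ({t} : Set G) = K := fun t ht ht1 => by
    refine le_antisymm (fun g hg => ?_) (centralizer_le (Set.singleton_subset_iff.2 ht))
    have hc := Subgroup.mem_centralizer_singleton_iff.1 hg
    exact S.semi g (S.toLoc.mem_NT_of_commute ht ht1 hc) t ht ht1 hc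
  have hH : SuzukiTI.Hyp K := by
    refine ⟨fun htop => ?_, ?_, fun t ht h2 => hcent t (hinv t ht h2) h2.1, fun y hy hy1 => ?_⟩
    · rcases (Subgroup.normalizer_eq_top_iff.1 htop).eq_bot_or_eq_top with h | h
      · obtain ⟨a, ha, ha1⟩ := S.hyp.exists_sylow_invol T
        exact ha1 (Subgroup.mem_bot.1 (h ▸ hTK ha))
      · refine S.toLoc.NT_ne_top (top_le_iff.1 fun g _ => ?_)
        exact centralizer_le_normalizer _ (h ▸ Subgroup.mem_top g : g ∈ K)
    · obtain ⟨a, ha, ha1⟩ := S.hyp.exists_sylow_invol T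
      obtain ⟨b, hb, hb1, hba⟩ : ∃ b ∈ (T : Subgroup G), b ≠ 1 ∧ b ≠ a := by
        by_contra h
        push Not at h
        have hle : (T : Subgroup G) ≤ zpowers a := fun b hb => by
          by_cases hb1 : b = 1
          · simp [hb1]
          · rw [h b hb hb1]; exact mem_zpowers a
        have h4 := S.hyp.four_le_card T
        have h2 := Subgroup.card_le_of_le hle
        rw [Nat.card_zpowers, S.hyp.sylow_invol T ha ha1] at h2
        omega
      have hsq : ∀ c ∈ (T : Subgroup G), c ≠ 1 → Fg24.CT.Inv2 c := fun c hc hc1 =>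
        ⟨hc1, by rw [← pow_two, ← S.hyp.sylow_invol T hc hc1, pow_orderOf_eq_one]⟩
      exact ⟨a, b, hTK ha, hTK hb, hsq a ha ha1, hsq b hb hb1, hba.symm⟩
    · obtain ⟨t, ht, w, hw, rfl⟩ := S.hyp.exists_mul_of_centralizer T hy
      intro g hg
      have hc : Commute g (t * w) := Subgroup.mem_centralizer_singleton_iff.1 hg
      rcases eq_or_ne t 1 with rfl | ht1
      · rw [one_mul] at hy1 hc
        have hgN := S.toLoc.centralizer_coreOf_le hw hy1
          (Subgroup.mem_centralizer_singleton_iff.2 hc)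
        obtain ⟨t', b, he, hcb, hbg, ht', hb⟩ := S.hyp.exists_two_part T hgN
        have hbw : Commute b w := by
          obtain ⟨i, rfl⟩ := Subgroup.mem_zpowers_iff.1 hbg
          exact hc.zpow_left i
        have hwr : orderOf w = r := by
          have := Fact.mk S.hyp.prime
          exact orderOf_eq_prime (S.hyp.coreOf_pow T hw) hy1
        have hbr : b ^ r = 1 := by
          rcases S.hyp.orderOf_of_commute_r hwr hbw with h | h | h | h
          · rw [orderOf_eq_one_iff] at h; simp [h]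
          · rw [h] at hb; exact absurd hb (by decide)
          · rw [← h, pow_orderOf_eq_one]
          · rw [h] at hb; exact absurd hb (Nat.not_odd_iff_even.2 (even_two_mul r))
        rw [he]
        exact mul_mem (hTK ht') (hno b (Subgroup.zpowers_le.2 hgN hbg) hbr)
      · have h1 : (t * w) ^ r = t := by
          obtain ⟨j, hj⟩ := S.hyp.odd
          rw [(S.hyp.commute_coreOf T hw ht).symm.mul_pow, S.hyp.coreOf_pow T hw, mul_one, hj,
            pow_succ, pow_mul, pow_two, ← pow_two,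
            orderOf_dvd_iff_pow_eq_one.1 (dvd_of_eq (S.hyp.sylow_invol T ht ht1)), one_pow, one_mul]
        rw [← hcent t ht ht1, Subgroup.mem_centralizer_singleton_iff]
        exact (h1 ▸ hc.pow_right r : Commute g t)
  obtain ⟨w, hw, hw1⟩ := S.exists_w
  exact hw1 (eq_one_of_odd_of_mem hH.isPGroup ((S.hyp.mem_coreOf_iff T).1 hw).1
    ((S.hyp.mem_coreOf_iff T).1 hw).2)

theorem Semi.act_card : Nat.card (act T).range = r ∧ ∀ a b : (act T).range, a * b = b * a := by
  have : Fact (Nat.Prime 2) := ⟨Nat.prime_two⟩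
  have := Fact.mk S.hyp.prime
  letI : CommGroup (T : Subgroup G) :=
    { (inferInstance : Group (T : Subgroup G)) with
      mul_comm := fun a b => (S.hyp.sylow_comm T).is_comm.comm a b }
  obtain ⟨k, hk⟩ := T.2.exists_card_eq
  refine card_eq_of_semiregular (act T).range.subtype (k := k) S.hyp.prime S.hyp.ne_two
    (fun v => by rw [← hk]; exact pow_card_eq_one') Subtype.val_injective S.hyp.act_range_odd ?_
    (fun g hg => S.hyp.act_order g hg) ?_
  · rintro ⟨_, g, rfl⟩ hg1 v hv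
    by_contra hv1
    refine hg1 (Subtype.ext ((act_eq_one_iff T g).2 ?_))
    refine S.semi g g.2 v v.2 (fun e => hv1 (Subtype.ext e)) ?_
    have h1 := act_apply T g v
    change act T g v = v at hv
    rw [hv] at h1
    exact (mul_inv_eq_iff_eq_mul.1 h1.symm)
  · obtain ⟨x, hx, hxr, hxC⟩ := S.exists_r_element
    have h1 : orderOf (⟨act T ⟨x, hx⟩, ⟨x, hx⟩, rfl⟩ : (act T).range) = r :=
      orderOf_eq_prime (Subtype.ext (by
          show act T ⟨x, hx⟩ ^ r = 1
          rw [← map_pow, show (⟨x, hx⟩ : NT T) ^ r = 1 from Subtype.ext hxr, map_one]))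
        fun e => hxC ((act_eq_one_iff T ⟨x, hx⟩).1 (congrArg Subtype.val e))
    exact h1 ▸ orderOf_dvd_natCard _

theorem Semi.pow_eq_one_of_odd {b : G} (hb : b ∈ NT T) (hodd : Odd (orderOf b)) : b ^ r = 1 := by
  have h1 : act T ⟨b, hb⟩ ^ r = 1 := by
    have h2 := pow_card_eq_one' (x := (⟨act T ⟨b, hb⟩, ⟨b, hb⟩, rfl⟩ : (act T).range))
    rw [S.act_card.1] at h2
    simpa using congrArg Subtype.val h2
  rw [← map_pow] at h1
  have h3 : b ^ r ∈ coreOf (T : Subgroup G) := (S.hyp.mem_coreOf_iff T).2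
    ⟨by simpa using (act_eq_one_iff T _).1 h1, Odd.of_dvd_nat hodd (orderOf_pow_dvd r)⟩
  refine S.hyp.pow_r_eq_one (k := 2) (orderOf_dvd_of_pow_eq_one ?_)
  rw [pow_two, pow_mul, S.hyp.coreOf_pow T h3]

/-- `N(T) = T Q` for every Sylow `r`-subgroup `Q` of `N(T)`. -/
theorem Semi.exists_mul (Q : Sylow r (NT T)) (m : NT T) :
    ∃ t ∈ (T : Subgroup G), ∃ p ∈ (Q : Subgroup (NT T)), (m : G) = t * (p : G) := by
  have : Fact (Nat.Prime 2) := ⟨Nat.prime_two⟩
  have := Fact.mk S.hyp.prime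
  have hTM : (T : Subgroup G) ≤ NT T := Subgroup.le_normalizer
  set T' := ((T : Subgroup G).subgroupOf (NT T)) with hT'
  have hTn : T'.Normal := Subgroup.normal_in_normalizer
  have hT2 : ¬ 2 ∣ T'.index := (T.subtype hTM).not_dvd_index
  have hQr : ¬ r ∣ (Q : Subgroup (NT T)).index := Q.not_dvd_index
  have h1 : (T' ⊔ (Q : Subgroup (NT T))).index = 1 := by
    by_contra hne
    obtain ⟨p, hp, hpd⟩ := Nat.exists_prime_and_dvd hne
    have := Fact.mk hp
    have hp2 : p ≠ 2 := fun e => hT2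
      ((dvd_of_eq e.symm).trans (hpd.trans (Subgroup.index_dvd_of_le (le_sup_left : T' ≤ _))))
    have hpr : p ≠ r := fun e => hQr
      ((dvd_of_eq e.symm).trans (hpd.trans (Subgroup.index_dvd_of_le le_sup_right)))
    obtain ⟨b, hb⟩ := exists_prime_orderOf_dvd_card' (G := NT T) p
      (hpd.trans (Subgroup.index_dvd_card _))
    rw [← Subgroup.orderOf_coe] at hb
    have h2 := orderOf_dvd_of_pow_eq_one
      (S.pow_eq_one_of_odd b.2 (hb ▸ hp.odd_of_ne_two hp2))
    rw [hb] at h2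
    exact hpr ((Nat.prime_dvd_prime_iff_eq hp S.hyp.prime).1 h2)
  have hm : m ∈ T' ⊔ (Q : Subgroup (NT T)) := Subgroup.index_eq_one.1 h1 ▸ Subgroup.mem_top m
  rw [← SetLike.mem_coe, Subgroup.normal_mul] at hm
  obtain ⟨t, ht, q, hq, rfl⟩ := hm
  exact ⟨t, ht, q, hq, rfl⟩

omit S

/-- A central element of `N(T)` in `O(C(T))`. -/
structure Cen (T : Sylow 2 G) (r : ℕ) (w : G) : Prop extends Semi T r where
  wW : w ∈ coreOf (T : Subgroup G)
  w_ne : w ≠ 1
  wc : ∀ m ∈ NT T, Commute m w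

/-- An involution moving the base point to a further fixed point of `w`. -/
structure Fixp (T : Sylow 2 G) (r : ℕ) (w u : G) : Prop extends Cen T r w where
  u2 : orderOf u = 2
  uM : u ∉ NT T
  fx : u * w * u ∈ NT T

variable {w u : G}

theorem mul_self_of_orderOf {g : G} (hg : orderOf g = 2) : g * g = 1 ∧ g⁻¹ = g :=
  have h1 : g * g = 1 := by rw [← pow_two]; exact orderOf_dvd_iff_pow_eq_one.1 (dvd_of_eq hg)
  ⟨h1, inv_eq_of_mul_eq_one_right h1⟩

theorem Cen.mem_of_commute (C : Cen T r w) {g : G} (hg : Commute g w) : g ∈ NT T :=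
  C.toSemi.toLoc.centralizer_coreOf_le C.wW C.w_ne (Subgroup.mem_centralizer_singleton_iff.2 hg)

theorem Cen.exists_fixp (C : Cen T r w) {h : G} (hh : h ∉ NT T) (hmem : h⁻¹ * w * h ∈ NT T) :
    ∃ u : G, Fixp T r w u ∧ u⁻¹ * h ∈ NT T := by
  obtain ⟨u, hu2, huM, huh⟩ := C.toSemi.toLoc.exists_swap hh
  refine ⟨u, ⟨C, hu2, huM, ?_⟩, huh⟩
  have h1 := mul_mem (mul_mem huh hmem) (inv_mem huh)
  rw [(mul_self_of_orderOf hu2).2] at h1
  rw [show u * h * (h⁻¹ * w * h) * (u * h)⁻¹ = u * w * u⁻¹ by group,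
    (mul_self_of_orderOf hu2).2] at h1
  exact h1

variable (F : Fixp T r w u)

include F

theorem Fixp.conj_conj (g : G) : u * (u * g * u) * u = g := by
  rw [show u * (u * g * u) * u = (u * u) * g * (u * u) by group, (mul_self_of_orderOf F.u2).1]
  simp

theorem Fixp.conj_mul (a b : G) : u * (a * b) * u = u * a * u * (u * b * u) := by
  rw [show u * a * u * (u * b * u) = u * a * (u * u) * b * u by group,
    (mul_self_of_orderOf F.u2).1]
  group

theorem Fixp.conj_zpow (a : G) (i : ℤ) : u * a ^ i * u = (u * a * u) ^ i := by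
  have h := (map_zpow (MulAut.conj u).toMonoidHom a i)
  simpa [(mul_self_of_orderOf F.u2).2] using h

theorem Fixp.commute_conj {a b : G} (h : Commute a b) : Commute (u * a * u) (u * b * u) := by
  have h1 := (Commute.conj_iff u).2 h
  rwa [(mul_self_of_orderOf F.u2).2] at h1

theorem Fixp.w1_not_mem : u * w * u ∉ centralizer ((T : Subgroup G) : Set G) := by
  intro hc
  have S := F.toCen.toSemi
  obtain ⟨a, ha, ha1⟩ := S.hyp.exists_sylow_invol T
  have h1 := F.commute_conj (Subgroup.mem_centralizer_iff.1 hc a ha : Commute a (u * w * u))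
  rw [F.conj_conj] at h1
  have h2 := F.toCen.mem_of_commute h1
  exact S.toLoc.invol_not_fix ha ha1 F.uM (by rwa [(mul_self_of_orderOf F.u2).2])

theorem Fixp.commute_iff {g : G} : Commute g (u * w * u) ↔ u * g * u ∈ NT T := by
  constructor
  · intro h
    refine F.toCen.mem_of_commute ?_
    have h1 := F.commute_conj h
    rwa [F.conj_conj] at h1
  · intro h
    have h1 := F.commute_conj (F.wc _ h)
    rwa [F.conj_conj] at h1

theorem Fixp.pow_eq_one {d : G} (hd : d ∈ NT T) (hd' : u * d * u ∈ NT T) : d ^ r = 1 := by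
  have S := F.toCen.toSemi
  obtain ⟨t, b, he, -, hbg, ht, hb⟩ := S.hyp.exists_two_part T hd
  suffices ht1 : t = 1 by
    rw [he, ht1, one_mul]
    exact S.pow_eq_one_of_odd (Subgroup.zpowers_le.2 hd hbg) hb
  by_contra ht1
  refine S.toLoc.invol_not_fix ht ht1 F.uM ?_
  obtain ⟨i, hi⟩ := Subgroup.mem_zpowers_iff.1 hbg
  rw [(mul_self_of_orderOf F.u2).2, show t = d * d ^ (-i) by rw [zpow_neg, hi, he, mul_inv_cancel_right],
    F.conj_mul, F.conj_zpow]
  exact mul_mem hd' (zpow_mem hd' _)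

theorem Fixp.zpowers_of_mem_centralizer {d : G} (hd : d ∈ NT T) (hd' : u * d * u ∈ NT T)
    (hdC : d ∈ centralizer ((T : Subgroup G) : Set G)) : d ∈ zpowers w := by
  have S := F.toCen.toSemi
  have := Fact.mk S.hyp.prime
  set y : (act T).range := ⟨act T ⟨u * w * u, F.fx⟩, _, rfl⟩ with hy
  have hy1 : y ≠ 1 := fun e => F.w1_not_mem ((act_eq_one_iff T _).1 (congrArg Subtype.val e))
  obtain ⟨i, hi⟩ := Subgroup.mem_zpowers_iff.1 (mem_zpowers_of_prime_card
    (g' := (⟨act T ⟨u * d * u, hd'⟩, _, rfl⟩ : (act T).range)) S.act_card.1 hy1)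
  have hwC := ((S.hyp.mem_coreOf_iff T).1 F.wW).1
  suffices h : d * (w ^ i)⁻¹ = 1 by
    rw [mul_inv_eq_one.1 h]; exact zpow_mem (mem_zpowers w) i
  set e := d * (w ^ i)⁻¹ with he
  have heC : e ∈ centralizer ((T : Subgroup G) : Set G) := mul_mem hdC (inv_mem (zpow_mem hwC i))
  have hwM := centralizer_le_normalizer _ hwC
  have heM : e ∈ NT T := centralizer_le_normalizer _ heC
  have hc : u * e * u = u * d * u * ((u * w * u) ^ i)⁻¹ := by
    rw [he, F.conj_mul, ← zpow_neg, F.conj_zpow, zpow_neg]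
  have heM' : u * e * u ∈ NT T := hc ▸ mul_mem hd' (inv_mem (zpow_mem F.fx i))
  have he' : u * e * u ∈ centralizer ((T : Subgroup G) : Set G) := by
    refine (act_eq_one_iff T ⟨_, heM'⟩).1 ?_
    rw [show (⟨u * e * u, heM'⟩ : NT T) = ⟨u * d * u, hd'⟩ * (⟨u * w * u, F.fx⟩ ^ i)⁻¹ from
      Subtype.ext (by simpa using hc), map_mul, map_inv, map_zpow]
    have h1 := congrArg Subtype.val hi
    simp only [hy, SubgroupClass.coe_zpow] at h1
    rw [h1, mul_inv_cancel]
  by_contra he1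
  have heW : e ∈ coreOf (T : Subgroup G) := (S.hyp.mem_coreOf_iff T).2
    ⟨heC, Odd.of_dvd_nat S.hyp.odd (orderOf_dvd_of_pow_eq_one (F.pow_eq_one heM heM'))⟩
  obtain ⟨a, ha, ha1⟩ := S.hyp.exists_sylow_invol T
  have h1 := F.commute_conj (Subgroup.mem_centralizer_iff.1 he' a ha : Commute a (u * e * u))
  rw [F.conj_conj] at h1
  have h2 := S.toLoc.centralizer_coreOf_le heW he1
    (Subgroup.mem_centralizer_singleton_iff.2 h1)
  exact S.toLoc.invol_not_fix ha ha1 F.uM (by rwa [(mul_self_of_orderOf F.u2).2])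

theorem Fixp.exists_zpow {d : G} (hd : d ∈ NT T) (hd' : u * d * u ∈ NT T) :
    ∃ i j : ℤ, d = w ^ i * (u * w * u) ^ j := by
  have S := F.toCen.toSemi
  have := Fact.mk S.hyp.prime
  set y : (act T).range := ⟨act T ⟨u * w * u, F.fx⟩, _, rfl⟩ with hy
  have hy1 : y ≠ 1 := fun e => F.w1_not_mem ((act_eq_one_iff T _).1 (congrArg Subtype.val e))
  obtain ⟨j, hj⟩ := Subgroup.mem_zpowers_iff.1 (mem_zpowers_of_prime_card
    (g' := (⟨act T ⟨d, hd⟩, _, rfl⟩ : (act T).range)) S.act_card.1 hy1)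
  have h1 := congrArg Subtype.val hj
  simp only [hy, SubgroupClass.coe_zpow] at h1
  have hwM : w ∈ NT T := centralizer_le_normalizer _ ((S.hyp.mem_coreOf_iff T).1 F.wW).1
  obtain ⟨i, hi⟩ := Subgroup.mem_zpowers_iff.1 (F.zpowers_of_mem_centralizer
    (d := d * ((u * w * u) ^ j)⁻¹) (mul_mem hd (inv_mem (zpow_mem F.fx j))) (by
      rw [F.conj_mul, ← zpow_neg, F.conj_zpow, F.conj_conj]
      exact mul_mem hd' (zpow_mem hwM _)) (by
      refine (act_eq_one_iff T ⟨_, mul_mem hd (inv_mem (zpow_mem F.fx j))⟩).1 ?_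
      rw [show (⟨d * ((u * w * u) ^ j)⁻¹, _⟩ : NT T) = ⟨d, hd⟩ * (⟨u * w * u, F.fx⟩ ^ j)⁻¹ from
        Subtype.ext (by simp), map_mul, map_inv, map_zpow, h1, mul_inv_cancel]))
  exact ⟨i, j, by rw [hi, inv_mul_cancel_right]⟩

/-- An element of order `r` of `N(T)` normalising the two-point stabiliser fixes both points. -/
theorem Fixp.mem_of_transvection {k : G} (hk : k ∈ NT T) (hkr : k ^ r = 1)
    (hk1 : u * (k * (u * w * u) * k⁻¹) * u ∈ NT T) : u * k * u ∈ NT T := by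
  by_contra hkD
  have S := F.toCen.toSemi
  set w1 := u * w * u with hw1d
  have hw1u : u * w1 * u = w := F.conj_conj w
  obtain ⟨huu, hui⟩ := mul_self_of_orderOf F.u2
  have hwr : w ^ r = 1 := S.hyp.coreOf_pow T F.wW
  have hwM : w ∈ NT T := centralizer_le_normalizer _ ((S.hyp.mem_coreOf_iff T).1 F.wW).1
  obtain ⟨a, ha⟩ := Subgroup.mem_zpowers_iff.1 (F.zpowers_of_mem_centralizer
    (d := k * w1 * k⁻¹ * w1⁻¹) (mul_mem (mul_mem (mul_mem hk F.fx) (inv_mem hk)) (inv_mem F.fx)) (by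
      rw [F.conj_mul]
      refine mul_mem hk1 ?_
      rw [← zpow_neg_one w1, F.conj_zpow, hw1u]
      exact zpow_mem hwM _) (by
      refine (act_eq_one_iff T ⟨_, mul_mem (mul_mem (mul_mem hk F.fx) (inv_mem hk))
        (inv_mem F.fx)⟩).1 ?_
      rw [show (⟨k * w1 * k⁻¹ * w1⁻¹, _⟩ : NT T) =
          ⟨k, hk⟩ * ⟨w1, F.fx⟩ * (⟨k, hk⟩)⁻¹ * (⟨w1, F.fx⟩)⁻¹ from rfl,
        map_mul, map_mul, map_mul, map_inv, map_inv]
      have h := congrArg Subtype.val (S.act_card.2 ⟨act T ⟨k, hk⟩, _, rfl⟩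
        ⟨act T ⟨w1, F.fx⟩, _, rfl⟩)
      simp only [Subgroup.coe_mul] at h
      rw [h, mul_inv_cancel_right, mul_inv_cancel]))
  have hkw1 : k * w1 * k⁻¹ = w ^ a * w1 := by rw [ha, inv_mul_cancel_right]
  have ha0 : ¬ (r : ℤ) ∣ a := by
    rintro ⟨c, rfl⟩
    rw [zpow_mul, zpow_natCast, hwr, one_zpow, one_mul] at hkw1
    have h1 : Commute k w1 := mul_inv_eq_iff_eq_mul.1 hkw1
    exact hkD (F.commute_iff.1 h1)
  have hcomm : Commute w w1 := (F.wc w1 F.fx).symm
  have hkz : ∀ j : ℕ, k ^ j * w1 * (k ^ j)⁻¹ = w ^ (a * j) * w1 := by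
    intro j
    induction j with
    | zero => simp
    | succ j ih =>
      calc k ^ (j + 1) * w1 * (k ^ (j + 1))⁻¹
          = k * (k ^ j * w1 * (k ^ j)⁻¹) * k⁻¹ := by rw [pow_succ']; group
        _ = (k * w ^ (a * j) * k⁻¹) * (k * w1 * k⁻¹) := by rw [ih]; group
        _ = w ^ (a * (j + 1 : ℕ)) * w1 := by
          rw [((F.wc k hk).zpow_right (a * j)).eq, mul_inv_cancel_right, hkw1, ← mul_assoc,
            ← zpow_add]
          congr 2
          push_cast
          ring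
  obtain ⟨m, hm⟩ : ∃ m : ℕ, w ^ (a * m) = w := by
    have hcop : IsCoprime a (r : ℤ) :=
      ((Nat.prime_iff_prime_int.1 S.hyp.prime).coprime_iff_not_dvd.2 ha0).symm
    obtain ⟨p, q, hpq⟩ := hcop
    refine ⟨(p % r).toNat, ?_⟩
    rw [Int.toNat_of_nonneg (Int.emod_nonneg p (by exact_mod_cast S.hyp.prime.ne_zero)),
      Int.emod_def, show a * (p - (r : ℤ) * (p / r)) = 1 + (r : ℤ) * (-q - a * (p / r)) by
        linear_combination hpq,
      zpow_add, zpow_one, zpow_mul, zpow_natCast, hwr, one_zpow, mul_one]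
  set g1 := k ^ m with hg1
  have hg1c : Commute g1 w := (F.wc k hk).pow_left m
  have hg1w : g1 * w * g1⁻¹ = w := by rw [hg1c.eq, mul_inv_cancel_right]
  have hg1w1 : g1 * w1 * g1⁻¹ = w * w1 := by rw [hg1, hkz, hm]
  set g2 := u * g1⁻¹ * u with hg2
  have hg2i : g2⁻¹ = u * g1 * u := by
    rw [hg2, mul_inv_rev, mul_inv_rev, inv_inv, hui]; group
  have hg2w1 : g2 * w1 * g2⁻¹ = w1 := by
    calc g2 * w1 * g2⁻¹ = u * g1⁻¹ * (u * w1 * u) * g1 * u := by rw [hg2i, hg2]; group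
      _ = w1 := by rw [hw1u, mul_assoc u, hg1c.inv_left.eq, hw1d]; group
  have hg1' : g1⁻¹ * w1 * g1 = w⁻¹ * w1 := by
    calc g1⁻¹ * w1 * g1 = g1⁻¹ * (w⁻¹ * (g1 * w1 * g1⁻¹)) * g1 := by
          rw [hg1w1, inv_mul_cancel_left]
      _ = (g1⁻¹ * w⁻¹ * g1) * w1 := by group
      _ = w⁻¹ * w1 := by rw [hg1c.inv_inv.eq, inv_mul_cancel_right]
  have hg2w : g2 * w * g2⁻¹ = w1⁻¹ * w := by
    calc g2 * w * g2⁻¹ = u * (g1⁻¹ * (u * w * u) * g1) * u := by rw [hg2i, hg2]; group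
      _ = u * (w⁻¹ * w1) * u := by rw [← hw1d, hg1']
      _ = (u * w⁻¹ * u) * (u * w1 * u) := F.conj_mul _ _
      _ = w1⁻¹ * w := by rw [hw1u, ← zpow_neg_one w, F.conj_zpow, zpow_neg_one]
  set c := g1 * g2 * g1 with hc
  have hcw : c * w * c⁻¹ = w1⁻¹ := by
    calc c * w * c⁻¹ = g1 * (g2 * (g1 * w * g1⁻¹) * g2⁻¹) * g1⁻¹ := by rw [hc]; group
      _ = (g1 * w1 * g1⁻¹)⁻¹ * (g1 * w * g1⁻¹) := by
        conv_lhs => rw [hg1w, hg2w]
        group
      _ = w1⁻¹ := by rw [hg1w, hg1w1, mul_inv_rev, inv_mul_cancel_right]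
  have hcw1 : c * w1 * c⁻¹ = w := by
    calc c * w1 * c⁻¹ = g1 * (g2 * (g1 * w1 * g1⁻¹) * g2⁻¹) * g1⁻¹ := by rw [hc]; group
      _ = g1 * ((g2 * w * g2⁻¹) * (g2 * w1 * g2⁻¹)) * g1⁻¹ := by rw [hg1w1]; group
      _ = g1 * (w1⁻¹ * w * w1) * g1⁻¹ := by rw [hg2w, hg2w1]
      _ = w := by rw [mul_assoc w1⁻¹, hcomm.eq, inv_mul_cancel_left, hg1w]
  have hc2 : c ^ 2 * w * (c ^ 2)⁻¹ = w⁻¹ := by
    calc c ^ 2 * w * (c ^ 2)⁻¹ = c * (c * w * c⁻¹) * c⁻¹ := by rw [pow_two]; group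
      _ = (c * w1 * c⁻¹)⁻¹ := by rw [hcw]; group
      _ = w⁻¹ := by rw [hcw1]
  have hc2M : c ^ 2 ∈ NT T := by
    refine Subgroup.mem_normalizer_iff_map_conj_eq.2 (Subgroup.eq_of_le_of_card_ge ?_
      (le_of_eq (Subgroup.card_map_of_injective (MulAut.conj (c ^ 2)).injective).symm))
    rintro _ ⟨t, ht, rfl⟩
    rcases eq_or_ne t 1 with rfl | ht1
    · simp
    refine S.toLoc.invol_mem
      ((orderOf_conj_eq (c ^ 2) t).trans (S.hyp.sylow_invol T ht ht1)) (F.toCen.mem_of_commute ?_)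
    have h1 := (Commute.conj_iff (c ^ 2)).2 (S.hyp.commute_coreOf T F.wW ht).symm
    rw [hc2] at h1
    show Commute (c ^ 2 * t * (c ^ 2)⁻¹) w
    simpa using h1.inv_right
  rw [(F.wc _ hc2M).eq, mul_inv_cancel_right] at hc2
  have := Fact.mk S.hyp.prime
  have h2 : orderOf w ∣ 2 := orderOf_dvd_of_pow_eq_one (by
    rw [pow_two]; nth_rewrite 2 [hc2]; exact mul_inv_cancel w)
  rw [orderOf_eq_prime hwr F.w_ne] at h2
  have := Nat.le_of_dvd two_pos h2
  have := S.hyp.three_le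
  omega

theorem Fixp.exists_sylow : ∃ Q : Sylow r (NT T),
    (∀ g : NT T, g ∈ (Q : Subgroup (NT T)) → u * (g : G) * u ∈ NT T) ∧
    ∀ g : NT T, u * (g : G) * u ∈ NT T → g ∈ (Q : Subgroup (NT T)) := by
  have S := F.toCen.toSemi
  have := Fact.mk S.hyp.prime
  set D : Subgroup (NT T) :=
    { carrier := {g | u * (g : G) * u ∈ NT T}
      one_mem' := by simp [(mul_self_of_orderOf F.u2).1]
      mul_mem' := fun {a b} ha hb => by
        show u * ((a : G) * b) * u ∈ NT T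
        rw [F.conj_mul]; exact mul_mem ha hb
      inv_mem' := fun {a} ha => by
        show u * (a : G)⁻¹ * u ∈ NT T
        rw [← zpow_neg_one (a : G), F.conj_zpow]; exact zpow_mem ha _ } with hD
  have hDp : IsPGroup r D := fun d =>
    ⟨1, Subtype.ext (Subtype.ext (by simpa using F.pow_eq_one (d : NT T).2 d.2))⟩
  obtain ⟨Q, hQ⟩ := hDp.exists_le_sylow
  refine ⟨Q, ?_, fun g hg => hQ hg⟩
  by_contra hno
  push Not at hno
  obtain ⟨g, hgQ, hgD⟩ := hno
  have hlt : D.subgroupOf (Q : Subgroup (NT T)) < ⊤ := by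
    rw [lt_top_iff_ne_top, Ne, Subgroup.subgroupOf_eq_top]
    exact fun hle => hgD (hle hgQ)
  have := Q.2.isNilpotent
  obtain ⟨k, hkN, hkD⟩ := SetLike.exists_of_lt (Group.normalizerCondition_of_isNilpotent _ hlt)
  have hw1 : (⟨u * w * u, F.fx⟩ : NT T) ∈ D := by
    show u * (u * w * u) * u ∈ NT T
    rw [F.conj_conj]
    exact centralizer_le_normalizer _ ((S.hyp.mem_coreOf_iff T).1 F.wW).1
  have e1 := (Subgroup.mem_normalizer_iff.1 hkN ⟨_, hQ hw1⟩).1 hw1
  refine hkD (F.mem_of_transvection (k : NT T).2 ?_ e1)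
  exact S.hyp.pow_eq_one_of_mem (Q.2.map (NT T).subtype)
    (Subgroup.mem_map_of_mem (NT T).subtype k.2)

/-- `D` fixes no third point. -/
theorem Fixp.eq_of_le {v : G} (F' : Fixp T r w v) (h : v * (u * w * u) * v ∈ NT T) :
    v * u ∈ NT T := by
  by_contra hvu
  have S := F.toCen.toSemi
  have := Fact.mk S.hyp.prime
  have : Fact (Nat.Prime 2) := ⟨Nat.prime_two⟩
  obtain ⟨-, hui⟩ := mul_self_of_orderOf F.u2
  obtain ⟨-, hvi⟩ := mul_self_of_orderOf F'.u2
  have hwC := ((S.hyp.mem_coreOf_iff T).1 F.wW).1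
  have hwM : w ∈ NT T := centralizer_le_normalizer _ hwC
  set w1 := u * w * u with hw1
  have hw1u : u * w1 * u = w := F.conj_conj w
  have hw1M : u * w1 * u ∈ NT T := hw1u ▸ hwM
  have hw1r : w1 ^ r = 1 := F.pow_eq_one F.fx hw1M
  have hcm : Commute w w1 := (F.wc w1 F.fx).symm
  obtain ⟨Q, hQ1, hQ2⟩ := F.exists_sylow
  -- a swapper keeping `w1` in `N(T)` normalises `D = N(T) ∩ u N(T) u`
  have hclose : ∀ v' : G, Fixp T r w v' → v' * w1 * v' ∈ NT T → ∀ g ∈ NT T, u * g * u ∈ NT T →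
      v' * g * v' ∈ NT T ∧ u * (v' * g * v') * u ∈ NT T := by
    intro v' F'' hv1
    obtain ⟨Q', hQ'1, hQ'2⟩ := F''.exists_sylow
    have hle : (Q : Subgroup (NT T)) ≤ Q' := fun g hg => by
      obtain ⟨a, b, hab⟩ := F.exists_zpow g.2 (hQ1 g hg)
      refine hQ'2 g ?_
      rw [hab, F''.conj_mul, F''.conj_zpow, F''.conj_zpow]
      exact mul_mem (zpow_mem F''.fx a) (zpow_mem hv1 b)
    have hQQ : (Q' : Subgroup (NT T)) = Q := Q.3 Q'.2 hle
    intro g hg hg'
    have h1 : v' * g * v' ∈ NT T := hQ'1 ⟨g, hg⟩ (hle (hQ2 ⟨g, hg⟩ hg'))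
    refine ⟨h1, hQ1 ⟨_, h1⟩ (hQQ ▸ hQ'2 ⟨_, h1⟩ ?_)⟩
    show v' * (v' * g * v') * v' ∈ NT T
    rw [F''.conj_conj]
    exact hg
  obtain ⟨i, j, hij⟩ := F.exists_zpow F'.fx (hclose v F' h w hwM F.fx).2
  rw [← hw1] at hij
  -- `p = v u` normalises `D`
  set p := v * u with hp
  have hpD : ∀ g ∈ NT T, u * g * u ∈ NT T →
      p⁻¹ * g * p ∈ NT T ∧ u * (p⁻¹ * g * p) * u ∈ NT T := by
    intro g hg hg'
    obtain ⟨h1, h2⟩ := hclose v F' h g hg hg'
    rw [hp, mul_inv_rev, hui, hvi, show u * v * g * (v * u) = u * (v * g * v) * u by group]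
    exact ⟨h2, by rw [F.conj_conj]; exact h1⟩
  obtain ⟨v', F'', hv'⟩ := F.toCen.exists_fixp hvu (hpD w hwM F.fx).1
  obtain ⟨-, hv'i⟩ := mul_self_of_orderOf F''.u2
  rw [hv'i] at hv'
  set m := v' * p with hm
  have hmi : m⁻¹ = p⁻¹ * v' := by rw [hm, mul_inv_rev v' p, hv'i]
  have hv'D : ∀ g ∈ NT T, u * g * u ∈ NT T →
      v' * g * v' ∈ NT T ∧ u * (v' * g * v') * u ∈ NT T := by
    refine hclose v' F'' ?_
    have h1 := mul_mem (mul_mem hv' (hpD w1 F.fx hw1M).1) (inv_mem hv')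
    rw [show v' * w1 * v' = m * (p⁻¹ * w1 * p) * m⁻¹ by rw [hmi, hm]; group]
    exact h1
  -- `p` acts on `D` as the involution `v'` does
  have hkey : ∀ g ∈ NT T, u * g * u ∈ NT T → p⁻¹ * g * p = v' * g * v' := by
    intro g hg hg'
    have hd := hv'D g hg hg'
    set d := v' * g * v' with hddef
    have he : p⁻¹ * g * p = m⁻¹ * d * m := by
      calc p⁻¹ * g * p = p⁻¹ * (v' * (v' * g * v') * v') * p := by rw [F''.conj_conj]
        _ = m⁻¹ * d * m := by rw [hmi, hm, ← hddef]; group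
    have hd' := hpD g hg hg'
    rw [he] at hd' ⊢
    obtain ⟨t, ht, q, hq, hmq⟩ := S.exists_mul Q ⟨m, hv'⟩
    change m = t * (q : G) at hmq
    obtain ⟨x, y, hxy⟩ := F.exists_zpow q.2 (hQ1 q hq)
    have hqc : ∀ e ∈ NT T, u * e * u ∈ NT T → Commute (q : G) e := by
      intro e he1 he2
      rw [hxy]
      exact ((F.wc e he1).symm.zpow_left x).mul_left ((F.commute_iff.2 he2).symm.zpow_left y)
    have h1 : t⁻¹ * d * t = m⁻¹ * d * m := by
      calc t⁻¹ * d * t = (q : G) * (m⁻¹ * d * m) * (q : G)⁻¹ := by rw [hmq]; group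
        _ = m⁻¹ * d * m := by rw [(hqc _ hd'.1 hd'.2).eq, mul_inv_cancel_right]
    have hTd : t⁻¹ * (d * t * d⁻¹) ∈ (T : Subgroup G) :=
      mul_mem (inv_mem ht) ((Subgroup.mem_normalizer_iff.1 hd.1 t).1 ht)
    rw [show t⁻¹ * (d * t * d⁻¹) = m⁻¹ * d * m * d⁻¹ by rw [← h1]; group] at hTd
    have hor : (m⁻¹ * d * m * d⁻¹) ^ r = 1 := F.pow_eq_one (mul_mem hd'.1 (inv_mem hd.1)) (by
      rw [F.conj_mul, ← zpow_neg_one d, F.conj_zpow]
      exact mul_mem hd'.2 (zpow_mem hd.2 _))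
    exact mul_inv_eq_one.1 (eq_one_of_odd_of_mem T.2 hTd
      (Odd.of_dvd_nat S.hyp.odd (orderOf_dvd_of_pow_eq_one hor)))
  have hinv : p⁻¹ * (p⁻¹ * w * p) * p = w := by
    have h1 := hv'D w hwM F.fx
    rw [hkey w hwM F.fx, hkey _ h1.1 h1.2, F''.conj_conj]
  have hvw1 : v * w1 * v = w1 ^ i * w ^ j := by
    have h1 : p⁻¹ * w * p = p * w * p⁻¹ := by
      conv_rhs => rw [← hinv]
      group
    calc v * w1 * v = p * w * p⁻¹ := by rw [hp, mul_inv_rev, hui, hvi, hw1]; group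
      _ = u * (v * w * v) * u := by rw [← h1, hp, mul_inv_rev, hui, hvi]; group
      _ = w1 ^ i * w ^ j := by rw [hij, F.conj_mul, F.conj_zpow, F.conj_zpow, hw1u, ← hw1]
  have h2 : w = w ^ (i * i + j * j) * w1 ^ (i * j + j * i) := by
    calc w = v * (v * w * v) * v := (F'.conj_conj w).symm
      _ = v * (w ^ i * w1 ^ j) * v := by rw [hij]
      _ = (w ^ i * w1 ^ j) ^ i * (w1 ^ i * w ^ j) ^ j := by
        rw [F'.conj_mul, F'.conj_zpow, F'.conj_zpow, hij, hvw1]
      _ = w ^ (i * i + j * j) * w1 ^ (i * j + j * i) := by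
        rw [(hcm.zpow_zpow i j).mul_zpow, (hcm.symm.zpow_zpow i j).mul_zpow, ← zpow_mul, ← zpow_mul,
          ← zpow_mul, ← zpow_mul, (hcm.symm.zpow_zpow (i * j) (j * j)).eq,
          (hcm.symm.zpow_zpow (j * i) (j * j)).mul_mul_mul_comm, ← zpow_add, ← zpow_add,
          add_comm (j * i) (i * j)]
  have hC : w1 ^ (i * j + j * i) ∈ centralizer ((T : Subgroup G) : Set G) := by
    rw [eq_inv_mul_of_mul_eq h2.symm]
    exact mul_mem (inv_mem (zpow_mem hwC _)) hwC
  have hdvd : (r : ℤ) ∣ i * j + j * i := by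
    by_contra hn
    obtain ⟨a, b, hab⟩ := (Nat.prime_iff_prime_int.1 S.hyp.prime).coprime_iff_not_dvd.2 hn
    refine F.w1_not_mem ?_
    have h3 : w1 = (w1 ^ (i * j + j * i)) ^ b := by
      calc w1 = w1 ^ (a * (r : ℤ) + b * (i * j + j * i)) := by rw [hab, zpow_one]
        _ = (w1 ^ (i * j + j * i)) ^ b := by
          rw [zpow_add, mul_comm a, zpow_mul, zpow_natCast, hw1r, one_zpow, one_mul, mul_comm b,
            zpow_mul]
    rw [← hw1, h3]
    exact zpow_mem hC b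
  rw [show i * j + j * i = 2 * (i * j) by ring] at hdvd
  have hr2 : ¬ (r : ℤ) ∣ 2 := fun h3 => S.hyp.ne_two
    ((Nat.prime_dvd_prime_iff_eq S.hyp.prime Nat.prime_two).1 (by exact_mod_cast h3))
  rcases (Nat.prime_iff_prime_int.1 S.hyp.prime).dvd_mul.1
    (((Nat.prime_iff_prime_int.1 S.hyp.prime).dvd_mul.1 hdvd).resolve_left hr2) with
    ⟨c, rfl⟩ | ⟨c, rfl⟩
  · -- `v w v ∈ ⟨w1⟩`: then `v u` normalises `T`
    have hvw : v * w * v = w1 ^ j := by
      rw [hij, zpow_mul w, zpow_natCast, S.hyp.coreOf_pow T F.wW, one_zpow, one_mul]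
    refine hvu (Subgroup.mem_normalizer_iff_map_conj_eq.2 (Subgroup.eq_of_le_of_card_ge ?_
      (le_of_eq (Subgroup.card_map_of_injective (MulAut.conj p).injective).symm)))
    rintro _ ⟨t, ht, rfl⟩
    rcases eq_or_ne t 1 with rfl | ht1
    · simp
    have h3 : Commute (u * t * u) (v * w * v) :=
      hvw ▸ (F.commute_conj (S.hyp.commute_coreOf T F.wW ht).symm).zpow_right j
    have h4 := F'.commute_conj h3
    rw [F'.conj_conj] at h4
    refine S.toLoc.invol_mem ((orderOf_conj_eq p t).trans (S.hyp.sylow_invol T ht ht1)) ?_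
    show p * t * p⁻¹ ∈ NT T
    rw [show p * t * p⁻¹ = v * (u * t * u) * v by rw [hp, mul_inv_rev, hui, hvi]; group]
    exact F'.toCen.mem_of_commute h4
  · -- `v w v ∈ ⟨w⟩`
    refine F'.w1_not_mem ?_
    rw [hij, zpow_mul w1, zpow_natCast, hw1r, one_zpow, mul_one]
    exact zpow_mem hwC i

omit F

/-- `w` fixes only the base point. -/
theorem Cen.no_fixed (C : Cen T r w) {h : G} (hmem : h⁻¹ * w * h ∈ NT T) : h ∈ NT T := by
  classical
  by_contra hh
  have S := C.toSemi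
  have := Fact.mk S.hyp.prime
  have : Fact (Nat.Prime 2) := ⟨Nat.prime_two⟩
  obtain ⟨u, F, -⟩ := C.exists_fixp hh hmem
  obtain ⟨huu, hui⟩ := mul_self_of_orderOf F.u2
  have hwC := ((S.hyp.mem_coreOf_iff T).1 C.wW).1
  have hwr : w ^ r = 1 := S.hyp.coreOf_pow T C.wW
  have hwM : w ∈ NT T := centralizer_le_normalizer _ hwC
  have hTM : (T : Subgroup G) ≤ NT T := Subgroup.le_normalizer
  letI : CommGroup (act T).range :=
    { (inferInstance : Group (act T).range) with mul_comm := S.act_card.2 }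
  set ε : NT T →* (act T).range := (act T).rangeRestrict with hε
  have := Fintype.ofFinite (G ⧸ NT T)
  have := Fintype.ofFinite ↥(T : Subgroup G)
  set e := ε ⟨u * w * u, F.fx⟩ with he
  have he1 : e ≠ 1 := fun h1 =>
    F.w1_not_mem ((act_eq_one_iff T _).1 (congrArg Subtype.val h1))
  have hεw : ε ⟨w, hwM⟩ = 1 := Subtype.ext ((act_eq_one_iff T _).2 hwC)
  let f : ↥(T : Subgroup G) → G ⧸ NT T := fun t => QuotientGroup.mk ((t : G) * u)
  have hinj : Function.Injective f := by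
    intro a b hab
    have h1 := QuotientGroup.eq.1 hab
    rw [mul_inv_rev, hui, show u * (a : G)⁻¹ * ((b : G) * u) = u * ((a : G)⁻¹ * b) * u by group] at h1
    by_contra hne
    refine S.toLoc.invol_not_fix (mul_mem (inv_mem a.2) b.2)
      (fun h2 => hne (Subtype.ext (inv_mul_eq_one.1 h2))) F.uM ?_
    rwa [hui]
  have himg : ∀ t : ↥(T : Subgroup G), img ε w (f t) = e := by
    intro t
    have h1 : ((t : G) * u)⁻¹ * w * ((t : G) * u) = u * w * u := by
      calc ((t : G) * u)⁻¹ * w * ((t : G) * u) = u * ((t : G)⁻¹ * (w * t)) * u := by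
            rw [mul_inv_rev, hui]; group
        _ = u * w * u := by rw [← (C.wc t (hTM t.2)).eq, inv_mul_cancel_left]
    rw [img_mk ε w _ (h1 ▸ F.fx)]
    exact congrArg ε (Subtype.ext h1)
  obtain ⟨Q, hQ1, hQ2⟩ := F.exists_sylow
  have hall : ∀ q : G ⧸ NT T, q ∉ Finset.univ.image f → img ε w q = 1 := by
    intro q hq
    by_cases hfix : w • q = q
    swap
    · exact img_eq_one_of_not_fixed ε w hfix
    obtain ⟨g, rfl⟩ := QuotientGroup.mk_surjective q
    rw [MulAction.Quotient.smul_mk, smul_eq_mul, QuotientGroup.eq] at hfix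
    have hg : g⁻¹ * w * g ∈ NT T := by simpa [mul_assoc] using inv_mem hfix
    by_cases hgM : g ∈ NT T
    · rw [img_mk ε w g hg]
      have h1 : g⁻¹ * w * g = w := by
        rw [mul_assoc, ← (C.wc g hgM).eq, inv_mul_cancel_left]
      simp only [h1]
      exact hεw
    exfalso
    obtain ⟨v, F', hv⟩ := C.exists_fixp hgM hg
    obtain ⟨hvv, hvi⟩ := mul_self_of_orderOf F'.u2
    obtain ⟨Q', hQ'1, hQ'2⟩ := F'.exists_sylow
    obtain ⟨m, hm⟩ := MulAction.exists_smul_eq (NT T) Q Q'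
    obtain ⟨t, ht, y, hy, hmy⟩ := S.exists_mul Q m
    obtain ⟨a, b, hab⟩ := F.exists_zpow y.2 (hQ1 y hy)
    have hy1 : Commute (y : G) (u * w * u) := by
      rw [hab]
      exact ((F.wc _ F.fx).symm.zpow_left a).mul_left ((Commute.refl _).zpow_left b)
    have h2 : m * ⟨u * w * u, F.fx⟩ * m⁻¹ ∈ (Q' : Subgroup (NT T)) := by
      rw [← hm]
      exact Subgroup.smul_mem_pointwise_smul _ (MulAut.conj m) _
        (hQ2 ⟨u * w * u, F.fx⟩ (by
          show u * (u * w * u) * u ∈ NT T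
          rwa [F.conj_conj]))
    have h3 := hQ'1 _ h2
    have h4 : ((m * ⟨u * w * u, F.fx⟩ * m⁻¹ : NT T) : G) = t * (u * w * u) * t⁻¹ := by
      show (m : G) * (u * w * u) * (m : G)⁻¹ = _
      calc (m : G) * (u * w * u) * (m : G)⁻¹
          = t * ((y : G) * (u * w * u) * (y : G)⁻¹) * t⁻¹ := by rw [hmy]; group
        _ = t * (u * w * u) * t⁻¹ := by rw [hy1.eq, mul_inv_cancel_right]
    rw [h4] at h3
    set u' := t * u * t⁻¹ with hu'
    have hu'w : u' * w * u' = t * (u * w * u) * t⁻¹ := by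
      calc u' * w * u' = t * u * (t⁻¹ * (w * t)) * u * t⁻¹ := by rw [hu']; group
        _ = t * (u * w * u) * t⁻¹ := by rw [← (C.wc t (hTM ht)).eq, inv_mul_cancel_left]; group
    have Fu' : Fixp T r w u' := by
      refine ⟨C, (orderOf_conj_eq t u).trans F.u2, fun h5 => F.uM ?_, ?_⟩
      · have h6 := mul_mem (mul_mem (inv_mem (hTM ht)) h5) (hTM ht)
        rwa [show t⁻¹ * u' * t = u by rw [hu']; group] at h6
      · rw [hu'w]
        exact mul_mem (mul_mem (hTM ht) F.fx) (inv_mem (hTM ht))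
    have h5 := Fu'.eq_of_le F' (by rw [hu'w]; exact h3)
    refine hq (Finset.mem_image.2 ⟨⟨t, ht⟩, Finset.mem_univ _, QuotientGroup.eq.2 ?_⟩)
    have h6 := mul_mem (mul_mem (inv_mem (mul_mem h5 (hTM ht))) hv) (one_mem _)
    rw [hu', hvi] at h6
    have h7 : (v * (t * u * t⁻¹) * t)⁻¹ * (v * g) * 1 = (t * u)⁻¹ * g := by
      rw [mul_inv_rev, mul_inv_rev, hvi]
      calc t⁻¹ * ((t * u * t⁻¹)⁻¹ * v) * (v * g) * 1
          = (t * u)⁻¹ * ((v * v) * g) := by group
        _ = (t * u)⁻¹ * g := by rw [hvv, one_mul]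
    rwa [h7] at h6
  have hprod := prod_img_eq_one S.hyp.commutator_eq_top ε (p := r) S.hyp.prime hwr
  rw [← Finset.prod_subset (Finset.subset_univ (Finset.univ.image f)) (fun q _ hq => hall q hq),
    Finset.prod_image hinj.injOn, Finset.prod_congr rfl (fun t _ => himg t), Finset.prod_const,
    Finset.card_univ, ← Nat.card_eq_fintype_card] at hprod
  obtain ⟨k, hk⟩ := T.2.exists_card_eq
  rw [hk] at hprod
  have her : e ^ r = 1 := by
    have := pow_card_eq_one' (x := e)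
    rwa [S.act_card.1] at this
  refine he1 (orderOf_eq_one_iff.1 (Nat.eq_one_of_dvd_coprimes ?_
    (orderOf_dvd_of_pow_eq_one hprod) (orderOf_dvd_of_pow_eq_one her)))
  exact Nat.Coprime.pow_left k ((Nat.coprime_primes Nat.prime_two S.hyp.prime).2 S.hyp.ne_two.symm)

/-- The semiregular case is impossible. -/
theorem Semi.false (S : Semi T r) : False := by
  classical
  have := Fact.mk S.hyp.prime
  have : Fact (Nat.Prime 2) := ⟨Nat.prime_two⟩
  obtain ⟨x, hx, hxr, hxC⟩ := S.exists_r_element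
  set xM : NT T := ⟨x, hx⟩ with hxM
  have hP : IsPGroup r (zpowers xM) := by
    intro g
    refine ⟨1, Subtype.ext ?_⟩
    obtain ⟨i, hi⟩ := Subgroup.mem_zpowers_iff.1 g.2
    rw [pow_one, SubmonoidClass.coe_pow, OneMemClass.coe_one, ← hi, ← zpow_natCast, ← zpow_mul,
      mul_comm, zpow_mul, zpow_natCast, show xM ^ r = 1 from Subtype.ext hxr, one_zpow]
  obtain ⟨P, hxP⟩ := hP.exists_le_sylow
  set W := (coreOf (T : Subgroup G)).subgroupOf (NT T) with hW
  have hWn : W.Normal := ⟨fun n hn g => S.hyp.coreOf_conj T g.2 hn⟩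
  have hWp : IsPGroup r W := fun n =>
    ⟨1, Subtype.ext (Subtype.ext (by simpa using S.hyp.coreOf_pow T n.2))⟩
  have hWP : W ≤ P := hWp.le_sylow_of_normal P
  obtain ⟨w0, hw0, hw01⟩ := S.exists_w
  have hw0M : w0 ∈ NT T :=
    centralizer_le_normalizer _ ((S.hyp.mem_coreOf_iff T).1 hw0).1
  have hN : W.subgroupOf (P : Subgroup (NT T)) ≠ ⊥ := by
    intro h
    apply hw01
    have h1 : (⟨⟨w0, hw0M⟩, hWP hw0⟩ : (P : Subgroup (NT T))) ∈ W.subgroupOf (P : Subgroup (NT T)) :=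
      hw0
    rw [h, Subgroup.mem_bot] at h1
    exact congrArg (fun z : (P : Subgroup (NT T)) => ((z : NT T) : G)) h1
  have h2 := Fusion.pGroup_inf_center_ne_bot P.2 (W.subgroupOf (P : Subgroup (NT T))) hN
  obtain ⟨c, hc, hc1⟩ := (Subgroup.bot_or_exists_ne_one _).resolve_left h2
  obtain ⟨hcW, hcZ⟩ := Subgroup.mem_inf.1 hc
  set w := ((c : NT T) : G) with hw
  have hwW : w ∈ coreOf (T : Subgroup G) := hcW
  have C : Cen T r w := ⟨S, hwW, fun h => hc1 (Subtype.ext (Subtype.ext h)), fun m hm => by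
    obtain ⟨t, ht, q, hq, hmq⟩ := S.exists_mul P ⟨m, hm⟩
    rw [show m = t * (q : G) from hmq]
    exact (S.hyp.commute_coreOf T hwW ht).symm.mul_left
      (congrArg (fun z : (P : Subgroup (NT T)) => ((z : NT T) : G))
        (Subgroup.mem_center_iff.1 hcZ ⟨q, hq⟩))⟩
  letI : CommGroup (act T).range :=
    { (inferInstance : Group (act T).range) with mul_comm := S.act_card.2 }
  set ε : NT T →* (act T).range := (act T).rangeRestrict with hε
  have := Fintype.ofFinite (G ⧸ NT T)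
  have hprod := prod_img_eq_one S.hyp.commutator_eq_top ε (p := r) S.hyp.prime hxr
  have hwr : w ^ r = 1 := S.hyp.coreOf_pow T hwW
  have hA : ∀ a : (act T).range, a ^ r = 1 := fun a => by
    have := pow_card_eq_one' (x := a)
    rwa [S.act_card.1] at this
  rw [prod_eq_prod_fixed (MulAction.toPermHom G (G ⧸ NT T) w) (img ε x) S.hyp.prime
    (by rw [← map_pow, hwr, map_one])
    (fun q => img_smul_of_commute ε (C.wc x hx) q) hA] at hprod
  have hfil : Finset.univ.filter (fun q => MulAction.toPermHom G (G ⧸ NT T) w q = q) =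
      {((1 : G) : G ⧸ NT T)} := by
    ext q
    simp only [Finset.mem_filter, Finset.mem_univ, true_and, Finset.mem_singleton]
    constructor
    · intro hq
      obtain ⟨g, rfl⟩ := QuotientGroup.mk_surjective q
      change w • (g : G ⧸ NT T) = g at hq
      rw [MulAction.Quotient.smul_mk, smul_eq_mul, QuotientGroup.eq] at hq
      have hg : g⁻¹ * w * g ∈ NT T := by simpa [mul_assoc] using inv_mem hq
      exact QuotientGroup.eq.2 (by simpa using inv_mem (C.no_fixed hg))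
    · rintro rfl
      change w • ((1 : G) : G ⧸ NT T) = _
      rw [MulAction.Quotient.smul_mk, smul_eq_mul, mul_one, QuotientGroup.eq, mul_one]
      exact inv_mem (centralizer_le_normalizer _ ((S.hyp.mem_coreOf_iff T).1 hwW).1)
  rw [hfil, Finset.prod_singleton, img_mk ε x 1 (by simpa using hx)] at hprod
  refine hxC ((act_eq_one_iff T xM).1 ?_)
  have h3 := congrArg Subtype.val hprod
  simpa [hε, hxM] using h3

end Cfsg.Agent.TwoR
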