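import Cfsg.Agent.TwoR.Act

/-!
An odd group acting transitively on the involutions of `V` with a point stabiliser of exponent `r`
has a normal subgroup of index `r` and order `|V| - 1`.
-/

set_option autoImplicit false
set_option linter.unusedSectionVars false

open Subgroup

namespace Cfsg.Agent.TwoR

/-- A power of an odd prime of the form `2 ^ n - 1` is the prime. -/
theorem exp_eq_one_of_two_pow_sub_one {r k n : ℕ} (hr : Odd r) (hr1 : 1 < r) (hn : 2 ≤ n)
    (he : r ^ k + 1 = 2 ^ n) : k = 1 := by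
  rcases Nat.even_or_odd k with ⟨j, rfl⟩ | hk
  · exfalso
    obtain ⟨m, hm⟩ := Nat.exists_eq_add_of_le hn
    obtain ⟨l, hl⟩ := hr.pow (n := j)
    rw [pow_add, hl, hm, pow_add] at he
    ring_nf at he
    omega
  have hgeo := geom_sum_mul (-(r : ℤ)) k
  rw [hk.neg_pow] at hgeo
  set s := ∑ i ∈ Finset.range k, (-(r : ℤ)) ^ i with hs
  have he' : (r : ℤ) ^ k + 1 = 2 ^ n := by exact_mod_cast he
  have hdvd : s ∣ 2 ^ n := ⟨(r : ℤ) + 1, by rw [← he']; linarith⟩
  have hsodd : ¬ (2 : ℤ) ∣ s := by
    intro h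
    have h1 : ((s : ℤ) : ZMod 2) = 0 := (ZMod.intCast_zmod_eq_zero_iff_dvd s 2).2 h
    have h2 : ((r : ℕ) : ZMod 2) = 1 := ZMod.natCast_eq_one_iff_odd.2 hr
    have h3 : ((k : ℕ) : ZMod 2) = 1 := ZMod.natCast_eq_one_iff_odd.2 hk
    rw [hs] at h1
    simp [h2, h3, ZMod.neg_eq_self_mod_two] at h1
  obtain ⟨j, -, hj⟩ := (Nat.dvd_prime_pow Nat.prime_two).1
    (show s.natAbs ∣ 2 ^ n by simpa [Int.natAbs_pow] using Int.natAbs_dvd_natAbs.2 hdvd)
  rcases j with - | j
  · have h1 : s = 1 ∨ s = -1 := Int.natAbs_eq_iff.1 (by simpa using hj)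
    have hpow : (0 : ℤ) < (r : ℤ) ^ k := pow_pos (by exact_mod_cast hr.pos) k
    rcases h1 with h1 | h1
    · have h2 : r ^ k = r ^ 1 := by
        rw [h1] at hgeo
        have : ((r ^ k : ℕ) : ℤ) = r := by push_cast; linarith
        rw [pow_one]; exact_mod_cast this
      exact Nat.pow_right_injective hr1 h2
    · rw [h1] at hgeo
      linarith [hpow, hgeo, (show (0 : ℤ) ≤ r from Int.natCast_nonneg r)]
  · exact absurd (Int.natCast_dvd.2 (hj ▸ dvd_pow_self 2 j.succ_ne_zero)) hsodd

variable {V A : Type*} [CommGroup V] [Finite V] [Group A] [Finite A] (φ : A →* MulAut V)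

/-- The normal `r`-complement of a transitive odd group with non-trivial point stabiliser. -/
theorem exists_normal_complement {k r : ℕ} (hr : r.Prime) (hr2 : r ≠ 2) (hV : Nat.card V = 2 ^ k)
    (hk : 2 ≤ k) (hφ : Function.Injective φ) (hA : Odd (Nat.card A))
    (htr : ∀ v w : V, v ≠ 1 → w ≠ 1 → ∃ g, φ g v = w)
    (hord : ∀ g : A, r ∣ orderOf g → orderOf g = r)
    (hstab : ∀ g : A, ∀ v : V, v ≠ 1 → φ g v = v → g ^ r = 1)
    {x : A} {a : V} (hx1 : x ≠ 1) (ha : a ≠ 1) (hxa : φ x a = a) :
    ∃ N : Subgroup A, N.Normal ∧ N.index = r ∧ Nat.card N = 2 ^ k - 1 ∧ ¬ r ∣ 2 ^ k - 1 := by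
  classical
  have := Fact.mk hr
  have : Group.IsSolvable A := S0205.result hA
  have : Nontrivial A := nontrivial_of_ne x 1 hx1
  have hV' : ∀ v : V, v ^ 2 ^ k = 1 := fun v => hV ▸ pow_card_eq_one'
  have hcent : ∀ g h : A, orderOf g = r → Commute h g → h ^ r = 1 := by
    intro g h hg hc
    by_cases hd : r ∣ orderOf h
    · rw [← hord h hd, pow_orderOf_eq_one]
    · have hcop : (orderOf h).Coprime (orderOf g) := by
        rw [hg]; exact (hr.coprime_iff_not_dvd.2 hd).symm
      have h1 := hc.orderOf_mul_eq_mul_orderOf_of_coprime hcop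
      rw [hg] at h1
      have h2 := hord (h * g) (h1 ▸ dvd_mul_left r _)
      rw [h1, Nat.mul_eq_right hr.ne_zero, orderOf_eq_one_iff] at h2
      simp [h2]
  have hexp : ∀ P : Subgroup A, IsPGroup r P → ∀ g ∈ P, g ^ r = 1 := by
    intro P hP g hg
    obtain ⟨m, hm⟩ := hP.exists_card_eq
    obtain ⟨j, -, hj⟩ := (Nat.dvd_prime_pow hr).1 (hm ▸ Subgroup.orderOf_dvd_natCard P hg)
    rcases Nat.eq_zero_or_pos j with rfl | hj0
    · rw [pow_zero, orderOf_eq_one_iff] at hj; simp [hj]
    · rw [← hord g (hj ▸ dvd_pow_self r hj0.ne'), pow_orderOf_eq_one]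
  -- the orbit of `a`
  letI : MulAction A V := MulAction.compHom V φ
  have horb : MulAction.orbit A a = ({1} : Set V)ᶜ := by
    ext v
    constructor
    · rintro ⟨g, rfl⟩ h
      change φ g a = 1 at h
      exact ha ((φ g).injective (h.trans (map_one _).symm))
    · intro hv
      obtain ⟨g, hg⟩ := htr a v ha hv
      exact ⟨g, hg⟩
  set St := MulAction.stabilizer A a with hSt
  have hidx : St.index = 2 ^ k - 1 := by
    rw [hSt, MulAction.index_stabilizer, horb, Set.ncard_compl, hV, Set.ncard_singleton]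
  have hSt_r : IsPGroup r St := fun g =>
    ⟨1, Subtype.ext (by simpa using hstab g a ha g.2)⟩
  have hxSt : x ∈ St := hxa
  -- `A` is not an `r`-group
  obtain ⟨y, hy, hyr⟩ : ∃ y : A, (orderOf y).Prime ∧ orderOf y ≠ r := by
    by_contra h
    push Not at h
    have hpg : IsPGroup r A := by
      refine IsPGroup.of_card (Nat.eq_prime_pow_of_unique_prime_dvd Nat.card_pos.ne' ?_)
      intro d hd hdd
      have := Fact.mk hd
      obtain ⟨g, hg⟩ := exists_prime_orderOf_dvd_card' (G := A) d hdd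
      exact hg ▸ h g (hg ▸ hd)
    obtain ⟨m, hm⟩ := hpg.exists_card_eq
    obtain ⟨e, -, he⟩ := (Nat.dvd_prime_pow hr).1
      (show 2 ^ k - 1 ∣ r ^ m from hm ▸ hidx ▸ Subgroup.index_dvd_card St)
    have he1 := exp_eq_one_of_two_pow_sub_one (hr.odd_of_ne_two hr2) hr.one_lt hk
      (k := e) (by have := Nat.one_le_two_pow (n := k); omega)
    rw [he1, pow_one] at he
    have := Fintype.ofFinite V
    set σ : Equiv.Perm V := (φ x).toEquiv with hσ
    have hσ1 : σ ≠ 1 := fun e1 => hx1 (hφ (by
      rw [map_one]; exact MulEquiv.ext fun v => DFunLike.congr_fun e1 v))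
    have hσr : orderOf σ = r := by
      refine orderOf_eq_prime ?_ hσ1
      refine Equiv.ext fun v => ?_
      have h1 : (φ x ^ r) v = v := by
        rw [← map_pow, hstab x a ha hxa, map_one, MulAut.one_apply]
      have h2 : ∀ j : ℕ, (σ ^ j) v = (φ x ^ j) v := by
        intro j
        induction j with
        | zero => simp
        | succ j ih =>
          rw [pow_succ', pow_succ', Equiv.Perm.mul_apply, ih, MulAut.mul_apply, hσ]
          rfl
      rw [h2, h1, Equiv.Perm.one_apply]
    obtain ⟨l, hl⟩ := Equiv.Perm.cycleType_prime_order (σ := σ) (hσr ▸ hr)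
    have h3 : σ.support.card = (l + 1) * r := by
      rw [← Equiv.Perm.sum_cycleType, hl, Multiset.sum_replicate, smul_eq_mul, hσr]
    have h4 : σ.support ⊆ Finset.univ \ {1, a} := by
      intro v hv
      rw [Equiv.Perm.mem_support] at hv
      simp only [Finset.mem_sdiff, Finset.mem_univ, true_and, Finset.mem_insert,
        Finset.mem_singleton, not_or]
      exact ⟨fun e1 => hv (e1 ▸ map_one (φ x)), fun e1 => hv (e1 ▸ hxa)⟩
    have h5 := Finset.card_le_card h4
    rw [Finset.card_sdiff_of_subset (Finset.subset_univ _), Finset.card_univ,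
      Finset.card_pair ha.symm, ← Nat.card_eq_fintype_card, hV, h3] at h5
    have := Nat.le_mul_of_pos_left r (show 0 < l + 1 by omega)
    have := hr.two_le
    omega
  have hyp : ∀ (P : Subgroup A), IsPGroup r P → P ≠ ⊥ → ∀ z : A, (orderOf z).Prime →
      orderOf z ≠ r → z ∉ normalizer (P : Set A) := by
    intro P hP hne z hz hzr hzP
    refine hne (eq_bot_of_fpf φ hV' hφ (hA.of_dvd_nat (Subgroup.card_subgroup_dvd_card P)) hz hzP
      ?_ ?_)
    · intro p hp hc
      by_contra hp1
      exact hzr ((Nat.prime_dvd_prime_iff_eq hz hr).1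
        (orderOf_dvd_of_pow_eq_one (hcent p z (orderOf_eq_prime (hexp P hP p hp) hp1) hc.symm)))
    · intro g hg v hv
      by_contra hv1
      exact hzr ((Nat.prime_dvd_prime_iff_eq hz hr).1
        (hg ▸ orderOf_dvd_of_pow_eq_one (hstab g v hv1 hv)))
  -- a minimal normal subgroup is a group of exponent `p ≠ r`
  obtain ⟨N, hN⟩ := Core.exists_isMinNormal (G := A)
  obtain ⟨p, hp, hNp, hNe⟩ := hN.exists_isPGroup
  have := hN.normal
  have hNcomm := hN.isMulCommutative
  have hpr : p ≠ r := by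
    rintro rfl
    exact hyp N hNp hN.ne_bot y hy hyr (by rw [Subgroup.normalizer_eq_top]; exact Subgroup.mem_top y)
  -- a Sylow subgroup has order `r`
  have hSt' := hSt_r.exists_le_sylow
  obtain ⟨P, hStP⟩ := hSt'
  have hPne : (P : Subgroup A) ≠ ⊥ := fun h => hx1 (Subgroup.mem_bot.1 (h ▸ hStP hxSt))
  have hPcard : Nat.card (P : Subgroup A) = r := by
    have : Nontrivial (P : Subgroup A) := (Subgroup.nontrivial_iff_ne_bot _).2 hPne
    have := P.2.center_nontrivial
    obtain ⟨⟨z, hzc⟩, hz⟩ := exists_ne (1 : Subgroup.center (P : Subgroup A))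
    have hz1 : (z : A) ≠ 1 := fun e => hz (Subtype.ext (Subtype.ext e))
    have hzo : orderOf (z : A) = r := orderOf_eq_prime (hexp P P.2 z z.2) hz1
    suffices hle : (P : Subgroup A) ≤ zpowers (z : A) by
      rw [le_antisymm hle (Subgroup.zpowers_le.2 z.2), Nat.card_zpowers, hzo]
    intro b hb
    by_contra hbz
    letI : CommGroup N :=
      { (inferInstance : Group N) with mul_comm := fun u v => hNcomm.is_comm.comm u v }
    have hzb : Commute (z : A) b :=
      (congrArg Subtype.val (Subgroup.mem_center_iff.1 hzc ⟨b, hb⟩)).symm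
    let conjN : A →* MulAut N := MulAut.conjNormal
    have hfree : ∀ g : A, g ∈ (P : Subgroup A) → g ≠ 1 → ∀ w : N, conjN g w = w → w = 1 := by
      intro g hg hg1 w hw
      have hc : Commute (w : A) g := by
        have h1 : g * (w : A) * g⁻¹ = w := congrArg Subtype.val hw
        exact (mul_inv_eq_iff_eq_mul.1 h1).symm
      refine Subtype.ext (orderOf_eq_one_iff.1 (Nat.eq_one_of_dvd_coprimes
        ((Nat.coprime_primes hp hr).2 hpr) (orderOf_dvd_of_pow_eq_one (hNe w w.2))
        (orderOf_dvd_of_pow_eq_one (hcent g w (orderOf_eq_prime (hexp P P.2 g hg) hg1) hc))))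
    refine hN.ne_bot ((Subgroup.eq_bot_iff_forall _).2 fun n hn => ?_)
    have h1 := Coprime.pow_mem_closure_fixed (α := conjN z) (β := conjN b) hr
      (by rw [← map_pow, hexp P P.2 z z.2, map_one]) (by rw [← map_pow, hexp P P.2 b hb, map_one])
      (hzb.map conjN) (⟨n, hn⟩ : N)
    have h2 : Subgroup.closure
        {w : N | conjN z w = w ∨ ∃ i : ℕ, (conjN z ^ i * conjN b) w = w} ≤ ⊥ := by
      refine (Subgroup.closure_le _).2 fun w hw => ?_
      rcases hw with hw | ⟨i, hw⟩
      · exact hfree z z.2 hz1 w hw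
      · refine hfree _ (mul_mem (pow_mem z.2 i) hb) (fun e => hbz ?_) w
          (by rwa [map_mul, map_pow])
        rw [eq_inv_of_mul_eq_one_right e]
        exact inv_mem (pow_mem (mem_zpowers (z : A)) i)
    have h3 : n ^ r = 1 := congrArg Subtype.val (Subgroup.mem_bot.1 (h2 h1))
    exact orderOf_eq_one_iff.1 (Nat.eq_one_of_dvd_coprimes ((Nat.coprime_primes hp hr).2 hpr)
      (orderOf_dvd_of_pow_eq_one (hNe n hn)) (orderOf_dvd_of_pow_eq_one h3))
  -- Burnside
  have hPcomm : ∀ u ∈ (P : Subgroup A), ∀ v ∈ (P : Subgroup A), u * v = v * u := by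
    intro u hu v hv
    have : IsCyclic (P : Subgroup A) := isCyclic_of_prime_card hPcard
    exact congrArg Subtype.val ((IsCyclic.isMulCommutative (α := (P : Subgroup A))).is_comm.comm ⟨u, hu⟩ ⟨v, hv⟩)
  have hnorm : normalizer ((P : Subgroup A) : Set A) ≤ centralizer ((P : Subgroup A) : Set A) := by
    intro g hg
    have hgP : g ∈ (P : Subgroup A) := by
      have hpg : IsPGroup r (zpowers g) := by
        refine IsPGroup.of_card (n := (orderOf g).primeFactorsList.length) ?_
        rw [Nat.card_zpowers]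
        refine Nat.eq_prime_pow_of_unique_prime_dvd (orderOf_pos g).ne' fun {d} hd hdd => ?_
        by_contra hne
        have h1 : orderOf (g ^ (orderOf g / d)) = d := orderOf_pow_orderOf_div (orderOf_pos g).ne' hdd
        exact hyp P P.2 hPne _ (h1.symm ▸ hd) (h1.symm ▸ hne) (pow_mem hg _)
      have h2 := hpg.to_sup_of_normal_right' P.2 (Subgroup.zpowers_le.2 hg)
      rw [← P.3 h2 le_sup_right]
      exact Subgroup.mem_sup_left (Subgroup.mem_zpowers g)
    exact Subgroup.mem_centralizer_iff.2 fun v hv => hPcomm v hv g hgP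
  set K := (MonoidHom.transferSylow P hnorm).ker with hK
  have hcomp := MonoidHom.ker_transferSylow_isComplement' P hnorm
  have hKidx : K.index = r := by rw [hcomp.symm.index_eq_card, hPcard]
  have hKr : ¬ r ∣ Nat.card K := MonoidHom.not_dvd_card_ker_transferSylow P hnorm
  have hStcard : Nat.card St = r := by
    refine le_antisymm (hPcard ▸ Subgroup.card_le_of_le hStP) ?_
    refine le_of_eq_of_le ?_ (Nat.le_of_dvd Nat.card_pos (Subgroup.orderOf_dvd_natCard St hxSt))
    exact (orderOf_eq_prime (hstab x a ha hxa) hx1).symm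
  have hcardK : Nat.card K = 2 ^ k - 1 := by
    refine Nat.eq_of_mul_eq_mul_right hr.pos ?_
    calc Nat.card K * r = Nat.card A := by rw [← hKidx, Subgroup.card_mul_index]
      _ = Nat.card St * St.index := (Subgroup.card_mul_index St).symm
      _ = (2 ^ k - 1) * r := by rw [hStcard, hidx, mul_comm]
  exact ⟨K, inferInstance, hKidx, hcardK, hcardK ▸ hKr⟩

end Cfsg.Agent.TwoR
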