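import Mathlib

/-!
The averaging argument for a coprime group `Q` normalised by an element `x` of prime order with
`C_Q(x) = 1`: if all the elements `u * (q * x * q⁻¹)` (`u ∈ X`, `q ∈ Q`) have order dividing that
prime, then `Q` centralises `X` whenever `X` is a group of prime power order prime to `|Q|`.
-/

set_option autoImplicit false

open Subgroup
open scoped commutatorElement

namespace Cfsg.Agent.TwoR

theorem eq_one_of_commute_pow {Γ : Type*} [Group Γ] {x z : Γ} {p i : ℕ} (hp : p.Prime)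
    (hx : x ^ p = 1) (hi : i ≠ 0) (hip : i < p) (h : Commute z (x ^ i)) : Commute z x := by
  have hc : i.Coprime p :=
    (hp.coprime_iff_not_dvd.2 (Nat.not_dvd_of_pos_of_lt (Nat.pos_of_ne_zero hi) hip)).symm
  obtain ⟨m, hm⟩ := exists_pow_eq_self_of_coprime
    (x := x) (n := i) (hc.coprime_dvd_right (orderOf_dvd_of_pow_eq_one hx))
  rw [← hm]
  exact h.pow_right m

/-- The abelian averaging identity. -/
theorem pow_card_eq_one {V Γ : Type*} [CommGroup V] [Group Γ] (φ : Γ →* MulAut V) (Q : Subgroup Γ)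
    [Finite Q] {x : Γ} {p : ℕ} (hp : p.Prime) (hx : x ^ p = 1) (hxQ : x ∈ normalizer (Q : Set Γ))
    (hfix : ∀ q ∈ Q, Commute q x → q = 1)
    (hprod : ∀ q ∈ Q, ∀ v : V, ∏ i ∈ Finset.range p, φ ((q * x * q⁻¹) ^ i) v = 1)
    {q₀ : Γ} (hq₀ : q₀ ∈ Q) (v : V) : (v⁻¹ * φ q₀ v) ^ Nat.card Q = 1 := by
  classical
  have := Fintype.ofFinite Q
  set S : V → V := fun v => ∏ q : Q, φ (q : Γ) v with hS
  have hSinv : ∀ (a : Γ) (_ : a ∈ Q) (v : V), S (φ a v) = S v := by
    intro a ha v
    refine Fintype.prod_equiv (Equiv.mulRight ⟨a, ha⟩) _ _ fun q => ?_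
    rw [Equiv.coe_mulRight, Subgroup.coe_mul, map_mul]
    rfl
  have hxi : ∀ i : ℕ, x ^ i ∈ normalizer (Q : Set Γ) := fun i => pow_mem hxQ i
  have key : ∀ v : V,
      v ^ Nat.card Q * ∏ i ∈ (Finset.range p).erase 0, S (φ (x ^ i) v) = 1 := by
    intro v
    have h1 : ∏ q : Q, ∏ i ∈ Finset.range p, φ (((q : Γ) * x * (q : Γ)⁻¹) ^ i) v = 1 :=
      Finset.prod_eq_one fun q _ => hprod q q.2 v
    rw [Finset.prod_comm, ← Finset.mul_prod_erase _ _ (Finset.mem_range.2 hp.pos)] at h1
    rw [show ∏ q : Q, φ (((q : Γ) * x * (q : Γ)⁻¹) ^ 0) v = v ^ Nat.card Q by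
      simp [Nat.card_eq_fintype_card]] at h1
    rw [← h1]
    congr 1
    refine Finset.prod_congr rfl fun i hi => ?_
    obtain ⟨hi0, hip⟩ := Finset.mem_erase.1 hi
    rw [Finset.mem_range] at hip
    let e : Q → Q := fun q => ⟨(q : Γ) * x ^ i * (q : Γ)⁻¹ * (x ^ i)⁻¹, by
      rw [mul_assoc (q : Γ), mul_assoc (q : Γ)]
      exact mul_mem q.2 ((Subgroup.mem_normalizer_iff.1 (hxi i) _).1 (inv_mem q.2))⟩
    have he : Function.Bijective e := by
      refine Finite.injective_iff_bijective.1 fun a b hab => ?_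
      have h2 : (a : Γ) * x ^ i * (a : Γ)⁻¹ = (b : Γ) * x ^ i * (b : Γ)⁻¹ :=
        mul_right_cancel (congrArg Subtype.val hab)
      have h3 : Commute ((b : Γ)⁻¹ * a) (x ^ i) := by
        show (b : Γ)⁻¹ * a * x ^ i = x ^ i * ((b : Γ)⁻¹ * a)
        calc (b : Γ)⁻¹ * a * x ^ i = (b : Γ)⁻¹ * ((a : Γ) * x ^ i * (a : Γ)⁻¹) * a := by group
          _ = (b : Γ)⁻¹ * ((b : Γ) * x ^ i * (b : Γ)⁻¹) * a := by rw [h2]
          _ = x ^ i * ((b : Γ)⁻¹ * a) := by group
      have h4 := hfix _ (mul_mem (inv_mem b.2) a.2) (eq_one_of_commute_pow hp hx hi0 hip h3)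
      exact Subtype.ext (inv_mul_eq_one.1 h4).symm
    symm
    refine Fintype.prod_bijective e he _ _ fun q => ?_
    rw [← MulAut.mul_apply, ← map_mul, conj_pow]
    congr 2
    show (q : Γ) * x ^ i * (q : Γ)⁻¹ = (q : Γ) * x ^ i * (q : Γ)⁻¹ * (x ^ i)⁻¹ * x ^ i
    group
  have hone : ∏ i ∈ (Finset.range p).erase 0, S (φ (x ^ i) (v⁻¹ * φ q₀ v)) = 1 := by
    refine Finset.prod_eq_one fun i _ => ?_
    have hmul : ∀ a b : V, S (a * b) = S a * S b := fun a b => by
      simp only [hS, map_mul, Finset.prod_mul_distrib]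
    have hinv : ∀ a : V, S a⁻¹ = (S a)⁻¹ := fun a => by
      simp only [hS, map_inv, Finset.prod_inv_distrib]
    rw [map_mul, map_inv, hmul, hinv, ← MulAut.mul_apply, ← map_mul,
      show x ^ i * q₀ = x ^ i * q₀ * (x ^ i)⁻¹ * x ^ i by group, map_mul, MulAut.mul_apply,
      hSinv _ ((Subgroup.mem_normalizer_iff.1 (hxi i) _).1 hq₀), inv_mul_cancel]
  have := key (v⁻¹ * φ q₀ v)
  rwa [hone, mul_one] at this

theorem mul_pow_eq_prod_list {Γ : Type*} [Group Γ] (u g : Γ) :
    ∀ n : ℕ, (u * g) ^ n = ((List.range n).map fun i => g ^ i * u * (g ^ i)⁻¹).prod * g ^ n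
  | 0 => by simp
  | n + 1 => by
    rw [pow_succ, mul_pow_eq_prod_list u g n, List.range_succ, List.map_append, List.prod_append,
      pow_succ g n]
    simp [mul_assoc]

variable {G : Type*} [Group G] [Finite G]

/-- `Q` centralises the `ℓ`-group `X`. -/
theorem le_centralizer_of_pow {ℓ p : ℕ} (hℓ : ℓ.Prime) (hp : p.Prime) {Q : Subgroup G} {x : G}
    (hx : x ^ p = 1) (hxQ : x ∈ normalizer (Q : Set G)) (hQℓ : ¬ ℓ ∣ Nat.card Q)
    (hfix : ∀ q ∈ Q, Commute q x → q = 1) :
    ∀ {X : Subgroup G}, IsPGroup ℓ X → Q ≤ normalizer (X : Set G) → x ∈ normalizer (X : Set G) →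
      (∀ u ∈ X, ∀ q ∈ Q, (u * (q * x * q⁻¹)) ^ p = 1) → Q ≤ centralizer (X : Set G) := by
  intro X
  induction X using WellFoundedLT.induction with
  | _ X ih =>
  intro hX hQX hxX hpow
  rcases eq_or_ne X ⊥ with rfl | hne
  · intro q _
    simp [Subgroup.mem_centralizer_iff]
  have : Fact ℓ.Prime := ⟨hℓ⟩
  have : Nontrivial X := (Subgroup.nontrivial_iff_ne_bot X).2 hne
  have := hX.isNilpotent
  have hlt : ⁅X, X⁆ < X := by
    refine lt_of_le_of_ne X.commutator_le_self fun he => ?_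
    have h1 : Group.IsPerfect X := Subgroup.isPerfect_iff.2 he
    exact Group.IsPerfect.not_isNilpotent (G := X) inferInstance
  have hnorm : normalizer (X : Set G) ≤ normalizer ((⁅X, X⁆ : Subgroup G) : Set G) := by
    intro n hn
    rw [Subgroup.mem_normalizer_iff_map_conj_eq] at hn ⊢
    rw [Subgroup.map_commutator, hn]
  have hD := ih _ hlt (hX.to_le hlt.le) (hQX.trans hnorm) (hnorm hxX)
    fun u hu q hq => hpow u (hlt.le hu) q hq
  set N := normalizer (X : Set G) with hN
  have hQN : ∀ q ∈ Q, q ∈ N := hQX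
  let ψ : N →* MulAut (Abelianization X) :=
    { toFun := fun g => (Subgroup.normalizerMonoidHom X g).abelianizationCongr
      map_one' := by
        refine MulEquiv.toMonoidHom_injective (Abelianization.hom_ext _ _ ?_)
        ext u
        simp
      map_mul' := fun a b => by
        refine MulEquiv.toMonoidHom_injective (Abelianization.hom_ext _ _ ?_)
        ext u
        simp }
  have hψ : ∀ (g : N) (u : X), ψ g (Abelianization.of u) =
      Abelianization.of (⟨(g : G) * u * (g : G)⁻¹,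
        (Subgroup.mem_normalizer_iff.1 g.2 _).1 u.2⟩ : X) := fun g u => by
    show Abelianization.of ((Subgroup.normalizerMonoidHom X g) u) = _
    rfl
  set Q' := Q.subgroupOf N with hQ'
  have hxQ' : (⟨x, hxX⟩ : N) ∈ normalizer (Q' : Set N) := by
    rw [Subgroup.mem_normalizer_iff]
    intro n
    simpa [hQ', Subgroup.mem_subgroupOf] using Subgroup.mem_normalizer_iff.1 hxQ (n : G)
  have hkey : ∀ q ∈ Q, ∀ u ∈ X, u⁻¹ * (q * u * q⁻¹) ∈ ⁅X, X⁆ := by
    intro q hq u hu
    have hpw := pow_card_eq_one ψ Q' hp (x := ⟨x, hxX⟩) (Subtype.ext (by simpa using hx)) hxQ'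
      (fun a ha hc => Subtype.ext (hfix a ha (congrArg Subtype.val hc.eq)))
      (fun a ha v => by
        obtain ⟨w, rfl⟩ : ∃ w, Abelianization.of w = v := QuotientGroup.mk_surjective v
        set g : G := (a : G) * x * (a : G)⁻¹ with hg
        have hgN : g ∈ N := mul_mem (mul_mem a.2 hxX) (inv_mem a.2)
        have hmem : ∀ i : ℕ, g ^ i * (w : G) * (g ^ i)⁻¹ ∈ X := fun i =>
          (Subgroup.mem_normalizer_iff.1 (pow_mem hgN i) _).1 w.2
        have hterm : ∀ i : ℕ, ψ ((a * ⟨x, hxX⟩ * a⁻¹) ^ i) (Abelianization.of w) =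
            Abelianization.of (⟨_, hmem i⟩ : X) := fun i => by
          rw [hψ]
          congr 1
        simp only [hterm]
        rw [← List.toFinset_range, List.prod_toFinset _ List.nodup_range,
          show (List.range p).map (fun i => Abelianization.of (⟨_, hmem i⟩ : X)) =
            ((List.range p).map fun i => (⟨_, hmem i⟩ : X)).map Abelianization.of by
            rw [List.map_map]; rfl, ← map_list_prod]
        convert map_one (Abelianization.of : X →* _)
        refine Subtype.ext ?_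
        have h1 := hpow w w.2 (a : G) ha
        rw [← hg, mul_pow_eq_prod_list,
          show g ^ p = 1 by rw [hg, conj_pow, hx, mul_one, mul_inv_cancel], mul_one] at h1
        rw [Subgroup.val_list_prod, List.map_map, OneMemClass.coe_one]
        exact h1)
      (q₀ := ⟨q, hQN q hq⟩) hq (Abelianization.of (⟨u, hu⟩ : X))
    rw [hψ, ← map_inv, ← map_mul] at hpw
    set c : X := ⟨u, hu⟩⁻¹ * ⟨q * u * q⁻¹, (Subgroup.mem_normalizer_iff.1 (hQN q hq) _).1 hu⟩
      with hc
    have hcard : Nat.card Q' = Nat.card Q :=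
      Nat.card_congr (Subgroup.subgroupOfEquivOfLe hQX).toEquiv
    obtain ⟨k, hk⟩ := hX.exists_card_eq
    have h1 : Abelianization.of c = (1 : Abelianization X) := by
      rw [← orderOf_eq_one_iff]
      refine Nat.eq_one_of_dvd_coprimes ((Nat.Coprime.pow_left k
        (hℓ.coprime_iff_not_dvd.2 hQℓ))) ?_ ((orderOf_dvd_of_pow_eq_one hpw).trans (dvd_of_eq hcard))
      rw [← hk]
      exact (orderOf_map_dvd _ c).trans (_root_.orderOf_dvd_natCard c)
    have h2 : c ∈ commutator X := by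
      rw [← Abelianization.ker_of]; exact h1
    have h3 : (c : G) ∈ (commutator X).map X.subtype := Subgroup.mem_map_of_mem _ h2
    rwa [Subgroup.map_subtype_commutator] at h3
  intro q hq
  rw [Subgroup.mem_centralizer_iff]
  intro u hu
  set c := u⁻¹ * (q * u * q⁻¹) with hc
  have hcD := hkey q hq u hu
  rw [← hc] at hcD
  have hqc : Commute q c := (Subgroup.mem_centralizer_iff.1 (hD hq) c hcD).symm
  have hit : ∀ k : ℕ, q ^ k * u * (q ^ k)⁻¹ = u * c ^ k := by
    intro k
    induction k with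
    | zero => simp
    | succ k ihk =>
      calc q ^ (k + 1) * u * (q ^ (k + 1))⁻¹
          = q * (q ^ k * u * (q ^ k)⁻¹) * q⁻¹ := by rw [pow_succ']; group
        _ = q * (u * c ^ k) * q⁻¹ := by rw [ihk]
        _ = (q * u * q⁻¹) * (q * c ^ k * q⁻¹) := by group
        _ = u * c * c ^ k := by
          rw [show q * c ^ k * q⁻¹ = c ^ k by rw [(hqc.pow_right k).eq]; group, hc]
          group
        _ = u * c ^ (k + 1) := by rw [pow_succ', mul_assoc]
  have h1 : c ^ Nat.card Q = 1 := by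
    have h2 := hit (Nat.card Q)
    have hq1 : q ^ Nat.card Q = 1 :=
      orderOf_dvd_iff_pow_eq_one.1 (Subgroup.orderOf_dvd_natCard _ hq)
    rw [hq1] at h2
    simpa using h2.symm
  obtain ⟨k, hk⟩ := hX.exists_card_eq
  have h3 : c = 1 := by
    rw [← orderOf_eq_one_iff]
    refine Nat.eq_one_of_dvd_coprimes (Nat.Coprime.pow_left k (hℓ.coprime_iff_not_dvd.2 hQℓ)) ?_
      (orderOf_dvd_of_pow_eq_one h1)
    rw [← hk]
    exact Subgroup.orderOf_dvd_natCard _ (hlt.le hcD)
  have h4 := hit 1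
  rw [pow_one, h3, one_pow, mul_one, mul_inv_eq_iff_eq_mul] at h4
  exact h4.symm

end Cfsg.Agent.TwoR
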