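import Cfsg.Agent.TwoR.Basic
import Cfsg.Agent.TwoR.Frob
import Cfsg.Agent.Fusion.Transfer
import Cfsg.Agent.Signalizer.Main
import Cfsg.Agent.Coprime.Generation
import Cfsg.Agent.Coprime.Hall

/-!
The odd cores of the involution centralisers are centralised by the Sylow 2-subgroup, apart from a
four-group with trivial odd centraliser.
-/

set_option autoImplicit false
set_option linter.unusedSectionVars false

open Subgroup
open scoped commutatorElement Pointwise

namespace Cfsg.Agent.TwoR

universe u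

variable {G : Type u} [Group G] [Finite G] {r : ℕ} (H : Hyp G r) (T : Sylow 2 G)

/-- The odd core of a centraliser. -/
def core (a : G) : Subgroup G :=
  (Cfsg.pPrimeCore 2 (centralizer ({a} : Set G))).map (centralizer ({a} : Set G)).subtype

/-- The odd core of the centraliser of a subgroup. -/
def coreOf (X : Subgroup G) : Subgroup G :=
  (Cfsg.pPrimeCore 2 (centralizer (X : Set G))).map (centralizer (X : Set G)).subtype

theorem orderOf_conj_eq (g x : G) : orderOf (g * x * g⁻¹) = orderOf x :=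
  (MulAut.conj g).orderOf_eq x

theorem odd_orderOf_of_mem_core_map {X : Subgroup G} {y : G}
    (hy : y ∈ (Cfsg.pPrimeCore 2 X).map X.subtype) : Odd (orderOf y) := by
  obtain ⟨z, hz, rfl⟩ := hy
  have : Fact (Nat.Prime 2) := ⟨Nat.prime_two⟩
  have h1 : Nat.Coprime (orderOf z) 2 :=
    Nat.Coprime.coprime_dvd_left (Subgroup.orderOf_dvd_natCard _ hz) Core.coprime_card_pPrimeCore
  rw [Subgroup.coe_subtype, Subgroup.orderOf_coe]
  exact Nat.coprime_two_right.1 h1

theorem mem_core_map_iff {X : Subgroup G} [Group.IsSolvable X] (hTX : (T : Subgroup G) ≤ X)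
    (hT : IsMulCommutative (T : Subgroup G)) {y : G} :
    y ∈ (Cfsg.pPrimeCore 2 X).map X.subtype ↔
      y ∈ X ∧ Odd (orderOf y) ∧ ∀ t ∈ (T : Subgroup G), Odd (orderOf ⁅y, t⁆) := by
  constructor
  · rintro ⟨z, hz, rfl⟩
    refine ⟨z.2, odd_orderOf_of_mem_core_map ⟨z, hz, rfl⟩, fun t ht => ?_⟩
    refine odd_orderOf_of_mem_core_map (X := X) ⟨⁅z, ⟨t, hTX ht⟩⁆, ?_, rfl⟩
    have hN := Core.pPrimeCore_normal (p := 2) (G := X)
    rw [commutatorElement_def, mul_assoc z, mul_assoc z]
    exact mul_mem hz (hN.conj_mem _ (inv_mem hz) _)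
  · rintro ⟨hyX, hyo, hc⟩
    refine ⟨⟨y, hyX⟩, ?_, rfl⟩
    have hT' : IsMulCommutative ((T.subtype hTX : Sylow 2 X) : Subgroup X) :=
      ⟨⟨fun a b => Subtype.ext (Subtype.ext
        (congrArg Subtype.val (hT.is_comm.comm ⟨((a : X) : G), a.2⟩ ⟨((b : X) : G), b.2⟩) :))⟩⟩
    refine mem_core_of_commutator (T.subtype hTX) hT' (by rwa [Subgroup.orderOf_mk]) ?_
    intro t ht
    rw [← Subgroup.orderOf_coe]
    exact hc t ht

include H

theorem Hyp.le_centralizer_singleton {a : G} (ha : a ∈ (T : Subgroup G)) :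
    (T : Subgroup G) ≤ centralizer ({a} : Set G) := fun b hb =>
  Subgroup.mem_centralizer_singleton_iff.2
    (congrArg Subtype.val ((H.sylow_comm T).is_comm.comm ⟨b, hb⟩ ⟨a, ha⟩))

theorem Hyp.le_centralizer_self : (T : Subgroup G) ≤ centralizer ((T : Subgroup G) : Set G) :=
  fun b hb => Subgroup.mem_centralizer_iff.2 fun a ha =>
    congrArg Subtype.val ((H.sylow_comm T).is_comm.comm ⟨a, ha⟩ ⟨b, hb⟩)

theorem Hyp.mem_core_iff {a y : G} (ha : a ∈ (T : Subgroup G)) (ha1 : a ≠ 1) :
    y ∈ core a ↔ Commute y a ∧ Odd (orderOf y) ∧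
      ∀ t ∈ (T : Subgroup G), Odd (orderOf ⁅y, t⁆) := by
  have := H.isSolvable_centralizer_invol (H.sylow_invol T ha ha1)
  rw [core, mem_core_map_iff T (H.le_centralizer_singleton T ha) (H.sylow_comm T),
    Subgroup.mem_centralizer_singleton_iff]
  rfl

theorem Hyp.core_pow {a y : G} (ha : a ∈ (T : Subgroup G)) (ha1 : a ≠ 1) (hy : y ∈ core a) :
    y ^ r = 1 := by
  obtain ⟨hc, ho, -⟩ := (H.mem_core_iff T ha ha1).1 hy
  rcases H.orderOf_of_commute_invol (H.sylow_invol T ha ha1) hc with h | h | h | h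
  · rw [orderOf_eq_one_iff] at h; simp [h]
  · rw [h] at ho; exact absurd ho (by decide)
  · rw [← h, pow_orderOf_eq_one]
  · rw [h] at ho; exact absurd ho (Nat.not_odd_iff_even.2 (even_two_mul r))

theorem Hyp.core_isPGroup {a : G} (ha : a ∈ (T : Subgroup G)) (ha1 : a ≠ 1) :
    IsPGroup r (core a) :=
  fun y => ⟨1, Subtype.ext (by simpa using H.core_pow T ha ha1 y.2)⟩

theorem Hyp.core_conj {a y n : G} (ha : a ∈ (T : Subgroup G)) (ha1 : a ≠ 1)
    (hn : n ∈ normalizer ((T : Subgroup G) : Set G)) (hy : y ∈ core a) :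
    n * y * n⁻¹ ∈ core (n * a * n⁻¹) := by
  obtain ⟨hc, ho, ht⟩ := (H.mem_core_iff T ha ha1).1 hy
  refine (H.mem_core_iff T ((Subgroup.mem_normalizer_iff.1 hn a).1 ha)
    (fun h => ha1 (by simpa using h))).2 ⟨(Commute.conj_iff n).2 hc, by rwa [orderOf_conj_eq],
    fun t htT => ?_⟩
  have h1 := ht (n⁻¹ * t * n) ((Subgroup.mem_normalizer_iff''.1 hn t).1 htT)
  rw [← orderOf_conj_eq n] at h1
  convert h1 using 2
  rw [commutatorElement_def, commutatorElement_def]
  group

theorem Hyp.core_balance {a b y : G} (hb : b ∈ (T : Subgroup G)) (hb1 : b ≠ 1)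
    (ha : a ∈ (T : Subgroup G)) (ha1 : a ≠ 1) (hy : y ∈ core a) (hyb : Commute y b) :
    y ∈ core b := by
  obtain ⟨-, ho, ht⟩ := (H.mem_core_iff T ha ha1).1 hy
  exact (H.mem_core_iff T hb hb1).2 ⟨hyb, ho, ht⟩

theorem Hyp.sylow_le_normalizer_core {a : G} (ha : a ∈ (T : Subgroup G)) (ha1 : a ≠ 1) :
    ∀ t ∈ (T : Subgroup G), ∀ y ∈ core a, t * y * t⁻¹ ∈ core a := fun t ht y hy => by
  have h1 := H.core_conj T ha ha1 (Subgroup.le_normalizer ht) hy
  have h2 : Commute t a := congrArg Subtype.val ((H.sylow_comm T).is_comm.comm ⟨t, ht⟩ ⟨a, ha⟩)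
  rwa [h2.eq, mul_inv_cancel_right] at h1

theorem Hyp.exists_sylow_invol : ∃ a ∈ (T : Subgroup G), a ≠ 1 := by
  have : Fact (Nat.Prime 2) := ⟨Nat.prime_two⟩
  obtain ⟨g, hg⟩ := H.ex
  by_contra h
  push Not at h
  have h1 : (T : Subgroup G) = ⊥ := (Subgroup.eq_bot_iff_forall _).2 h
  refine T.not_dvd_index ?_
  rw [h1, Subgroup.index_bot]
  exact (hg ▸ dvd_mul_right 2 r).trans (orderOf_dvd_natCard g)

theorem Hyp.isSolvable_centralizer_sylow :
    Group.IsSolvable (centralizer ((T : Subgroup G) : Set G)) := by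
  obtain ⟨a, ha, ha1⟩ := H.exists_sylow_invol T
  refine H.isSolvable fun g hg => H.orderOf_of_commute_invol (H.sylow_invol T ha ha1) ?_
  exact (Subgroup.mem_centralizer_iff.1 hg a ha).symm

/-- `W = O(C(T))` consists of the odd elements centralising `T`. -/
theorem Hyp.mem_coreOf_iff {y : G} :
    y ∈ coreOf (T : Subgroup G) ↔
      y ∈ centralizer ((T : Subgroup G) : Set G) ∧ Odd (orderOf y) := by
  have := H.isSolvable_centralizer_sylow T
  rw [coreOf, mem_core_map_iff T (H.le_centralizer_self T) (H.sylow_comm T)]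
  refine ⟨fun h => ⟨h.1, h.2.1⟩, fun h => ⟨h.1, h.2, fun t ht => ?_⟩⟩
  rw [commutatorElement_eq_one_iff_mul_comm.2 (Subgroup.mem_centralizer_iff.1 h.1 t ht).symm,
    orderOf_one]
  exact odd_one

theorem Hyp.commute_coreOf {y t : G} (hy : y ∈ coreOf (T : Subgroup G))
    (ht : t ∈ (T : Subgroup G)) : Commute y t :=
  (Subgroup.mem_centralizer_iff.1 ((H.mem_coreOf_iff T).1 hy).1 t ht).symm

theorem Hyp.coreOf_le_core {a : G} (ha : a ∈ (T : Subgroup G)) (ha1 : a ≠ 1) :
    coreOf (T : Subgroup G) ≤ core a := fun y hy => by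
  refine (H.mem_core_iff T ha ha1).2 ⟨H.commute_coreOf T hy ha, ((H.mem_coreOf_iff T).1 hy).2,
    fun t ht => ?_⟩
  rw [commutatorElement_eq_one_iff_mul_comm.2 (H.commute_coreOf T hy ht).eq, orderOf_one]
  exact odd_one

theorem Hyp.coreOf_pow {y : G} (hy : y ∈ coreOf (T : Subgroup G)) : y ^ r = 1 := by
  obtain ⟨a, ha, ha1⟩ := H.exists_sylow_invol T
  exact H.core_pow T ha ha1 (H.coreOf_le_core T ha ha1 hy)

theorem Hyp.coreOf_conj {y n : G} (hn : n ∈ normalizer ((T : Subgroup G) : Set G))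
    (hy : y ∈ coreOf (T : Subgroup G)) : n * y * n⁻¹ ∈ coreOf (T : Subgroup G) := by
  refine (H.mem_coreOf_iff T).2 ⟨Subgroup.mem_centralizer_iff.2 fun t ht => ?_, by
    rw [orderOf_conj_eq]; exact ((H.mem_coreOf_iff T).1 hy).2⟩
  have h1 := (Commute.conj_iff n).2
    (H.commute_coreOf T hy ((Subgroup.mem_normalizer_iff''.1 hn t).1 ht))
  rw [show n * (n⁻¹ * t * n) * n⁻¹ = t by group] at h1
  exact h1.eq.symm

theorem Hyp.mem_sylow_of_normalizer {n : G} (hn : n ∈ normalizer ((T : Subgroup G) : Set G))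
    {k : ℕ} (hk : orderOf n ∣ 2 ^ k) : n ∈ (T : Subgroup G) := by
  have : Fact (Nat.Prime 2) := ⟨Nat.prime_two⟩
  obtain ⟨j, -, hj⟩ := (Nat.dvd_prime_pow Nat.prime_two).1 hk
  have hp : IsPGroup 2 (zpowers n) := IsPGroup.of_card (n := j) (by rw [Nat.card_zpowers, hj])
  have h2 := hp.to_sup_of_normal_right' T.2 (Subgroup.zpowers_le.2 hn)
  rw [← T.3 h2 le_sup_right]
  exact Subgroup.mem_sup_left (Subgroup.mem_zpowers n)

/-- Every element of `N(T)` is an element of `T` times an element of odd order. -/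
theorem Hyp.exists_two_part {g : G} (hg : g ∈ normalizer ((T : Subgroup G) : Set G)) :
    ∃ t b : G, g = t * b ∧ Commute t b ∧ b ∈ zpowers g ∧ t ∈ (T : Subgroup G) ∧
      Odd (orderOf b) := by
  have : Fact (Nat.Prime 2) := ⟨Nat.prime_two⟩
  obtain ⟨t, b, he, hc, htg, hbg, ⟨k, hk⟩, hb⟩ :=
    Fusion.exists_pPart_mul (p := 2) g (isOfFinOrder_of_finite g)
  exact ⟨t, b, he, hc, hbg,
    H.mem_sylow_of_normalizer T ((Subgroup.zpowers_le.2 hg) htg) hk, Nat.coprime_two_right.1 hb⟩

theorem Hyp.exists_mul_of_centralizer {g : G}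
    (hg : g ∈ centralizer ((T : Subgroup G) : Set G)) :
    ∃ t ∈ (T : Subgroup G), ∃ w ∈ coreOf (T : Subgroup G), g = t * w := by
  obtain ⟨t, b, he, -, hbg, ht, hb⟩ :=
    H.exists_two_part T (centralizer_le_normalizer _ hg)
  exact ⟨t, ht, b, (H.mem_coreOf_iff T).2 ⟨(Subgroup.zpowers_le.2 hg) hbg, hb⟩, he⟩

theorem Hyp.exists_mul_normalizer {a h : G} (ha : a ∈ (T : Subgroup G)) (ha1 : a ≠ 1)
    (hh : Commute h a) : ∃ o ∈ core a, ∃ n ∈ normalizer ((T : Subgroup G) : Set G),
      Commute n a ∧ h = o * n := by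
  have := H.isSolvable_centralizer_invol (H.sylow_invol T ha ha1)
  have hTX := H.le_centralizer_singleton T ha
  have hT' : IsMulCommutative ((T.subtype hTX : Sylow 2 _) : Subgroup (centralizer ({a} : Set G))) :=
    ⟨⟨fun x y => Subtype.ext (Subtype.ext
      (congrArg Subtype.val ((H.sylow_comm T).is_comm.comm ⟨(x : G), x.2⟩ ⟨(y : G), y.2⟩) :))⟩⟩
  obtain ⟨o, ho, n, hn, he⟩ := exists_core_mul (T.subtype hTX) hT'
    ⟨h, Subgroup.mem_centralizer_singleton_iff.2 hh⟩
  refine ⟨o, ⟨o, ho, rfl⟩, n, ?_, Subgroup.mem_centralizer_singleton_iff.1 n.2,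
    congrArg Subtype.val he⟩
  rw [Subgroup.mem_normalizer_iff] at hn ⊢
  intro x
  constructor
  · intro hx
    exact (hn ⟨x, hTX hx⟩).1 hx
  · intro hx
    have hxa : x ∈ centralizer ({a} : Set G) := by
      have h1 := mul_mem (mul_mem (inv_mem n.2) (hTX hx)) n.2
      simpa [mul_assoc] using h1
    exact (hn ⟨x, hxa⟩).2 hx

variable [IsSimpleGroup G]

theorem Hyp.not_comm : ¬ ∀ a b : G, a * b = b * a := by
  intro h
  obtain ⟨g, hg⟩ := H.ex
  have := H.three_le
  have hz : zpowers (g ^ 2) ≠ ⊥ := by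
    rw [Ne, Subgroup.zpowers_eq_bot, ← orderOf_dvd_iff_pow_eq_one, hg]
    intro hd
    have := Nat.le_of_dvd two_pos hd
    omega
  have hn : (zpowers (g ^ 2)).Normal := ⟨fun x hx y => by rwa [h y x, mul_inv_cancel_right]⟩
  rcases hn.eq_bot_or_eq_top with h1 | h1
  · exact hz h1
  · have h2 := Subgroup.orderOf_dvd_natCard (zpowers (g ^ 2)) (h1 ▸ Subgroup.mem_top g)
    rw [Nat.card_zpowers, orderOf_pow, hg,
      show (2 * r).gcd 2 = 2 from Nat.gcd_eq_right (dvd_mul_right 2 r),
      Nat.mul_div_cancel_left r two_pos] at h2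
    have := Nat.le_of_dvd H.prime.pos h2
    omega

theorem Hyp.commutator_eq_top : commutator G = ⊤ := by
  rcases (inferInstance : (commutator G).Normal).eq_bot_or_eq_top with h | h
  · refine absurd (fun a b => ?_) H.not_comm
    have h1 : ⁅a, b⁆ ∈ commutator G :=
      Subgroup.commutator_mem_commutator (Subgroup.mem_top a) (Subgroup.mem_top b)
    rw [h, Subgroup.mem_bot] at h1
    exact commutatorElement_eq_one_iff_mul_comm.1 h1
  · exact h

/-- A subgroup containing all `⁅t, n⁆` (`t ∈ T`, `n ∈ N(T)`) contains `T`. -/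
theorem Hyp.sylow_le_of_commutators {K : Subgroup G}
    (h : ∀ t ∈ (T : Subgroup G), ∀ n ∈ normalizer ((T : Subgroup G) : Set G), ⁅t, n⁆ ∈ K) :
    (T : Subgroup G) ≤ K := by
  have : Fact (Nat.Prime 2) := ⟨Nat.prime_two⟩
  intro x hx
  have h1 : x ∈ commutator G ⊓ (T : Subgroup G) := ⟨H.commutator_eq_top.symm ▸ Subgroup.mem_top x, hx⟩
  rw [commutator_inf_eq_focalSubgroup T] at h1
  refine (Fusion.focalSubgroup_le_commutator_right_of_controls T _
    (fun y hy g hg => Fusion.exists_mem_normalizer_conj_of_isMulCommutative T (H.sylow_comm T)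
      hy g hg)).trans ?_ h1
  exact Subgroup.commutator_le.2 h

theorem Hyp.four_le_card : 4 ≤ Nat.card (T : Subgroup G) := by
  have : Fact (Nat.Prime 2) := ⟨Nat.prime_two⟩
  obtain ⟨a, ha, ha1⟩ := H.exists_sylow_invol T
  obtain ⟨k, hk⟩ := T.2.exists_card_eq
  rw [hk]
  rcases k with _ | _ | k
  · exact absurd (Subgroup.card_eq_one.1 hk) (fun h => ha1 (Subgroup.mem_bot.1 (h ▸ ha)))
  · exfalso
    have hall : ∀ y ∈ (T : Subgroup G), y = 1 ∨ y = a := by
      intro y hy
      by_contra hne
      push Not at hne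
      have h2 : Nat.card (T : Subgroup G) = 2 := by simpa using hk
      have h3 := (Nat.card_eq_two_iff' (⟨1, one_mem _⟩ : (T : Subgroup G))).1 h2
      obtain ⟨z, -, hz⟩ := h3
      have e1 := hz ⟨y, hy⟩ (fun e => hne.1 (congrArg Subtype.val e))
      have e2 := hz ⟨a, ha⟩ (fun e => ha1 (congrArg Subtype.val e))
      exact hne.2 (congrArg Subtype.val (e1.trans e2.symm))
    refine ha1 (Subgroup.mem_bot.1 (H.sylow_le_of_commutators T (K := ⊥) ?_ ha))
    intro t ht n hn
    rw [Subgroup.mem_bot, commutatorElement_eq_one_iff_mul_comm]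
    rcases hall t ht with rfl | rfl
    · simp
    · rcases hall _ ((Subgroup.mem_normalizer_iff.1 hn t).1 ht) with h | h
      · exact absurd (by simpa using h) ha1
      · exact (mul_inv_eq_iff_eq_mul.1 h).symm
  · calc 4 = 2 ^ 2 := rfl
      _ ≤ 2 ^ (k + 2) := Nat.pow_le_pow_right two_pos (by omega)

/-- `T` centralises every `r`-subgroup normalised by `N(T)`. -/
theorem Hyp.sylow_le_centralizer {X : Subgroup G} (hX : IsPGroup r X)
    (hNX : normalizer ((T : Subgroup G) : Set G) ≤ normalizer (X : Set G)) :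
    (T : Subgroup G) ≤ centralizer (X : Set G) := by
  have : Fact (Nat.Prime 2) := ⟨Nat.prime_two⟩
  have : Fact r.Prime := ⟨H.prime⟩
  have hTX : (T : Subgroup G) ≤ normalizer (X : Set G) := Subgroup.le_normalizer.trans hNX
  have hrT : ¬ r ∣ Nat.card (T : Subgroup G) := fun hd => by
    obtain ⟨k, hk⟩ := T.2.exists_card_eq
    exact H.ne_two ((Nat.prime_dvd_prime_iff_eq H.prime Nat.prime_two).1
      (H.prime.dvd_of_dvd_pow (hk ▸ hd)))
  by_cases hs : ∃ g ∈ normalizer ((T : Subgroup G) : Set G),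
      (orderOf g).Prime ∧ orderOf g ≠ 2 ∧ orderOf g ≠ r
  · obtain ⟨g, hg, hsp, hs2, hsr⟩ := hs
    refine le_centralizer_of_pow H.prime hsp (x := g) (pow_orderOf_eq_one g) hg hrT
      (fun q hq hc => by
        by_contra hq1
        exact H.not_commute_of_prime hsp hs2 hsr rfl (Or.inl (H.sylow_invol T hq hq1)) hc.symm)
      hX hTX (hNX hg) ?_
    intro u hu q hq
    set g' := q * g * q⁻¹ with hg'
    have hg'X : g' ∈ normalizer (X : Set G) :=
      mul_mem (mul_mem (hTX hq) (hNX hg)) (inv_mem (hTX hq))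
    let e : X → X := fun v => ⟨(v : G) * g' * (v : G)⁻¹ * g'⁻¹, by
      rw [mul_assoc (v : G), mul_assoc (v : G)]
      exact mul_mem v.2 ((Subgroup.mem_normalizer_iff.1 hg'X _).1 (inv_mem v.2))⟩
    have he : Function.Surjective e := by
      refine (Finite.injective_iff_surjective.1 fun v w hvw => ?_)
      have h2 : (v : G) * g' * (v : G)⁻¹ = (w : G) * g' * (w : G)⁻¹ :=
        mul_right_cancel (congrArg Subtype.val hvw)
      have hcomm : Commute g' ((w : G)⁻¹ * v) := by
        show g' * ((w : G)⁻¹ * v) = (w : G)⁻¹ * v * g'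
        calc g' * ((w : G)⁻¹ * v) = (w : G)⁻¹ * ((w : G) * g' * (w : G)⁻¹) * v := by group
          _ = (w : G)⁻¹ * ((v : G) * g' * (v : G)⁻¹) * v := by rw [h2]
          _ = (w : G)⁻¹ * v * g' := by group
      by_contra hne
      have h3 : (w : G)⁻¹ * v ≠ 1 := fun h => hne (Subtype.ext (inv_mul_eq_one.1 h).symm)
      have h4 : orderOf ((w : G)⁻¹ * v) = r :=
        orderOf_eq_prime (H.pow_eq_one_of_mem hX (mul_mem (inv_mem w.2) v.2)) h3
      exact H.not_commute_of_prime hsp hs2 hsr (show orderOf g' = orderOf g by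
        rw [hg', orderOf_conj_eq]) (Or.inr h4) hcomm
    obtain ⟨v, hv⟩ := he ⟨u, hu⟩
    have hv' : (v : G) * g' * (v : G)⁻¹ * g'⁻¹ = u := congrArg Subtype.val hv
    rw [← hv', inv_mul_cancel_right, conj_pow, hg', conj_pow, pow_orderOf_eq_one]
    simp
  · push Not at hs
    have key : ∀ t ∈ (T : Subgroup G), ∀ x ∈ normalizer ((T : Subgroup G) : Set G),
        x ^ r = 1 → ⁅t, x⁆ ∈ centralizer (X : Set G) := by
      intro t ht x hx hxr
      have hc : ∀ s ∈ (T : Subgroup G), ⁅s, x⁆ ∈ (T : Subgroup G) := fun s hs' => by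
        rw [commutatorElement_def, mul_assoc s, mul_assoc s]
        exact mul_mem hs' ((Subgroup.mem_normalizer_iff.1 hx _).1 (inv_mem hs'))
      have hcm : ∀ a ∈ (T : Subgroup G), ∀ b ∈ (T : Subgroup G), Commute a b := fun a ha b hb =>
        congrArg Subtype.val ((H.sylow_comm T).is_comm.comm ⟨a, ha⟩ ⟨b, hb⟩)
      let f : (T : Subgroup G) →* G :=
        { toFun := fun s => ⁅(s : G), x⁆
          map_one' := by simp
          map_mul' := fun a b => by
            simp only [Subgroup.coe_mul]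
            calc ⁅(a : G) * b, x⁆ = (a : G) * ⁅(b : G), x⁆ * (a : G)⁻¹ * ⁅(a : G), x⁆ := by
                  simp only [commutatorElement_def]; group
              _ = ⁅(b : G), x⁆ * ⁅(a : G), x⁆ := by
                  rw [(hcm _ a.2 _ (hc _ b.2)).eq, mul_inv_cancel_right]
              _ = ⁅(a : G), x⁆ * ⁅(b : G), x⁆ := (hcm _ (hc _ b.2) _ (hc _ a.2)).eq }
      have hQT : f.range ≤ (T : Subgroup G) := by
        rintro _ ⟨s, rfl⟩
        exact hc s s.2
      refine le_centralizer_of_pow H.prime H.prime (x := x) hxr ?_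
        (fun hd => hrT (hd.trans (Subgroup.card_dvd_of_le hQT))) ?_ hX (hQT.trans hTX) (hNX hx)
        ?_ ⟨⟨t, ht⟩, rfl⟩
      · refine Subgroup.mem_normalizer_iff_map_conj_eq.2 (Subgroup.eq_of_le_of_card_ge ?_ ?_)
        · rintro _ ⟨_, ⟨s, rfl⟩, rfl⟩
          refine ⟨⟨x * s * x⁻¹, (Subgroup.mem_normalizer_iff.1 hx _).1 s.2⟩, ?_⟩
          show ⁅x * (s : G) * x⁻¹, x⁆ = x * ⁅(s : G), x⁆ * x⁻¹
          simp only [commutatorElement_def]
          group
        · rw [Subgroup.card_map_of_injective (MulAut.conj x).injective]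
      · rintro _ ⟨s, rfl⟩ hq
        show ⁅(s : G), x⁆ = 1
        replace hq : Commute ⁅(s : G), x⁆ x := hq
        set q := ⁅(s : G), x⁆ with hqd
        have h1 : x * (s : G) * x⁻¹ = q⁻¹ * s := by
          rw [hqd, commutatorElement_def]; group
        have hit : ∀ k : ℕ, x ^ k * (s : G) * (x ^ k)⁻¹ = q⁻¹ ^ k * s := by
          intro k
          induction k with
          | zero => simp
          | succ k ih =>
            calc x ^ (k + 1) * (s : G) * (x ^ (k + 1))⁻¹
                = x * (x ^ k * (s : G) * (x ^ k)⁻¹) * x⁻¹ := by rw [pow_succ']; group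
              _ = x * q⁻¹ ^ k * x⁻¹ * (x * (s : G) * x⁻¹) := by rw [ih]; group
              _ = q⁻¹ ^ (k + 1) * s := by
                rw [(((hq.inv_left).pow_left k).symm).eq, mul_inv_cancel_right, h1, pow_succ,
                  mul_assoc]
        have h2 := hit r
        rw [hxr, one_mul, inv_one, mul_one, eq_comm, mul_eq_right] at h2
        by_contra hne
        have h3 : orderOf q⁻¹ = 2 :=
          H.sylow_invol T (inv_mem (hc s s.2)) (by simpa using hne)
        have h4 := orderOf_dvd_of_pow_eq_one h2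
        rw [h3] at h4
        exact Nat.not_even_iff_odd.2 H.odd (even_iff_two_dvd.2 h4)
      · intro u hu q hq
        set g := q * x * q⁻¹ with hg
        have hgX : g ∈ normalizer (X : Set G) :=
          mul_mem (mul_mem (hTX (hQT hq)) (hNX hx)) (inv_mem (hTX (hQT hq)))
        have hgr : g ^ r = 1 := by rw [hg, conj_pow, hxr]; simp
        have hmem : (u * g) ^ r ∈ X := by
          rw [mul_pow_eq_prod_list, hgr, mul_one]
          refine Subgroup.list_prod_mem _ fun y hy => ?_
          obtain ⟨i, -, rfl⟩ := List.mem_map.1 hy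
          exact (Subgroup.mem_normalizer_iff.1 (pow_mem hgX i) _).1 hu
        refine H.pow_r_eq_one (k := 2) (orderOf_dvd_of_pow_eq_one ?_)
        rw [pow_two, pow_mul, H.pow_eq_one_of_mem hX hmem]
    refine H.sylow_le_of_commutators T fun t ht n hn => ?_
    obtain ⟨a, b, he, -, hbn, ha, hb⟩ := H.exists_two_part T hn
    have hbN : b ∈ normalizer ((T : Subgroup G) : Set G) := Subgroup.zpowers_le.2 hn hbn
    have hbr : b ^ r = 1 := by
      by_cases hb1 : orderOf b = 1
      · rw [orderOf_eq_one_iff] at hb1; simp [hb1]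
      have hprime : ∀ p : ℕ, p.Prime → p ∣ orderOf b → p = r := by
        intro p hp hd
        by_contra hpr
        refine hpr (hs (b ^ (orderOf b / p)) (pow_mem hbN _) ?_ ?_ ▸ ?_)
        all_goals
          have ho : orderOf (b ^ (orderOf b / p)) = p := by
            rw [orderOf_pow, Nat.gcd_eq_right (Nat.div_dvd_of_dvd hd),
              Nat.div_div_self hd (orderOf_pos b).ne']
        · rwa [ho]
        · rw [ho]; rintro rfl; exact Nat.not_even_iff_odd.2 hb (even_iff_two_dvd.2 hd)
        · rw [ho]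
      obtain ⟨k, hk⟩ : ∃ k, orderOf b = r ^ k :=
        ⟨_, Nat.eq_prime_pow_of_unique_prime_dvd (orderOf_pos b).ne' fun {d} hd hdd =>
          hprime d hd hdd⟩
      exact H.pow_r_eq_one (k := k) (dvd_of_eq hk)
    have hcb := key t ht b hbN hbr
    have : ⁅t, n⁆ = a * ⁅t, b⁆ * a⁻¹ := by
      have h1 : Commute t a := congrArg Subtype.val ((H.sylow_comm T).is_comm.comm ⟨t, ht⟩ ⟨a, ha⟩)
      rw [he, commutatorElement_def, commutatorElement_def, mul_inv_rev]
      simp only [← mul_assoc]
      rw [h1.eq]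
    rw [this]
    have hTC : ∀ c ∈ centralizer (X : Set G), a * c * a⁻¹ ∈ centralizer (X : Set G) := by
      intro c hc
      rw [Subgroup.mem_centralizer_iff] at hc ⊢
      intro u hu
      have h1 := (Commute.conj_iff a).2
        (show Commute c (a⁻¹ * u * a) from
          (hc _ ((Subgroup.mem_normalizer_iff''.1 (hTX ha) u).1 hu)).symm)
      rw [show a * (a⁻¹ * u * a) * a⁻¹ = u by group] at h1
      exact h1.eq.symm
    exact hTC _ hcb

theorem Hyp.core_le_coreOf (hne : ¬ (Nat.card (T : Subgroup G) = 4 ∧ coreOf (T : Subgroup G) = ⊥))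
    {a : G} (ha : a ∈ (T : Subgroup G)) (ha1 : a ≠ 1) : core a ≤ coreOf (T : Subgroup G) := by
  have : Fact (Nat.Prime 2) := ⟨Nat.prime_two⟩
  have : Fact r.Prime := ⟨H.prime⟩
  obtain ⟨k, hk⟩ := T.2.exists_card_eq
  have h4 := H.four_le_card T
  set W := coreOf (T : Subgroup G) with hW
  rcases eq_or_ne k 2 with rfl | hk2
  · have hWne : W ≠ ⊥ := fun h => hne ⟨hk, h⟩
    obtain ⟨w, hw, hw1⟩ : ∃ w ∈ W, w ≠ 1 := by
      rw [Ne, Subgroup.eq_bot_iff_forall] at hWne
      push Not at hWne
      exact hWne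
    have hwr : orderOf w = r := orderOf_eq_prime (H.coreOf_pow T hw) hw1
    set C := centralizer (W : Set G) with hC
    have hord : ∀ g ∈ C, orderOf g = 1 ∨ orderOf g = 2 ∨ orderOf g = r ∨ orderOf g = 2 * r :=
      fun g hg => H.orderOf_of_commute_r hwr (Subgroup.mem_centralizer_iff.1 hg w hw).symm
    have hCsol : Group.IsSolvable C := H.isSolvable hord
    have hTC : (T : Subgroup G) ≤ C := fun t ht =>
      Subgroup.mem_centralizer_iff.2 fun u hu => (H.commute_coreOf T hu ht).eq
    have hNW : normalizer ((T : Subgroup G) : Set G) ≤ normalizer (W : Set G) := fun n hn => by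
      refine Subgroup.mem_normalizer_iff.2 fun x => ⟨H.coreOf_conj T hn, fun hx => ?_⟩
      simpa [mul_assoc] using H.coreOf_conj T (inv_mem hn) hx
    set X := coreOf W with hX
    have hXr : IsPGroup r X := fun y => by
      refine ⟨1, Subtype.ext ?_⟩
      have hy : (y : G) ∈ coreOf W := y.2
      have ho := odd_orderOf_of_mem_core_map hy
      obtain ⟨z, -, hz⟩ := hy
      rcases hord y (hz ▸ z.2) with h | h | h | h
      · rw [orderOf_eq_one_iff] at h; simp [h]
      · rw [h] at ho; exact absurd ho (by decide)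
      · rw [Subgroup.coe_pow, pow_one, ← h, pow_orderOf_eq_one]; rfl
      · rw [h] at ho; exact absurd ho (Nat.not_odd_iff_even.2 (even_two_mul r))
    have hNX : normalizer ((T : Subgroup G) : Set G) ≤ normalizer (X : Set G) := by
      intro n hn
      have hCconj : ∀ m ∈ normalizer ((T : Subgroup G) : Set G), ∀ x ∈ C, m * x * m⁻¹ ∈ C := by
        intro m hm x hx
        refine Subgroup.mem_centralizer_iff.2 fun u hu => ?_
        have h1 := (Commute.conj_iff m).2 (show Commute x (m⁻¹ * u * m) from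
          (Subgroup.mem_centralizer_iff.1 hx _
            ((Subgroup.mem_normalizer_iff''.1 (hNW hm) u).1 hu)).symm)
        rw [show m * (m⁻¹ * u * m) * m⁻¹ = u by group] at h1
        exact h1.eq.symm
      have hXconj : ∀ m ∈ normalizer ((T : Subgroup G) : Set G), ∀ x ∈ X, m * x * m⁻¹ ∈ X := by
        intro m hm x hx
        rw [hX, coreOf, mem_core_map_iff T hTC (H.sylow_comm T)] at hx ⊢
        refine ⟨hCconj m hm x hx.1, by rw [orderOf_conj_eq]; exact hx.2.1, fun t ht => ?_⟩
        have h1 := hx.2.2 _ ((Subgroup.mem_normalizer_iff''.1 hm t).1 ht)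
        rw [← orderOf_conj_eq m] at h1
        convert h1 using 2
        rw [commutatorElement_def, commutatorElement_def]
        group
      refine Subgroup.mem_normalizer_iff.2 fun x => ⟨hXconj n hn x, fun hx => ?_⟩
      simpa [mul_assoc] using hXconj n⁻¹ (inv_mem hn) _ hx
    have hTX := H.sylow_le_centralizer T hXr hNX
    have hstep : ∀ y ∈ core a, y ∈ normalizer (W : Set G) → y ∈ W := by
      intro y hy hyN
      obtain ⟨hya, hyo, hyt⟩ := (H.mem_core_iff T ha ha1).1 hy
      refine (H.mem_coreOf_iff T).2 ⟨Subgroup.mem_centralizer_iff.2 fun t ht => ?_, hyo⟩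
      set z := ⁅y, t⁆ with hz
      have hzC : z ∈ C := by
        refine Subgroup.mem_centralizer_iff.2 fun u hu => ?_
        have hu' : y⁻¹ * u * y ∈ W := (Subgroup.mem_normalizer_iff''.1 hyN u).1 hu
        have h1 : Commute t (y⁻¹ * u * y) := (H.commute_coreOf T hu' ht).symm
        have h2 := (H.commute_coreOf T hu ht).symm
        have h3 := ((Commute.conj_iff y).2 h1)
        rw [show y * (y⁻¹ * u * y) * y⁻¹ = u by group] at h3
        have h4 : Commute (y * t * y⁻¹ * t⁻¹) u := h3.mul_left h2.inv_left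
        exact h4.eq.symm
      have hzX : z ∈ X := by
        rw [hX, coreOf, mem_core_map_iff T hTC (H.sylow_comm T)]
        have hzc : z ∈ core a := by
          rw [hz, commutatorElement_def, mul_assoc y, mul_assoc y]
          exact mul_mem hy (H.sylow_le_normalizer_core T ha ha1 t ht _ (inv_mem hy))
        obtain ⟨-, h1, h2⟩ := (H.mem_core_iff T ha ha1).1 hzc
        exact ⟨hzC, h1, h2⟩
      have hzt : Commute z t := (Subgroup.mem_centralizer_iff.1 (hTX ht) z hzX)
      have htt : t * t = 1 := by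
        rcases eq_or_ne t 1 with rfl | h
        · simp
        · rw [← pow_two, ← H.sylow_invol T ht h, pow_orderOf_eq_one]
      have hzo : Odd (orderOf z) := hyt t ht
      have h5 : z * z = 1 := by
        have h6 : z * t = y * t * y⁻¹ := by rw [hz, commutatorElement_def]; group
        calc z * z = z * (t * t) * z := by rw [htt, mul_one]
          _ = z * t * (t * z) := by group
          _ = z * t * (z * t) := by rw [hzt.eq]
          _ = y * (t * t) * y⁻¹ := by rw [h6]; group
          _ = 1 := by rw [htt]; group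
      have hz1 : z = 1 := by
        rw [← orderOf_eq_one_iff]
        refine Nat.eq_one_of_dvd_coprimes (Nat.coprime_two_left.2 hzo)
          (orderOf_dvd_of_pow_eq_one ?_) dvd_rfl
        rw [pow_two, h5]
      exact (commutatorElement_eq_one_iff_mul_comm.1 (hz ▸ hz1)).symm
    by_contra hle
    have hWa := H.coreOf_le_core T ha ha1
    have : Group.IsNilpotent (core a) := (H.core_isPGroup T ha ha1).isNilpotent
    have hlt : W.subgroupOf (core a) < ⊤ := by
      rw [lt_top_iff_ne_top, Ne, Subgroup.subgroupOf_eq_top]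
      exact hle
    obtain ⟨y, hyN, hy⟩ := SetLike.exists_of_lt
      (Group.normalizerCondition_of_isNilpotent _ hlt)
    rw [← Subgroup.subgroupOf_normalizer_eq hWa, Subgroup.mem_subgroupOf] at hyN
    exact hy (Subgroup.mem_subgroupOf.2 (hstep y y.2 hyN))
  · have hk3 : 3 ≤ k := by
      rcases k with _ | _ | _ | k
      · rw [hk] at h4; norm_num at h4
      · rw [hk] at h4; norm_num at h4
      · exact absurd rfl hk2
      · omega
    obtain ⟨E₀, hE₀⟩ := Sylow.exists_subgroup_card_pow_prime_of_le_card (n := 3) Nat.prime_two T.2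
      (hk ▸ Nat.pow_le_pow_right two_pos hk3)
    set E : Subgroup G := E₀.map (T : Subgroup G).subtype with hE
    have hET : E ≤ (T : Subgroup G) := Subgroup.map_subtype_le E₀
    have hEc : Nat.card E = 2 ^ 3 := by
      rw [hE, Subgroup.card_map_of_injective (T : Subgroup G).subtype_injective, hE₀]
    have hEea : Cfsg.IsElementaryAbelian 2 E := by
      refine ⟨⟨⟨fun x y => Subtype.ext (congrArg Subtype.val
        ((H.sylow_comm T).is_comm.comm ⟨(x : G), hET x.2⟩ ⟨(y : G), hET y.2⟩) :)⟩⟩, fun e he => ?_⟩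
      rcases eq_or_ne e 1 with rfl | h
      · exact one_pow 2
      · rw [← H.sylow_invol T (hET he) h, pow_orderOf_eq_one]
    have hEnc : ¬ IsCyclic E := by
      intro hc
      obtain ⟨g, hg⟩ := hc.exists_generator
      have h1 := orderOf_eq_card_of_forall_mem_zpowers hg
      have h2 : g ^ 2 = 1 := Subtype.ext (hEea.2 g g.2)
      have h3 := Nat.le_of_dvd two_pos (orderOf_dvd_of_pow_eq_one h2)
      rw [h1, hEc] at h3
      norm_num at h3
    have : IsMulCommutative E := hEea.1
    have hfun : Cfsg.IsSolvableSignalizerFunctor 2 E (core (G := G)) := by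
      refine ⟨⟨fun e he he1 => Subgroup.map_subtype_le _, fun e he he1 => ?_,
        fun e he he1 b hb y hy => H.sylow_le_normalizer_core T (hET he) he1 b (hET hb) y hy,
        fun e he he1 b hb hb1 y hy => H.core_balance T (hET hb) hb1 (hET he) he1 hy.1
          (Subgroup.mem_centralizer_singleton_iff.1 hy.2)⟩, fun e he he1 => ?_⟩
      · rw [core, Subgroup.card_map_of_injective (Subgroup.subtype_injective _)]
        exact Core.not_dvd_card_pPrimeCore
      · have := H.isSolvable_centralizer_invol (H.sylow_invol T (hET he) he1)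
        exact Group.isSolvable_of_surjective (f := (centralizer ({e} : Set G)).subtype.subgroupMap
          (Cfsg.pPrimeCore 2 (centralizer ({e} : Set G)))) (MonoidHom.subgroupMap_surjective _ _)
    obtain ⟨W₀, hW₀, hcore⟩ := Signalizer.Hyp.complete
      (⟨hEea, hEc, hfun⟩ : Signalizer.Hyp 2 E (core (G := G)))
    have hWodd : ¬ 2 ∣ Nat.card W₀ := hW₀.2.1
    have hEcop : ∀ K : Subgroup G, ¬ 2 ∣ Nat.card K → (Nat.card E).Coprime (Nat.card K) :=
      fun K hK => by rw [hEc]; exact Nat.Coprime.pow_left 3 (Nat.prime_two.coprime_iff_not_dvd.2 hK)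
    have hcoreE : ∀ b ∈ (T : Subgroup G), b ≠ 1 → core b ≤ W₀ := by
      intro b hb hb1
      have hEn : E ≤ normalizer (core b : Set G) := Signalizer.le_normalizer_iff_conj.2
        fun e he y hy => H.sylow_le_normalizer_core T hb hb1 e (hET he) y hy
      have hodd : ¬ 2 ∣ Nat.card (core b) := by
        rw [core, Subgroup.card_map_of_injective (Subgroup.subtype_injective _)]
        exact Core.not_dvd_card_pPrimeCore
      rw [← Coprime.iSup_centralizer_eq hEnc hEn (hEcop _ hodd)]
      refine iSup₂_le fun e he => fun y hy => hcore e he.1 he.2 ?_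
      exact H.core_balance T (hET he.1) he.2 hb hb1 hy.1
        (Subgroup.mem_centralizer_singleton_iff.1 hy.2)
    set gens : Set G := {y | ∃ b ∈ (T : Subgroup G), b ≠ 1 ∧ y ∈ core b} with hgens
    set X : Subgroup G := Subgroup.closure gens with hX
    have hXW : X ≤ W₀ := (Subgroup.closure_le _).2 fun y ⟨b, hb, hb1, hy⟩ => hcoreE b hb hb1 hy
    have hNX : normalizer ((T : Subgroup G) : Set G) ≤ normalizer (X : Set G) := by
      have hstab : ∀ m ∈ normalizer ((T : Subgroup G) : Set G), ∀ x ∈ X, m * x * m⁻¹ ∈ X := by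
        intro m hm x hx
        have h1 : X ≤ X.comap (MulAut.conj m).toMonoidHom := (Subgroup.closure_le _).2
          fun y ⟨b, hb, hb1, hy⟩ => Subgroup.subset_closure ⟨m * b * m⁻¹,
            (Subgroup.mem_normalizer_iff.1 hm b).1 hb, fun h => hb1 (by simpa using h),
            by simpa using H.core_conj T hb hb1 hm hy⟩
        simpa using h1 hx
      exact fun n hn => Subgroup.mem_normalizer_iff.2 fun x =>
        ⟨hstab n hn x, fun hx => by simpa [mul_assoc] using hstab n⁻¹ (inv_mem hn) _ hx⟩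
    have hXodd : ¬ 2 ∣ Nat.card X := fun h => hWodd (h.trans (Subgroup.card_dvd_of_le hXW))
    have hEX : E ≤ normalizer (X : Set G) := hET.trans (Subgroup.le_normalizer.trans hNX)
    have hXr : IsPGroup r X := by
      refine IsPGroup.of_card (n := (Nat.card X).primeFactorsList.length)
        (Nat.eq_prime_pow_of_unique_prime_dvd Nat.card_pos.ne' fun {q} hq hqd => ?_)
      have := Fact.mk hq
      have hsol : Group.IsSolvable X :=
        Coprime.isSolvable_of_le hXW hW₀.1
      obtain ⟨Q, hQ⟩ := Coprime.exists_invariant_sylow hEX (hEcop X hXodd) (Or.inr hsol) q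
      set Q₀ : Subgroup G := (Q : Subgroup X).map X.subtype with hQ₀
      have hQX : Q₀ ≤ X := Subgroup.map_subtype_le _
      obtain ⟨m, hm⟩ := (Q.2.map X.subtype).exists_card_eq
      by_contra hqr
      have hone : Q₀ = ⊥ := by
        rw [← Coprime.iSup_centralizer_eq hEnc hQ
          (hEcop _ fun h => hXodd (h.trans (Subgroup.card_dvd_of_le hQX))), eq_bot_iff]
        refine iSup₂_le fun e he => fun y hy => ?_
        have h1 : y ^ r = 1 := H.core_pow T (hET he.1) he.2
          (hW₀.2.2.2 e he.1 he.2 ⟨hXW (hQX hy.1), hy.2⟩)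
        have h2 : orderOf y ∣ q ^ m := hm ▸ Subgroup.orderOf_dvd_natCard _ hy.1
        rw [Subgroup.mem_bot, ← orderOf_eq_one_iff]
        exact Nat.eq_one_of_dvd_coprimes (Nat.Coprime.pow_right m
          ((Nat.coprime_primes H.prime hq).2 (Ne.symm hqr))) (orderOf_dvd_of_pow_eq_one h1) h2
      have hQ1 : Nat.card (Q : Subgroup X) = 1 := by
        rw [← Subgroup.card_map_of_injective (f := X.subtype) X.subtype_injective, ← hQ₀,
          hone, Subgroup.card_bot]
      have h3 := Q.card_eq_multiplicity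
      rw [hQ1] at h3
      rcases Nat.pow_eq_one.1 h3.symm with h4 | h4
      · exact hq.ne_one h4
      · exact (Nat.Prime.factorization_pos_of_dvd hq Nat.card_pos.ne' hqd).ne' h4
    have hTX := H.sylow_le_centralizer T hXr hNX
    intro y hy
    refine (H.mem_coreOf_iff T).2 ⟨Subgroup.mem_centralizer_iff.2 fun t ht => ?_,
      ((H.mem_core_iff T ha ha1).1 hy).2.1⟩
    exact (Subgroup.mem_centralizer_iff.1 (hTX ht) y
      (Subgroup.subset_closure ⟨a, ha, ha1, hy⟩)).symm

end Cfsg.Agent.TwoR
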