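import Cfsg.Agent.TwoR.Basic
import Cfsg.Agent.OneComposite.Lists

/-!
Few element orders: either all involution centralisers are `2`-groups or the even orders are `2, 2r`.
-/

set_option autoImplicit false
set_option linter.unusedSectionVars false

open Subgroup

namespace Cfsg.Agent.TwoR

universe u

variable {G : Type u} [Group G] [Finite G]

theorem cit_or_double :
    (∀ t : G, orderOf t = 2 → IsPGroup 2 (centralizer ({t} : Set G))) ∨
      ∃ r : ℕ, r.Prime ∧ r ≠ 2 ∧ ∃ g : G, orderOf g = 2 * r := by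
  by_cases hC : ∀ t : G, orderOf t = 2 → IsPGroup 2 (centralizer ({t} : Set G))
  · exact Or.inl hC
  right
  have : Fact (Nat.Prime 2) := ⟨Nat.prime_two⟩
  push Not at hC
  obtain ⟨t, ht, hnp⟩ := hC
  rw [IsPGroup.iff_orderOf] at hnp
  push Not at hnp
  obtain ⟨⟨g, hg⟩, hgk⟩ := hnp
  rw [Subgroup.orderOf_mk] at hgk
  obtain ⟨p, hp, hpd, hp2⟩ : ∃ p, p.Prime ∧ p ∣ orderOf g ∧ p ≠ 2 := by
    by_contra h
    push Not at h
    exact hgk _ (Nat.eq_prime_pow_of_unique_prime_dvd (orderOf_pos g).ne'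
      (fun {d} hd hdd => h d hd hdd))
  have hc : Commute t (g ^ (orderOf g / p)) :=
    (Commute.symm (Subgroup.mem_centralizer_singleton_iff.1 hg : Commute g t)).pow_right _
  have ho : orderOf (g ^ (orderOf g / p)) = p := orderOf_pow_orderOf_div (orderOf_pos g).ne' hpd
  refine ⟨p, hp, hp2, t * g ^ (orderOf g / p), ?_⟩
  rw [hc.orderOf_mul_eq_mul_orderOf_of_coprime (by
    rw [ht, ho]; exact (Nat.coprime_primes Nat.prime_two hp).2 hp2.symm), ht, ho]

/-- At most one composite element order. -/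
theorem hyp_of_atMostOne (h : OneComposite.AtMostOne G) {r : ℕ} (hr : r.Prime) (hr2 : r ≠ 2)
    {x : G} (hx : orderOf x = 2 * r) : Hyp G r := by
  have h1 : 1 < 2 * r := by have := hr.two_le; omega
  have h2 : ¬ (2 * r).Prime := Nat.not_prime_mul (by norm_num) hr.ne_one
  refine ⟨hr, hr2, fun g hg => ?_, fun g hg => ?_, x, hx⟩
  · by_contra hc
    push Not at hc
    have h0 := orderOf_pos g
    have hp : ¬ (orderOf g).Prime := fun hp =>
      hc.1 ((Nat.prime_dvd_prime_iff_eq Nat.prime_two hp).1 hg).symm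
    exact hc.2 ((h.eq (x := x) (y := g) (hx ▸ h1) (hx ▸ h2)
      (lt_of_lt_of_le one_lt_two (Nat.le_of_dvd h0 hg)) hp).symm.trans hx)
  · by_contra hc
    push Not at hc
    have h0 := orderOf_pos g
    have hp : ¬ (orderOf g).Prime := fun hp =>
      hc.1 ((Nat.prime_dvd_prime_iff_eq hr hp).1 hg).symm
    exact hc.2 ((h.eq (x := x) (y := g) (hx ▸ h1) (hx ▸ h2)
      (lt_of_lt_of_le hr.one_lt (Nat.le_of_dvd h0 hg)) hp).symm.trans hx)

/-- No prime divides three pairwise different element orders. -/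
theorem hyp_of_three
    (h3 : ∀ p : ℕ, p.Prime → ∀ a b c : G, orderOf a ≠ orderOf b → orderOf b ≠ orderOf c →
      orderOf a ≠ orderOf c → ¬ (p ∣ orderOf a ∧ p ∣ orderOf b ∧ p ∣ orderOf c))
    {r : ℕ} (hr : r.Prime) (hr2 : r ≠ 2) {x : G} (hx : orderOf x = 2 * r) : Hyp G r := by
  have hr0 := hr.pos
  have hxr : orderOf (x ^ r) = 2 := by
    rw [orderOf_pow, hx, Nat.gcd_eq_right (dvd_mul_left r 2), Nat.mul_div_cancel _ hr0]
  have hx2 : orderOf (x ^ 2) = r := by
    rw [orderOf_pow, hx, Nat.gcd_eq_right (dvd_mul_right 2 r), Nat.mul_div_cancel_left _ two_pos]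
  refine ⟨hr, hr2, fun g hg => ?_, fun g hg => ?_, x, hx⟩
  · by_contra hc
    push Not at hc
    have := hr.two_le
    exact h3 2 Nat.prime_two (x ^ r) x g (by omega) (by omega) (by omega)
      ⟨dvd_of_eq hxr.symm, hx ▸ dvd_mul_right 2 r, hg⟩
  · by_contra hc
    push Not at hc
    exact h3 r hr (x ^ 2) x g (by omega) (by omega) (by omega)
      ⟨dvd_of_eq hx2.symm, hx ▸ dvd_mul_left r 2, hg⟩

variable [IsSimpleGroup G]

theorem four_le_of_psl (hna : ∃ a b : G, a * b ≠ b * a) {F : Type} [Field F] [Fintype F]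
    (e : G ≃* Matrix.ProjectiveSpecialLinearGroup (Fin 2) F) : 4 ≤ Fintype.card F := by
  by_contra hlt
  have := Fintype.one_lt_card (α := F)
  have hcard := CITSolv.card_psl_two (F := F) (q := Fintype.card F) rfl
  rw [← Nat.card_congr e.toEquiv] at hcard
  obtain ⟨a, b, hab⟩ := hna
  refine hab (IsSimpleGroup.comm_iff_isSolvable.2 ?_ a b)
  rcases (by omega : Fintype.card F = 2 ∨ Fintype.card F = 3) with h2 | h2 <;> rw [h2] at hcard <;>
    norm_num at hcard
  · exact Cfsg.Agent.S0144.result 2 3 1 1 Nat.prime_two Nat.prime_three (by omega)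
  · exact Cfsg.Agent.S0144.result 2 3 2 1 Nat.prime_two Nat.prime_three (by omega)

/-- The simple groups with at most one composite order, given the classification of the groups
satisfying `Hyp`. -/
theorem groupList_of
    (hpsl : ∀ r : ℕ, Hyp G r → ∃ (F : Type) (_ : Field F) (_ : Fintype F),
      Nonempty (G ≃* Matrix.ProjectiveSpecialLinearGroup (Fin 2) F))
    (hcit : (∀ t : G, orderOf t = 2 → IsPGroup 2 (centralizer ({t} : Set G))) →
      PrimeGraphCIT.CITList G)
    (hna : ∃ a b : G, a * b ≠ b * a) (h : OneComposite.AtMostOne G) :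
    OneComposite.GroupList G := by
  rcases cit_or_double (G := G) with hC | ⟨r, hr, hr2, x, hx⟩
  · exact OneComposite.list_of_citList hna h (hcit hC)
  · obtain ⟨F, iF, iFF, ⟨e⟩⟩ := hpsl r (hyp_of_atMostOne h hr hr2 hx)
    exact OneComposite.psl_list h (four_le_of_psl hna e) e

end Cfsg.Agent.TwoR
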