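import Cfsg.Agent.TwoR.CaseI
import Cfsg.Agent.TwoR.Reduce
import Cfsg.Agent.CITPair.Main

/-!
Simple groups with even element orders `2, 2r`: only the Klein case remains.
-/

set_option autoImplicit false
set_option linter.unusedSectionVars false

open Subgroup

namespace Cfsg.Agent.TwoR

universe u

variable {G : Type u} [Group G] [Finite G] [IsSimpleGroup G]

/-- The interface of the second case. -/
def FixedCase (G : Type u) [Group G] : Prop :=
  ∀ {r : ℕ} {T : Sylow 2 G}, Loc T r → ∀ {x a : G}, x ∈ NT T →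
    x ∉ centralizer ((T : Subgroup G) : Set G) → a ∈ (T : Subgroup G) → a ≠ 1 → Commute x a → False

theorem Hyp.klein {r : ℕ} (H : Hyp G r) (hII : FixedCase G) (T : Sylow 2 G) :
    Nat.card (T : Subgroup G) = 4 ∧ coreOf (T : Subgroup G) = ⊥ := by
  by_contra hne
  have L : Loc T r := ⟨H, fun a ha ha1 => H.core_le_coreOf T hne ha ha1⟩
  by_cases hs : ∀ b ∈ NT T, ∀ a ∈ (T : Subgroup G), a ≠ 1 → Commute b a →
      b ∈ centralizer ((T : Subgroup G) : Set G)
  · exact (Semi.mk L hs).false
  · push Not at hs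
    obtain ⟨b, hb, a, ha, ha1, hc, hbC⟩ := hs
    exact hII L hb hbC ha ha1 hc

theorem cit_list (hna : ∃ a b : G, a * b ≠ b * a)
    (hC : ∀ t : G, orderOf t = 2 → IsPGroup 2 (centralizer ({t} : Set G))) :
    PrimeGraphCIT.CITList G :=
  CITPair.classification hna hC

/-- The interface of the Klein case. -/
def KleinCase (G : Type u) [Group G] : Prop :=
  ∀ {r : ℕ}, Hyp G r → ∀ T : Sylow 2 G, Nat.card (T : Subgroup G) = 4 →
    coreOf (T : Subgroup G) = ⊥ → ∃ (F : Type) (_ : Field F) (_ : Fintype F),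
      (Fintype.card F % 8 = 3 ∨ Fintype.card F % 8 = 5) ∧
        Nonempty (G ≃* Matrix.ProjectiveSpecialLinearGroup (Fin 2) F)

theorem Hyp.psl {r : ℕ} (H : Hyp G r) (hK : KleinCase G) (hII : FixedCase G) :
    ∃ (F : Type) (_ : Field F) (_ : Fintype F),
      (Fintype.card F % 8 = 3 ∨ Fintype.card F % 8 = 5) ∧
        Nonempty (G ≃* Matrix.ProjectiveSpecialLinearGroup (Fin 2) F) := by
  obtain ⟨h4, hO⟩ := H.klein hII default
  exact hK H default h4 hO

theorem groupList (hK : KleinCase G) (hII : FixedCase G) (hna : ∃ a b : G, a * b ≠ b * a)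
    (h : OneComposite.AtMostOne G) : OneComposite.GroupList G :=
  groupList_of (fun _ H => by
      obtain ⟨F, iF, iFF, -, e⟩ := H.psl hK hII
      exact ⟨F, iF, iFF, e⟩)
    (cit_list hna) hna h

end Cfsg.Agent.TwoR
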