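import Cfsg.Agent.TwoR.Core
import Cfsg.Agent.Invol.SEPairs

/-!
The normaliser of the Sylow 2-subgroup as a strongly embedded subgroup, and transfer evaluations.
-/

set_option autoImplicit false
set_option linter.unusedSectionVars false

open Subgroup
open scoped commutatorElement Pointwise

namespace Cfsg.Agent.TwoR

universe u

variable {G : Type u} [Group G] [Finite G] {r : ℕ}

/-- All odd cores of involution centralisers lie in `O(C(T))`. -/
structure Loc (T : Sylow 2 G) (r : ℕ) : Prop where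
  hyp : Hyp G r
  loc : ∀ a ∈ (T : Subgroup G), a ≠ 1 → core a ≤ coreOf (T : Subgroup G)

/-- The normaliser of the Sylow subgroup. -/
abbrev NT (T : Sylow 2 G) : Subgroup G := normalizer ((T : Subgroup G) : Set G)

/-- A product over a set permuted by an element of prime order reduces to the fixed points. -/
theorem prod_eq_prod_fixed {Ω A : Type*} [Fintype Ω] [DecidableEq Ω] [CommGroup A]
    (σ : Equiv.Perm Ω) (f : Ω → A) {r : ℕ} (hr : r.Prime) (hσ : σ ^ r = 1)
    (hf : ∀ x, f (σ x) = f x) (hA : ∀ a : A, a ^ r = 1) :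
    ∏ x, f x = ∏ x ∈ Finset.univ.filter (fun x => σ x = x), f x := by
  have key : ∀ s : Finset Ω, (∀ x ∈ s, σ x ∈ s) → (∀ x ∈ s, σ x ≠ x) → ∏ x ∈ s, f x = 1 := by
    intro s
    induction s using Finset.strongInductionOn with
    | _ s ih =>
    intro hs hne
    rcases s.eq_empty_or_nonempty with rfl | ⟨x, hx⟩
    · simp
    have hfi : ∀ i : ℕ, f ((σ ^ i) x) = f x := by
      intro i
      induction i with
      | zero => simp
      | succ i ihi => rw [pow_succ', Equiv.Perm.mul_apply, hf, ihi]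
    have hmem : ∀ i : ℕ, (σ ^ i) x ∈ s := by
      intro i
      induction i with
      | zero => simpa using hx
      | succ i ihi => rw [pow_succ', Equiv.Perm.mul_apply]; exact hs _ ihi
    have hinj : Set.InjOn (fun i => (σ ^ i) x) (Finset.range r) := by
      suffices h : ∀ i j : ℕ, i < j → j < r → (σ ^ i) x ≠ (σ ^ j) x by
        intro i hi j hj e
        rcases lt_trichotomy i j with hlt | rfl | hlt
        · exact absurd e (h i j hlt (Finset.mem_range.1 hj))
        · rfl
        · exact absurd e.symm (h j i hlt (Finset.mem_range.1 hi))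
      intro i j hij hj e
      obtain ⟨d, rfl⟩ := Nat.exists_eq_add_of_lt hij
      rw [add_assoc, pow_add, Equiv.Perm.mul_apply] at e
      have h1 : (σ ^ (d + 1)) x = x := ((σ ^ i).injective e).symm
      have hst : σ ^ (d + 1) ∈ MulAction.stabilizer (Equiv.Perm Ω) x := h1
      have hcop : (d + 1).Coprime (orderOf σ) := by
        refine Nat.Coprime.coprime_dvd_right (orderOf_dvd_of_pow_eq_one hσ) ?_
        exact (hr.coprime_iff_not_dvd.2
          (Nat.not_dvd_of_pos_of_lt (Nat.succ_pos d) (by omega))).symm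
      obtain ⟨k, hk⟩ := exists_pow_eq_self_of_coprime hcop
      exact hne x hx (hk ▸ pow_mem hst k)
    set o := (Finset.range r).image fun i => (σ ^ i) x with ho
    have hos : o ⊆ s := Finset.image_subset_iff.2 fun i _ => hmem i
    have hxo : x ∈ o := Finset.mem_image.2 ⟨0, Finset.mem_range.2 hr.pos, by simp⟩
    rw [← Finset.prod_sdiff hos, ih (s \ o) (Finset.sdiff_ssubset hos ⟨x, hxo⟩) ?_
      (fun y hy => hne y (Finset.mem_sdiff.1 hy).1), one_mul, Finset.prod_image hinj]
    · rw [Finset.prod_congr rfl (fun i _ => hfi i), Finset.prod_const, Finset.card_range, hA]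
    · intro y hy
      rw [Finset.mem_sdiff] at hy ⊢
      refine ⟨hs y hy.1, fun h => hy.2 ?_⟩
      obtain ⟨i, -, hi⟩ := Finset.mem_image.1 h
      refine Finset.mem_image.2 ⟨(i + (r - 1)) % r, Finset.mem_range.2 (Nat.mod_lt _ hr.pos), ?_⟩
      have h1 : σ ^ ((i + (r - 1)) % r) = σ ^ (i + (r - 1)) := by
        conv_rhs => rw [← Nat.mod_add_div (i + (r - 1)) r, pow_add, pow_mul, hσ, one_pow, mul_one]
      rw [h1, add_comm, pow_add, Equiv.Perm.mul_apply, hi, ← Equiv.Perm.mul_apply, ← pow_succ,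
        Nat.sub_add_cancel hr.pos, hσ, Equiv.Perm.one_apply]
  rw [← Finset.prod_filter_mul_prod_filter_not Finset.univ (fun x => σ x = x) f,
    key (Finset.univ.filter fun x => ¬ σ x = x) (fun x hx => ?_)
      (fun x hx => (Finset.mem_filter.1 hx).2), mul_one]
  rw [Finset.mem_filter] at hx ⊢
  exact ⟨Finset.mem_univ _, fun e => hx.2 (σ.injective e)⟩

section Transfer

variable {M : Subgroup G} {A : Type*} [CommGroup A] (ε : M →* A)

open scoped _root_.Classical in
/-- The value of `ε` at the conjugate of `g` attached to a coset. -/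
noncomputable def img (g : G) (q : G ⧸ M) : A :=
  if h : q.out⁻¹ * g * q.out ∈ M then ε ⟨_, h⟩ else 1

theorem img_mk (g h : G) (hh : h⁻¹ * g * h ∈ M) :
    img ε g (QuotientGroup.mk h) = ε ⟨h⁻¹ * g * h, hh⟩ := by
  obtain ⟨m, hm⟩ := QuotientGroup.mk_out_eq_mul M h
  have h1 : (QuotientGroup.mk h : G ⧸ M).out⁻¹ * g * (QuotientGroup.mk h : G ⧸ M).out =
      ((m⁻¹ * ⟨h⁻¹ * g * h, hh⟩ * m : M) : G) := by
    rw [hm]
    simp [mul_assoc]
  unfold img
  rw [dif_pos (h1 ▸ (m⁻¹ * ⟨h⁻¹ * g * h, hh⟩ * m : M).2)]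
  rw [show (⟨_, h1 ▸ (m⁻¹ * ⟨h⁻¹ * g * h, hh⟩ * m : M).2⟩ : M) = m⁻¹ * ⟨h⁻¹ * g * h, hh⟩ * m
    from Subtype.ext h1, map_mul, map_mul, map_inv, mul_comm _ (ε m), mul_inv_cancel_left]

theorem img_eq_one_of_not_fixed (g : G) {q : G ⧸ M} (hq : g • q ≠ q) : img ε g q = 1 := by
  unfold img
  rw [dif_neg fun h => hq ?_]
  conv_lhs => rw [← q.out_eq']
  conv_rhs => rw [← q.out_eq']
  rw [MulAction.Quotient.smul_mk, smul_eq_mul, QuotientGroup.eq]
  have := inv_mem h
  simpa [mul_assoc] using this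

theorem img_smul_of_commute {g c : G} (hc : Commute g c) (q : G ⧸ M) :
    img ε g (c • q) = img ε g q := by
  by_cases hq : g • q = q
  · obtain ⟨h, rfl⟩ := QuotientGroup.mk_surjective q
    rw [MulAction.Quotient.smul_mk, smul_eq_mul, QuotientGroup.eq] at hq
    have hh : h⁻¹ * g * h ∈ M := by
      have := inv_mem hq
      simpa [mul_assoc] using this
    have hch : (c * h)⁻¹ * g * (c * h) = h⁻¹ * g * h := by
      calc (c * h)⁻¹ * g * (c * h) = h⁻¹ * c⁻¹ * (g * c) * h := by group
        _ = h⁻¹ * g * h := by rw [hc.eq]; group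
    rw [MulAction.Quotient.smul_mk, smul_eq_mul, img_mk ε g (c * h) (hch ▸ hh), img_mk ε g h hh]
    simp only [hch]
  · have hq' : g • (c • q) ≠ c • q := fun e => hq (by
      rw [smul_smul, hc.eq, ← smul_smul] at e
      exact (MulAction.injective c) e)
    rw [img_eq_one_of_not_fixed ε g hq', img_eq_one_of_not_fixed ε g hq]

open scoped _root_.Classical in
theorem transfer_eq_prod_img [Fintype (G ⧸ M)] {g : G} {p : ℕ} (hp : p.Prime) (hg : g ^ p = 1) :
    ε.transfer g = ∏ q : G ⧸ M, img ε g q := by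
  set Q := Quotient (MulAction.orbitRel (zpowers g) (G ⧸ M))
  have : Fintype Q := Fintype.ofFinite Q
  rw [MonoidHom.transfer_eq_prod_quotient_orbitRel_zpowers_quot]
  have hper : ∀ q : G ⧸ M, Function.minimalPeriod (g • ·) q = 1 ∨
      Function.minimalPeriod (g • ·) q = p := by
    intro q
    refine hp.eq_one_or_self_of_dvd _ (Function.IsPeriodicPt.minimalPeriod_dvd ?_)
    show (g • ·)^[p] q = q
    rw [smul_iterate_apply, hg, one_smul]
  symm
  rw [← Finset.prod_filter_of_ne (p := fun q => g • q = q)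
    fun q _ hne => by_contra fun hq => hne (img_eq_one_of_not_fixed ε g hq)]
  refine Finset.prod_bij_ne_one (fun q _ _ => (Quotient.mk'' q : Q)) (fun _ _ _ => Finset.mem_univ _)
    ?_ ?_ ?_
  · intro q₁ h₁ _ q₂ _ _ e
    obtain ⟨⟨z, hz⟩, hzq⟩ := (Quotient.eq''.1 e : MulAction.orbitRel (zpowers g) _ q₁ q₂)
    obtain ⟨k, rfl⟩ := Subgroup.mem_zpowers_iff.1 hz
    have hfix := (Finset.mem_filter.1 h₁).2
    rw [← hzq]
    show g ^ k • q₂ = q₂
    have h2 : g ∈ MulAction.stabilizer G q₂ := by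
      have h3 : g • (g ^ k • q₂) = g ^ k • q₂ := by
        have : g ^ k • q₂ = q₁ := hzq
        rw [this]; exact hfix
      rw [smul_smul, ((Commute.refl g).zpow_right k).eq, ← smul_smul] at h3
      exact (MulAction.injective (g ^ k)) h3
    exact zpow_mem h2 k
  · intro o _ ho
    rcases hper o.out with h1 | h1
    · refine ⟨o.out, Finset.mem_filter.2 ⟨Finset.mem_univ _, ?_⟩, ?_, o.out_eq'⟩
      · exact Function.minimalPeriod_eq_one_iff_isFixedPt.1 h1
      · intro he
        apply ho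
        rw [← he]
        unfold img
        rw [dif_pos]
        · congr 1
          simp [h1]
        · have := QuotientGroup.out_conj_pow_minimalPeriod_mem M g o.out
          simpa [h1] using this
    · refine absurd ?_ ho
      convert map_one ε using 2
      exact Subtype.ext (by simp [h1, hg])
  · intro q hq _
    obtain ⟨-, hfix⟩ := Finset.mem_filter.1 hq
    have hout : (Quotient.mk'' q : Q).out = q := by
      obtain ⟨⟨z, hz⟩, hzq⟩ := (Quotient.eq''.1 (Quotient.out_eq' (Quotient.mk'' q : Q)) :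
        MulAction.orbitRel (zpowers g) _ _ q)
      obtain ⟨k, rfl⟩ := Subgroup.mem_zpowers_iff.1 hz
      rw [← hzq]
      exact zpow_mem (show g ∈ MulAction.stabilizer G q from hfix) k
    have h1 : Function.minimalPeriod (g • ·) q = 1 :=
      Function.minimalPeriod_eq_one_iff_isFixedPt.2 hfix
    unfold img
    rw [dif_pos]
    · congr 1
      simp [hout, h1]
    · have := QuotientGroup.out_conj_pow_minimalPeriod_mem M g q
      simpa [h1] using this

end Transfer

variable [IsSimpleGroup G]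

open scoped _root_.Classical in
/-- In a simple group the transfer into an abelian group is trivial. -/
theorem prod_img_eq_one (hna : commutator G = ⊤) {M : Subgroup G} {A : Type*} [CommGroup A]
    (ε : M →* A) [Fintype (G ⧸ M)] {g : G} {p : ℕ} (hp : p.Prime) (hg : g ^ p = 1) :
    ∏ q : G ⧸ M, img ε g q = 1 := by
  rw [← transfer_eq_prod_img ε hp hg]
  have h1 : g ∈ commutator G := hna ▸ Subgroup.mem_top g
  exact Abelianization.commutator_subset_ker ε.transfer h1

variable {T : Sylow 2 G} (L : Loc T r)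

include L

theorem Loc.mem_NT_of_commute {a g : G} (ha : a ∈ (T : Subgroup G)) (ha1 : a ≠ 1)
    (hg : Commute g a) : g ∈ NT T := by
  obtain ⟨o, ho, n, hn, -, rfl⟩ := L.hyp.exists_mul_normalizer T ha ha1 hg
  exact mul_mem (centralizer_le_normalizer _ ((L.hyp.mem_coreOf_iff T).1 (L.loc a ha ha1 ho)).1) hn

theorem Loc.invol_mem {t : G} (ht : orderOf t = 2) (htN : t ∈ NT T) : t ∈ (T : Subgroup G) :=
  L.hyp.mem_sylow_of_normalizer T htN (k := 1) (by rw [ht, pow_one])

theorem Loc.NT_ne_top : NT T ≠ ⊤ := by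
  intro h
  obtain ⟨a, ha, ha1⟩ := L.hyp.exists_sylow_invol T
  rcases (Subgroup.normalizer_eq_top_iff.1 h).eq_bot_or_eq_top with h1 | h1
  · exact ha1 (Subgroup.mem_bot.1 (h1 ▸ ha))
  · refine L.hyp.not_comm fun x y => ?_
    exact congrArg Subtype.val ((L.hyp.sylow_comm T).is_comm.comm
      ⟨x, h1 ▸ Subgroup.mem_top x⟩ ⟨y, h1 ▸ Subgroup.mem_top y⟩)

theorem Loc.stronglyEmbedded : Cfsg.IsStronglyEmbedded (NT T) := by
  have : Fact (Nat.Prime 2) := ⟨Nat.prime_two⟩
  obtain ⟨a, ha, ha1⟩ := L.hyp.exists_sylow_invol T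
  refine (Invol.se_iff _).2 ⟨L.NT_ne_top, even_iff_two_dvd.2 ?_, fun t g ht htH htg => ?_⟩
  · exact (L.hyp.sylow_invol T ha ha1) ▸ Subgroup.orderOf_dvd_natCard _ (Subgroup.le_normalizer ha)
  · have htT := L.invol_mem ht htH
    have htgT : g⁻¹ * t * g ∈ (T : Subgroup G) := by
      refine L.invol_mem ?_ htg
      have := orderOf_conj_eq g⁻¹ t
      rw [inv_inv] at this
      rw [this, ht]
    obtain ⟨n, hn, hne⟩ := Fusion.exists_mem_normalizer_conj_of_isMulCommutative T
      (L.hyp.sylow_comm T) htT g⁻¹ (by rwa [inv_inv])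
    rw [inv_inv] at hne
    have ht1 : t ≠ 1 := fun h => by rw [h, orderOf_one] at ht; omega
    have hc : Commute (g * n) t := by
      have h1 : g * n * t = t * (g * n) := by
        calc g * n * t = g * (n * t * n⁻¹) * n := by group
          _ = g * (g⁻¹ * t * g) * n := by rw [hne]
          _ = t * (g * n) := by group
      exact h1
    have h2 := mul_mem (L.mem_NT_of_commute htT ht1 hc) (inv_mem hn)
    rwa [mul_inv_cancel_right] at h2

theorem Loc.invol_not_fix {t g : G} (ht : t ∈ (T : Subgroup G)) (ht1 : t ≠ 1) (hg : g ∉ NT T) :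
    g⁻¹ * t * g ∉ NT T := fun h =>
  hg (Invol.se_mem L.stronglyEmbedded (L.hyp.sylow_invol T ht ht1) (Subgroup.le_normalizer ht) h)

theorem Loc.card_invol : Nat.card {t : G // orderOf t = 2 ∧ t ∈ NT T} =
    Nat.card (T : Subgroup G) - 1 := by
  classical
  have := Fintype.ofFinite G
  have h1 : Nat.card {t : (T : Subgroup G) // t ≠ 1} = Nat.card (T : Subgroup G) - 1 := by
    rw [Nat.card_eq_fintype_card, Nat.card_eq_fintype_card, Fintype.card_subtype_compl,
      Fintype.card_subtype_eq]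
  rw [← h1]
  exact Nat.card_congr
    { toFun := fun t => ⟨⟨t, L.invol_mem t.2.1 t.2.2⟩, fun h => by
        have h2 : (t : G) = 1 := congrArg Subtype.val h
        have h3 := t.2.1
        rw [h2, orderOf_one] at h3
        omega⟩
      invFun := fun t => ⟨t.1, L.hyp.sylow_invol T t.1.2 (fun h => t.2 (Subtype.ext h)),
        Subgroup.le_normalizer t.1.2⟩
      left_inv := fun t => rfl
      right_inv := fun t => rfl }

/-- Every point outside the base point is reached by an involution. -/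
theorem Loc.exists_swap {g : G} (hg : g ∉ NT T) :
    ∃ u : G, orderOf u = 2 ∧ u ∉ NT T ∧ u⁻¹ * g ∈ NT T := by
  obtain ⟨t, ht, ht2⟩ := Invol.se_exists_involution L.stronglyEmbedded
  have h1 := Invol.card_involutions_coset L.stronglyEmbedded (q := QuotientGroup.mk g)
    (fun e => hg (by simpa using (QuotientGroup.eq.1 e.symm)))
  have : Nonempty {t : G // orderOf t = 2 ∧ t ∈ NT T} := ⟨⟨t, ht2, ht⟩⟩
  obtain ⟨⟨u, hu, he⟩⟩ := (Nat.card_pos_iff.1 (lt_of_lt_of_eq Nat.card_pos h1.symm)).1
  rw [MulAction.Quotient.smul_mk, smul_eq_mul, mul_one, QuotientGroup.eq] at he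
  refine ⟨u, hu, fun h => hg ?_, he⟩
  have := mul_mem h he
  rwa [mul_inv_cancel_left] at this

/-- A swapping involution inverts exactly `|T| - 1` elements of `N(T)`. -/
theorem Loc.card_inverted {u : G} (hu : orderOf u = 2) (huM : u ∉ NT T) :
    Nat.card {e : G // e ∈ NT T ∧ u * e * u = e⁻¹} = Nat.card (T : Subgroup G) - 1 := by
  have hu2 : u * u = 1 := by rw [← pow_two, ← hu, pow_orderOf_eq_one]
  have hui : u⁻¹ = u := inv_eq_of_mul_eq_one_right hu2
  rw [← L.card_invol, ← Invol.card_involutions_coset L.stronglyEmbedded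
    (q := QuotientGroup.mk u) (fun e => huM (by simpa using (QuotientGroup.eq.1 e.symm)))]
  refine Nat.card_congr
    { toFun := fun e => ⟨u * e, orderOf_eq_prime ?_ ?_, ?_⟩
      invFun := fun w => ⟨u * w, ?_, ?_⟩
      left_inv := fun e => Subtype.ext ?_
      right_inv := fun w => Subtype.ext ?_ }
  · rw [pow_two, show u * (e : G) * (u * e) = u * e * u * e by group, e.2.2, inv_mul_cancel]
  · intro h
    have h2 : (e : G) = u := by rw [eq_inv_of_mul_eq_one_right h, hui]
    exact huM (h2 ▸ e.2.1)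
  · rw [MulAction.Quotient.smul_mk, smul_eq_mul, mul_one, QuotientGroup.eq, mul_inv_rev,
      inv_mul_cancel_right]
    exact inv_mem e.2.1
  · have h := w.2.2
    rw [MulAction.Quotient.smul_mk, smul_eq_mul, mul_one, QuotientGroup.eq] at h
    have := inv_mem h
    rwa [mul_inv_rev, inv_inv, hui] at this
  · have hw2 : (w : G) ^ 2 = 1 := orderOf_dvd_iff_pow_eq_one.1 (dvd_of_eq w.2.1)
    have hw : (w : G)⁻¹ = w := inv_eq_of_mul_eq_one_right ((pow_two (w : G)).symm.trans hw2)
    rw [← mul_assoc u u, hu2, one_mul, mul_inv_rev, hw, hui]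
  · show u * (u * (e : G)) = e
    rw [← mul_assoc, hu2, one_mul]
  · show u * (u * (w : G)) = w
    rw [← mul_assoc, hu2, one_mul]

/-- The two-point stabiliser is transitive on the involutions of `T`. -/
theorem Loc.exists_trans {u a b : G} (hu : orderOf u = 2) (huM : u ∉ NT T)
    (ha : a ∈ (T : Subgroup G)) (ha1 : a ≠ 1) (hb : b ∈ (T : Subgroup G)) (hb1 : b ≠ 1) :
    ∃ d ∈ NT T, u * d * u ∈ NT T ∧ d * a * d⁻¹ = b := by
  obtain ⟨d, ⟨(hd : d ∈ NT T), (hd' : d ∈ (NT T).map (MulAut.conj u).toMonoidHom)⟩, he⟩ := Invol.se_inter_transitive L.stronglyEmbedded hu huM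
    (L.hyp.sylow_invol T ha ha1) (Subgroup.le_normalizer ha)
    (L.hyp.sylow_invol T hb hb1) (Subgroup.le_normalizer hb)
  rw [Invol.mem_map_conj_iff,
    show u⁻¹ = u from inv_eq_of_mul_eq_one_right (by rw [← pow_two, ← hu, pow_orderOf_eq_one])] at hd'
  exact ⟨d, hd, hd', he⟩

theorem Loc.not_isCyclic : ¬ IsCyclic (T : Subgroup G) := by
  intro hc
  obtain ⟨g, hg⟩ := hc.exists_generator
  have h1 := orderOf_eq_card_of_forall_mem_zpowers hg
  have h4 := L.hyp.four_le_card T
  rw [← h1, ← Subgroup.orderOf_coe] at h4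
  rcases eq_or_ne (g : G) 1 with h | h
  · rw [h, orderOf_one] at h4; omega
  · rw [L.hyp.sylow_invol T g.2 h] at h4; omega

/-- The centraliser of a non-trivial element of `O(C(T))` lies in `N(T)`. -/
theorem Loc.centralizer_coreOf_le {w : G} (hw : w ∈ coreOf (T : Subgroup G)) (hw1 : w ≠ 1) :
    centralizer ({w} : Set G) ≤ NT T := by
  have : Fact (Nat.Prime 2) := ⟨Nat.prime_two⟩
  have hwr : orderOf w = r := by
    have := Fact.mk L.hyp.prime
    exact orderOf_eq_prime (L.hyp.coreOf_pow T hw) hw1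
  set X := centralizer ({w} : Set G) with hX
  have := L.hyp.isSolvable_centralizer_r hwr
  have hTX : (T : Subgroup G) ≤ X := fun t ht =>
    Subgroup.mem_centralizer_singleton_iff.2 (L.hyp.commute_coreOf T hw ht).eq.symm
  have hT' : IsMulCommutative ((T.subtype hTX : Sylow 2 X) : Subgroup X) :=
    ⟨⟨fun x y => Subtype.ext (Subtype.ext
      (congrArg Subtype.val ((L.hyp.sylow_comm T).is_comm.comm ⟨(x : G), x.2⟩ ⟨(y : G), y.2⟩) :))⟩⟩
  set O := (Cfsg.pPrimeCore 2 X).map X.subtype with hO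
  have hTO : (T : Subgroup G) ≤ normalizer (O : Set G) := by
    intro t ht
    refine Subgroup.mem_normalizer_iff_map_conj_eq.2 (Subgroup.eq_of_le_of_card_ge ?_ ?_)
    · rintro _ ⟨_, ⟨y, hy, rfl⟩, rfl⟩
      exact ⟨⟨t, hTX ht⟩ * y * ⟨t, hTX ht⟩⁻¹,
        (Core.pPrimeCore_normal (p := 2) (G := X)).conj_mem y hy _, rfl⟩
    · exact le_of_eq (Subgroup.card_map_of_injective (MulAut.conj t).injective).symm
  have hcop : (Nat.card (T : Subgroup G)).Coprime (Nat.card O) := by
    obtain ⟨k, hk⟩ := T.2.exists_card_eq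
    rw [hk, hO, Subgroup.card_map_of_injective X.subtype_injective]
    exact Nat.Coprime.pow_left k Core.coprime_card_pPrimeCore.symm
  have := L.hyp.sylow_comm T
  have hON : O ≤ NT T := by
    rw [← Coprime.iSup_centralizer_eq L.not_isCyclic hTO hcop]
    exact iSup₂_le fun a ha => fun y hy =>
      L.mem_NT_of_commute ha.1 ha.2 (Subgroup.mem_centralizer_singleton_iff.1 hy.2)
  intro y hy
  obtain ⟨o, ho, n, hn, he⟩ := exists_core_mul (T.subtype hTX) hT' ⟨y, hy⟩
  rw [show y = (o : G) * n from congrArg Subtype.val he]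
  refine mul_mem (hON ⟨o, ho, rfl⟩) ?_
  rw [Subgroup.mem_normalizer_iff] at hn ⊢
  intro x
  constructor
  · intro hx
    exact (hn ⟨x, hTX hx⟩).1 hx
  · intro hx
    have hxa : x ∈ X := by
      have h1 := mul_mem (mul_mem (inv_mem n.2) (hTX hx)) n.2
      simpa [mul_assoc] using h1
    exact (hn ⟨x, hxa⟩).2 hx

end Cfsg.Agent.TwoR
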